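import Groth.Agent.EtCore45.MVSect
import Groth.Agent.SiteCoh.ExtCompare
import Groth.Agent.SiteCoh.Free

/-!
Cohomology of open subschemes as Ext groups out of extensions by zero, compatibly with restriction.
-/

set_option autoImplicit false
set_option backward.isDefEq.respectTransparency.types false
universe u w v₁ v₂ v₃ u₁ u₂ u₃

open CategoryTheory CategoryTheory.Limits CategoryTheory.Abelian AlgebraicGeometry Opposite

namespace Groth.Agent.EtCore45.MV

/-- Exact functors compared by a natural transformation act compatibly on Ext classes. -/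
theorem mapExt_natural {A : Type u₁} [Category.{v₁} A] [Abelian A] [HasExt.{w} A] [EnoughInjectives A]
    {B : Type u₂} [Category.{v₂} B] [Abelian B] [HasExt.{w} B]
    {D : Type u₃} [Category.{v₃} D] [Abelian D] [HasExt.{w} D]
    (F : A ⥤ B) [F.Additive] [PreservesFiniteLimits F] [PreservesFiniteColimits F]
    (G : B ⥤ D) [G.Additive] [PreservesFiniteLimits G] [PreservesFiniteColimits G]
    (H : A ⥤ D) [H.Additive] [PreservesFiniteLimits H] [PreservesFiniteColimits H]
    (η : F ⋙ G ⟶ H) :
    ∀ (n : ℕ) {P Q : A} (e : Ext.{w} P Q n),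
      ((e.mapExactFunctor F).mapExactFunctor G).comp (Ext.mk₀ (η.app Q)) (add_zero n) =
        (Ext.mk₀ (η.app P)).comp (e.mapExactFunctor H) (zero_add n) := by
  intro n
  induction n with
  | zero =>
    intro P Q e
    obtain ⟨φ, rfl⟩ := (Ext.mk₀_bijective P Q).2 e
    simp only [Ext.mapExactFunctor_mk₀, Ext.mk₀_comp_mk₀]
    exact congrArg Ext.mk₀ (η.naturality φ)
  | succ n ih =>
    intro P Q e
    let S : ShortComplex A :=
      ShortComplex.mk (Injective.ι Q) (cokernel.π (Injective.ι Q)) (cokernel.condition _)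
    have hS : S.ShortExact :=
      { exact := ShortComplex.exact_of_g_is_cokernel _ (cokernelIsCokernel (Injective.ι Q))
        mono_f := inferInstanceAs (Mono (Injective.ι Q))
        epi_g := inferInstanceAs (Epi (cokernel.π _)) }
    obtain ⟨s, rfl⟩ : ∃ s : Ext.{w} P S.X₃ n, s.comp hS.extClass rfl = e :=
      Ext.covariant_sequence_exact₁ P hS e
        (Subsingleton.elim (h := Ext.subsingleton_of_injective.{w} P (Injective.under Q) n) _ _) rfl
    let φ : (S.map F).map G ⟶ S.map H :=
      { τ₁ := η.app S.X₁, τ₂ := η.app S.X₂, τ₃ := η.app S.X₃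
        comm₁₂ := (η.naturality S.f).symm
        comm₂₃ := (η.naturality S.g).symm }
    have key := ShortComplex.ShortExact.extClass_naturality ((hS.map_of_exact F).map_of_exact G) (hS.map_of_exact H) φ
    rw [Ext.mapExactFunctor_comp, Ext.mapExactFunctor_comp, Ext.mapExactFunctor_comp,
      Ext.mapExactFunctor_extClass F hS, Ext.mapExactFunctor_extClass H hS]
    erw [Ext.mapExactFunctor_extClass G (hS.map_of_exact F)]
    refine (Ext.comp_assoc _ _ _ rfl (add_zero 1) (by omega)).trans ?_
    refine (congrArg (fun z => ((s.mapExactFunctor F).mapExactFunctor G).comp z rfl) key).trans ?_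
    refine (Ext.comp_assoc _ _ _ (add_zero n) (zero_add 1) (by omega)).symm.trans ?_
    refine (congrArg (fun z => Ext.comp z (hS.map_of_exact H).extClass rfl) (ih s)).trans ?_
    exact Ext.comp_assoc _ _ _ (zero_add n) rfl (by omega)

variable {U X : Scheme.{u}} (j : U ⟶ X) [Etale j]

instance (priority := low) preservesFiniteLimits_pull : PreservesFiniteLimits (EtCoh.pull j) := by
  have : PreservesLimitsOfSize.{0, 0} (EtShriek.restrAlong j) := (EtShriek.extZeroAdj j).rightAdjoint_preservesLimits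
  have : PreservesFiniteLimits (EtShriek.restrAlong j) := PreservesLimitsOfSize.preservesFiniteLimits _
  exact preservesFiniteLimits_of_natIso (pullRestrIso j).symm

/-- Extension by zero is left adjoint to inverse image. -/
noncomputable def shAdj : EtShriek.extZero j ⊣ EtCoh.pull j :=
  (EtShriek.extZeroAdj j).ofNatIsoRight (pullRestrIso j).symm

/-- The object representing cohomology over `U`. -/
noncomputable abbrev P : EtCoh.Ab X := (EtShriek.extZero j).obj (EtCoh.const U ℤ)

/-- The universal class. -/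
noncomputable def univ : EtCoh.const U ℤ ⟶ (EtCoh.pull j).obj (P j) := (shAdj j).unit.app _

theorem univ_bijective (A : EtCoh.Ab X) :
    Function.Bijective fun φ : P j ⟶ A => univ j ≫ (EtCoh.pull j).map φ := by
  have h : (fun φ : P j ⟶ A => univ j ≫ (EtCoh.pull j).map φ) = (shAdj j).homEquiv (EtCoh.const U ℤ) A :=
    funext fun φ => ((shAdj j).homEquiv_unit _ _ φ).symm
  rw [h]
  exact Equiv.bijective _

/-- The map to the constant sheaf. -/
noncomputable def cMap : P j ⟶ EtCoh.const X ℤ :=
  ((shAdj j).homEquiv _ _).symm (EtCore.pullConst j ℤ).inv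

theorem univ_cMap : univ j ≫ (EtCoh.pull j).map (cMap j) = (EtCore.pullConst j ℤ).inv :=
  ((shAdj j).homEquiv_unit _ _ (cMap j)).symm.trans (((shAdj j).homEquiv _ _).apply_symm_apply _)

/-- Sections corresponding to morphisms out of `P j`. -/
noncomputable def S {A : EtCoh.Ab X} (φ : P j ⟶ A) :
    EtCoh.sect A ((EtShriek.compEtale j).obj (EtCoh.top U)) :=
  sectOf j (univ j ≫ (EtCoh.pull j).map φ)

theorem S_bijective (A : EtCoh.Ab X) : Function.Bijective fun φ : P j ⟶ A => S j φ :=
  (sectOf_bijective j A).comp (univ_bijective j A)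

theorem S_cMap [Mono j] {A : EtCoh.Ab X} (φ : EtCoh.const X ℤ ⟶ A)
    (d : (EtShriek.compEtale j).obj (EtCoh.top U) ⟶ EtCoh.top X) :
    S j (cMap j ≫ φ) = A.obj.map d.op (oneSect φ) := by
  rw [← sectOf_global j φ d, S, Functor.map_comp, ← Category.assoc, univ_cMap]

section Transfer

variable [PreservesFiniteLimits (EtCoh.pull j)]

/-- Cohomology over `U` from Ext groups out of `P j`. -/
noncomputable def tr (F : EtCoh.Ab X) (n : ℕ) :
    Ext (P j) F n →+ EtCoh.H U ((EtCoh.pull j).obj F) n :=
  SiteCoh.extTransfer (EtCoh.pull j) (univ j) F n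

theorem tr_bijective (F : EtCoh.Ab X) (n : ℕ) : Function.Bijective (tr j F n) :=
  SiteCoh.extTransfer_bijective (EtCoh.pull j) (univ j) (univ_bijective j)
    (fun J hJ m => by
      have := injective_pull j J
      exact Ext.subsingleton_of_injective _ _ m) n F

theorem tr_cMap (F : EtCoh.Ab X) (n : ℕ) (e : EtCoh.H X F n) :
    tr j F n ((Ext.mk₀ (cMap j)).comp e (zero_add n)) = EtCore.Hpull j F n e := by
  rw [tr, SiteCoh.extTransfer_apply, Ext.mapExactFunctor_comp, Ext.mapExactFunctor_mk₀,
    Ext.mk₀_comp_mk₀_assoc, univ_cMap]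
  rfl

end Transfer

variable {W : Scheme.{u}} (f : W ⟶ U) (h : W ⟶ X) [Etale h] (w : f ≫ j = h)

/-- The map inducing restriction from `U` to `W`. -/
noncomputable def aMap : P h ⟶ P j :=
  ((shAdj h).homEquiv _ _).symm ((EtCore.pullConst f ℤ).inv ≫ (EtCoh.pull f).map (univ j) ≫
    (((EtCore.pullComp f j).symm ≪≫ EtCore.pullCongr w).app (P j)).hom)

theorem univ_aMap : univ h ≫ (EtCoh.pull h).map (aMap j f h w) =
    (EtCore.pullConst f ℤ).inv ≫ (EtCoh.pull f).map (univ j) ≫
      (((EtCore.pullComp f j).symm ≪≫ EtCore.pullCongr w).app (P j)).hom :=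
  ((shAdj h).homEquiv_unit _ _ (aMap j f h w)).symm.trans (((shAdj h).homEquiv _ _).apply_symm_apply _)

theorem S_aMap [Mono j] {A : EtCoh.Ab X} (φ : P j ⟶ A)
    (d : (EtShriek.compEtale h).obj (EtCoh.top W) ⟶ (EtShriek.compEtale j).obj (EtCoh.top U)) :
    S h (aMap j f h w ≫ φ) = A.obj.map d.op (S j φ) := by
  refine Eq.trans (congrArg (sectOf h) ?_) (sectOf_restrict j f h w (univ j ≫ (EtCoh.pull j).map φ) d)
  rw [Functor.map_comp, Functor.map_comp, ← Category.assoc, univ_aMap]
  simp only [Category.assoc]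
  congr 2
  exact (((EtCore.pullComp f j).symm ≪≫ EtCore.pullCongr w).hom.naturality φ).symm

theorem HpullVia_tr [PreservesFiniteLimits (EtCoh.pull j)] [PreservesFiniteLimits (EtCoh.pull f)]
    [PreservesFiniteLimits (EtCoh.pull h)] (F : EtCoh.Ab X) (n : ℕ) (e : Ext (P j) F n) :
    EtCore.HpullVia f j h w F n (tr j F n e) = tr h F n ((Ext.mk₀ (aMap j f h w)).comp e (zero_add n)) := by
  have hn := mapExt_natural (EtCoh.pull j) (EtCoh.pull f) (EtCoh.pull h)
    ((EtCore.pullComp f j).symm ≪≫ EtCore.pullCongr w).hom n e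
  rw [tr, tr, SiteCoh.extTransfer_apply, SiteCoh.extTransfer_apply, Ext.mapExactFunctor_comp,
    Ext.mapExactFunctor_mk₀, Ext.mk₀_comp_mk₀_assoc, univ_aMap, ← Ext.mk₀_comp_mk₀_assoc,
    ← Ext.mk₀_comp_mk₀_assoc]
  change ((Ext.mk₀ (EtCore.pullConst f ℤ).inv).comp
    (((Ext.mk₀ (univ j)).comp (e.mapExactFunctor (EtCoh.pull j)) (zero_add n)).mapExactFunctor (EtCoh.pull f))
      (zero_add n)).comp (Ext.mk₀ _) (add_zero n) = _
  rw [Ext.comp_assoc_of_third_deg_zero, Ext.mapExactFunctor_comp, Ext.mapExactFunctor_mk₀,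
    Ext.comp_assoc_of_third_deg_zero]
  exact congrArg (fun z => (Ext.mk₀ (EtCore.pullConst f ℤ).inv).comp
    ((Ext.mk₀ ((EtCoh.pull f).map (univ j))).comp z (zero_add n)) (zero_add n)) hn

end Groth.Agent.EtCore45.MV
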