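import Mathlib.AlgebraicGeometry.Sites.Etale
import Mathlib.AlgebraicGeometry.Morphisms.Etale
import Mathlib.AlgebraicGeometry.Limits
import Mathlib.AlgebraicGeometry.Cover.Open
import Mathlib.AlgebraicGeometry.Morphisms.UniversallyOpen

/-!
Sheaf criterion on the small etale site: Zariski sheaf and single surjections between affines.
-/

set_option autoImplicit false
set_option backward.isDefEq.respectTransparency.types false
universe u w

open CategoryTheory CategoryTheory.Limits AlgebraicGeometry Opposite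

namespace Groth.Agent.EtCore45

variable {X : Scheme.{u}}

/-- Membership in the Zariski topology of the small etale site. -/
theorem mem_zar {U : X.Etale} (R : Sieve U) :
    R ∈ X.smallGrothendieckTopology (P := @IsOpenImmersion) U ↔
      ∀ x : U.left, ∃ (Y : X.Etale) (f : Y ⟶ U) (y : Y.left), R f ∧ IsOpenImmersion f.left ∧ f.left y = x := by
  rw [Scheme.smallGrothendieckTopology_eq_toGrothendieck_smallPretopology X
    (P := @IsOpenImmersion) (Q := @Etale) (fun _ _ f (h : IsOpenImmersion f) => inferInstanceAs (Etale f))]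
  exact Scheme.mem_toGrothendieck_smallPretopology (P := @IsOpenImmersion) U R

/-- Membership in the etale topology of the small etale site. -/
theorem mem_et {U : X.Etale} (R : Sieve U) :
    R ∈ X.smallEtaleTopology U ↔
      ∀ x : U.left, ∃ (Y : X.Etale) (f : Y ⟶ U) (y : Y.left), R f ∧ Etale f.left ∧ f.left y = x := by
  change R ∈ X.smallGrothendieckTopology (P := @Etale) U ↔ _
  rw [Scheme.smallGrothendieckTopology_eq_toGrothendieck_smallPretopology X (P := @Etale) (Q := @Etale) le_rfl]
  exact Scheme.mem_toGrothendieck_smallPretopology (P := @Etale) U R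

theorem etale_left {U V : X.Etale} (f : V ⟶ U) : Etale f.left := by
  have : Etale U.hom := U.prop
  have : Etale (f.left ≫ U.hom) := by rw [MorphismProperty.Over.w f]; exact V.prop
  exact Etale.of_comp f.left U.hom

theorem zar_le {U : X.Etale} {R : Sieve U} (h : R ∈ X.smallGrothendieckTopology (P := @IsOpenImmersion) U) :
    R ∈ X.smallEtaleTopology U := (mem_et R).2 fun x => by
  obtain ⟨Y, f, y, hf, -, hy⟩ := (mem_zar R).1 h x
  exact ⟨Y, f, y, hf, etale_left f, hy⟩

/-- An etale scheme over an etale `X`-scheme. -/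
noncomputable def objOf (U : X.Etale) {W : Scheme.{u}} (j : W ⟶ U.left) [Etale j] : X.Etale :=
  haveI : Etale U.hom := U.prop
  MorphismProperty.Over.mk _ (j ≫ U.hom) inferInstance

/-- Its structure map. -/
noncomputable def objOfHom (U : X.Etale) {W : Scheme.{u}} (j : W ⟶ U.left) [Etale j] : objOf U j ⟶ U :=
  MorphismProperty.Over.homMk j rfl

variable {F : X.Etaleᵒᵖ ⥤ Type w}
  (hZ : Presieve.IsSheaf (X.smallGrothendieckTopology (P := @IsOpenImmersion)) F)
  (hA : ∀ (U V : X.Etale) [IsAffine U.left] [IsAffine V.left] (f : V ⟶ U) [Surjective f.left],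
    Presieve.IsSheafFor F (Presieve.singleton f))

/-- Affine open pieces. -/
theorem affine_cover_mem (U : X.Etale) :
    Sieve.ofArrows (fun W : {W : U.left.Opens // IsAffineOpen W} => objOf U W.1.ι) (fun W => objOfHom U W.1.ι) ∈
      X.smallGrothendieckTopology (P := @IsOpenImmersion) U := (mem_zar _).2 fun x => by
  obtain ⟨W, hW, hx, -⟩ := exists_isAffineOpen_mem_and_subset (U := ⊤) (TopologicalSpace.Opens.mem_top x)
  exact ⟨_, _, (⟨x, hx⟩ : W), Sieve.ofArrows_mk _ _ (⟨W, hW⟩ : {W : U.left.Opens // IsAffineOpen W}),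
    inferInstanceAs (IsOpenImmersion W.ι), rfl⟩

/-- A covering sieve of an affine object contains a jointly surjective finite family of affines. -/
theorem exists_finite_affine {W : X.Etale} [IsAffine W.left] {S : Sieve W} (hS : S ∈ X.smallEtaleTopology W) :
    ∃ (ι : Type u) (_ : Finite ι) (P : ι → X.Etale) (_ : ∀ k, IsAffine (P k).left) (h : ∀ k, P k ⟶ W),
      (∀ k, S (h k)) ∧ ⋃ k, Set.range (h k).left = Set.univ := by
  have key : ∀ x : W.left, ∃ (P : X.Etale) (_ : IsAffine P.left) (h : P ⟶ W), S h ∧ x ∈ Set.range h.left := by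
    intro x
    obtain ⟨Y, f, y, hf, -, rfl⟩ := (mem_et S).1 hS x
    obtain ⟨O, hO, hy, -⟩ := exists_isAffineOpen_mem_and_subset (U := ⊤) (TopologicalSpace.Opens.mem_top y)
    exact ⟨objOf Y O.ι, hO, objOfHom Y O.ι ≫ f, S.downward_closed hf _, (⟨y, hy⟩ : O), rfl⟩
  choose P hP h hh hx using key
  obtain ⟨t, ht⟩ := isCompact_univ.elim_finite_subcover (fun x : W.left => Set.range (h x).left)
    (fun x => have := etale_left (h x); (h x).left.isOpenMap.isOpen_range)
    (fun x _ => Set.mem_iUnion.2 ⟨x, hx x⟩)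
  refine ⟨t, inferInstance, fun k => P k, fun k => hP k, fun k => h k, fun k => hh k, ?_⟩
  refine Set.eq_univ_of_forall fun x => ?_
  obtain ⟨k, hk, hxk⟩ := Set.mem_iUnion₂.1 (ht (Set.mem_univ x))
  exact Set.mem_iUnion.2 ⟨⟨k, hk⟩, hxk⟩

theorem map_map_op {A B C : X.Etale} (f : B ⟶ A) (g : C ⟶ B) (s : F.obj (op A)) :
    F.map g.op (F.map f.op s) = F.map (g ≫ f).op s := by
  rw [op_comp, Functor.map_comp_apply]

section Sigma

variable {ι : Type u} [Finite ι] (P : ι → X.Etale)

/-- Disjoint union. -/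
noncomputable def sigmaEt : X.Etale :=
  MorphismProperty.Over.mk _ (Sigma.desc fun k => (P k).hom) (IsZariskiLocalAtSource.sigmaDesc fun k => (P k).prop)

/-- Its injections. -/
noncomputable def sigmaIn (k : ι) : P k ⟶ sigmaEt P :=
  MorphismProperty.Over.homMk (Sigma.ι (fun k => (P k).left) k) (Sigma.ι_desc _ _)

/-- The induced map. -/
noncomputable def sigmaOut {W : X.Etale} (h : ∀ k, P k ⟶ W) : sigmaEt P ⟶ W :=
  MorphismProperty.Over.homMk (Sigma.desc fun k => (h k).left) (Sigma.hom_ext _ _ fun k => by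
    refine (Sigma.ι_desc_assoc _ _ _).trans ?_
    exact (MorphismProperty.Over.w (h k)).trans (Sigma.ι_desc (fun k => (P k).hom) k).symm)

theorem sigmaIn_out {W : X.Etale} (h : ∀ k, P k ⟶ W) (k : ι) : sigmaIn P k ≫ sigmaOut P h = h k := by
  apply MorphismProperty.Over.Hom.ext
  exact Sigma.ι_desc _ _

theorem sigma_cover_mem :
    Sieve.ofArrows P (sigmaIn P) ∈ X.smallGrothendieckTopology (P := @IsOpenImmersion) (sigmaEt P) :=
  (mem_zar _).2 fun x => by
    obtain ⟨k, y, rfl⟩ := Scheme.IsLocallyDirected.ι_jointly_surjective (Discrete.functor fun k => (P k).left) x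
    exact ⟨P k.as, sigmaIn P k.as, y, Sieve.ofArrows_mk _ _ _,
      inferInstanceAs (IsOpenImmersion (Sigma.ι (fun k => (P k).left) k.as)), rfl⟩

theorem surjective_sigmaOut {W : X.Etale} (h : ∀ k, P k ⟶ W) (e : ⋃ k, Set.range (h k).left = Set.univ) :
    Surjective (sigmaOut P h).left := ⟨fun x => by
  obtain ⟨k, y, rfl⟩ := Set.mem_iUnion.1 (e ▸ Set.mem_univ x)
  exact ⟨(sigmaIn P k).left y, congrArg (fun m => m.left y) (sigmaIn_out P h k)⟩⟩

end Sigma

include hZ hA in
theorem separated_affine {W : X.Etale} [IsAffine W.left] {S : Sieve W} (hS : S ∈ X.smallEtaleTopology W)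
    {s t : F.obj (op W)} (h : ∀ ⦃Z⦄ (g : Z ⟶ W), S g → F.map g.op s = F.map g.op t) : s = t := by
  obtain ⟨ι, _, P, _, k, hk, hc⟩ := exists_finite_affine hS
  have : IsAffine (sigmaEt P).left := inferInstanceAs (IsAffine (∐ fun k => (P k).left))
  have := surjective_sigmaOut P k hc
  refine (hA W (sigmaEt P) (sigmaOut P k)).isSeparatedFor.ext ?_
  rintro Z g ⟨⟩
  refine (hZ _ (sigma_cover_mem P)).isSeparatedFor.ext ?_
  intro Z g hg
  obtain ⟨i, c, rfl⟩ := (Sieve.mem_ofArrows_iff _ _ _).1 hg
  rw [op_comp, Functor.map_comp_apply, Functor.map_comp_apply]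
  refine congrArg (F.map c.op) ?_
  refine (map_map_op _ _ _).trans (Eq.trans ?_ (map_map_op _ _ _).symm)
  rw [sigmaIn_out]
  exact h _ (hk i)

include hZ hA in
theorem separated {U : X.Etale} {S : Sieve U} (hS : S ∈ X.smallEtaleTopology U)
    {s t : F.obj (op U)} (h : ∀ ⦃Z⦄ (g : Z ⟶ U), S g → F.map g.op s = F.map g.op t) : s = t := by
  refine (hZ _ (affine_cover_mem U)).isSeparatedFor.ext ?_
  intro Z g hg
  obtain ⟨W, c, rfl⟩ := (Sieve.mem_ofArrows_iff _ _ _).1 hg
  rw [op_comp, Functor.map_comp_apply, Functor.map_comp_apply]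
  refine congrArg (F.map c.op) ?_
  have : IsAffine (objOf U W.1.ι).left := W.2
  refine separated_affine hZ hA (X.smallEtaleTopology.pullback_stable (objOfHom U W.1.ι) hS) fun Z' g' hg' => ?_
  erw [map_map_op, map_map_op]
  exact h _ hg'

include hZ hA in
theorem exists_amalgamation_affine {W : X.Etale} [IsAffine W.left] {S : Sieve W}
    (hS : S ∈ X.smallEtaleTopology W) (x : Presieve.FamilyOfElements F S.arrows) (hx : x.Compatible) :
    ∃ t, x.IsAmalgamation t := by
  obtain ⟨ι, _, P, _, k, hk, hc⟩ := exists_finite_affine hS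
  have : IsAffine (sigmaEt P).left := inferInstanceAs (IsAffine (∐ fun k => (P k).left))
  have := surjective_sigmaOut P k hc
  obtain ⟨v, hv, -⟩ := (Presieve.isSheafFor_arrows_iff _ _).1
    ((Presieve.isSheafFor_iff_generate _).2 (hZ _ (sigma_cover_mem P))) (fun i => x (k i) (hk i)) fun i j Z a b e =>
      hx a b (hk i) (hk j) ((congrArg (a ≫ ·) (sigmaIn_out P k i).symm).trans (((Category.assoc _ _ _).symm.trans (congrArg (· ≫ sigmaOut P k) e)).trans ((Category.assoc _ _ _).trans (congrArg (b ≫ ·) (sigmaIn_out P k j)))))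
  have key : ∀ {Z : X.Etale} (g : Z ⟶ sigmaEt P) (hg : S (g ≫ sigmaOut P k)), F.map g.op v = x _ hg := by
    intro Z g hg
    refine separated hZ hA (X.smallEtaleTopology.pullback_stable g (zar_le (sigma_cover_mem P))) fun Z' c hc' => ?_
    obtain ⟨i, d, hd⟩ := (Sieve.mem_ofArrows_iff _ _ _).1 hc'
    refine (map_map_op g c v).trans ?_
    rw [hd, op_comp, Functor.map_comp_apply]
    erw [hv i]
    have hcomp := hx d c (hk i) hg ((congrArg (d ≫ ·) (sigmaIn_out P k i).symm).trans (((Category.assoc _ _ _).symm.trans (congrArg (· ≫ sigmaOut P k) hd.symm)).trans (Category.assoc _ _ _)))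
    exact hcomp
  obtain ⟨t, ht, -⟩ := Presieve.isSheafFor_singleton.1 (hA W (sigmaEt P) (sigmaOut P k)) v
    fun {Z} a b e => by
      refine separated hZ hA (X.smallEtaleTopology.pullback_stable (a ≫ sigmaOut P k) hS) fun Z' c hc' => ?_
      have hca : S ((c ≫ a) ≫ sigmaOut P k) := by simpa using hc'
      have hcb : S ((c ≫ b) ≫ sigmaOut P k) :=
        (congrArg (fun m => S m) ((Category.assoc c b _).trans (congrArg (c ≫ ·) e.symm))).mpr hc'
      erw [map_map_op, map_map_op, key _ hca, key _ hcb]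
      congr 1
      exact (Category.assoc _ _ _).trans ((congrArg (c ≫ ·) e).trans (Category.assoc _ _ _).symm)
  refine ⟨t, fun Z g hg => ?_⟩
  have hsurj : Sieve.ofArrows (fun _ : PUnit.{u + 1} => sigmaEt P) (fun _ => sigmaOut P k) ∈ X.smallEtaleTopology W := by
    rw [Scheme.ofArrows_mem_smallEtaleTopology_iff, Set.iUnion_const, Set.range_eq_univ]
    exact (sigmaOut P k).left.surjective
  refine separated hZ hA (X.smallEtaleTopology.pullback_stable g hsurj) fun Z' c hc' => ?_
  obtain ⟨-, d, hd⟩ := (Sieve.mem_ofArrows_iff _ _ _).1 hc'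
  refine (map_map_op g c t).trans ?_
  rw [hd, op_comp, Functor.map_comp_apply]
  erw [ht]
  have hd' : S (d ≫ sigmaOut P k) := by rw [← hd]; exact S.downward_closed hg c
  erw [key d hd']
  have hcomp := hx (𝟙 Z') c hd' hg (by rw [Category.id_comp, hd])
  rwa [op_id, Functor.map_id_apply] at hcomp

include hZ hA in
theorem isSheaf_of_criterion : Presieve.IsSheaf X.smallEtaleTopology F := by
  intro U S hS
  rw [← Presieve.isSeparatedFor_and_exists_isAmalgamation_iff_isSheafFor]
  refine ⟨fun x t₁ t₂ h₁ h₂ => separated hZ hA hS fun Z g hg => (h₁ g hg).trans (h₂ g hg).symm, fun x hx => ?_⟩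
  have hW : ∀ W : {W : U.left.Opens // IsAffineOpen W}, ∃ t, (x.pullback (objOfHom U W.1.ι)).IsAmalgamation t :=
    fun W => by
      have : IsAffine (objOf U W.1.ι).left := W.2
      exact exists_amalgamation_affine hZ hA (X.smallEtaleTopology.pullback_stable _ hS) _
        (hx.pullback (objOfHom U W.1.ι))
  choose t ht using hW
  obtain ⟨T, hT, -⟩ := (Presieve.isSheafFor_arrows_iff _ _).1
    ((Presieve.isSheafFor_iff_generate _).2 (hZ _ (affine_cover_mem U))) t fun i j Z a b e => by
      refine separated hZ hA (X.smallEtaleTopology.pullback_stable (a ≫ objOfHom U i.1.ι) hS) fun Z' c hc' => ?_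
      have hi : (S.pullback (objOfHom U i.1.ι)) (c ≫ a) := by simpa using hc'
      have hj : (S.pullback (objOfHom U j.1.ι)) (c ≫ b) := by
        show S ((c ≫ b) ≫ objOfHom U j.1.ι)
        exact (congrArg (fun m => S (c ≫ m)) e |>.mp hc' |> fun h => (congrArg (fun m => S m) (Category.assoc c b _)).mpr h)
      erw [map_map_op, map_map_op, ht i _ hi, ht j _ hj]
      simp only [Presieve.FamilyOfElements.pullback]
      congr 1
      exact (Category.assoc _ _ _).trans ((congrArg (c ≫ ·) e).trans (Category.assoc _ _ _).symm)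
  refine ⟨T, fun Z g hg => ?_⟩
  refine separated hZ hA (X.smallEtaleTopology.pullback_stable g (zar_le (affine_cover_mem U))) fun Z' c hc' => ?_
  obtain ⟨i, d, hd⟩ := (Sieve.mem_ofArrows_iff _ _ _).1 hc'
  refine (map_map_op g c T).trans ?_
  rw [hd, op_comp, Functor.map_comp_apply]
  erw [hT i]
  have hi : (S.pullback (objOfHom U i.1.ι)) d := by
    show S (d ≫ objOfHom U i.1.ι)
    rw [← hd]; exact S.downward_closed hg c
  erw [ht i d hi]
  have hcomp := hx (𝟙 Z') c hi hg (by rw [Category.id_comp, hd])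
  rwa [op_id, Functor.map_id_apply] at hcomp

theorem criterion_of_isSheaf (h : Presieve.IsSheaf X.smallEtaleTopology F) :
    Presieve.IsSheaf (X.smallGrothendieckTopology (P := @IsOpenImmersion)) F ∧
      ∀ (U V : X.Etale) [IsAffine U.left] [IsAffine V.left] (f : V ⟶ U) [Surjective f.left],
        Presieve.IsSheafFor F (Presieve.singleton f) := by
  refine ⟨fun U S hS => h S (zar_le hS), fun U V _ _ f _ => (Presieve.isSheafFor_iff_generate _).2 (h _ ?_)⟩
  refine (mem_et _).2 fun x => ?_
  obtain ⟨y, hy⟩ := f.left.surjective x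
  exact ⟨V, f, y, Sieve.le_generate _ _ _ (Presieve.singleton_self f), etale_left f, hy⟩

end Groth.Agent.EtCore45
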