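import Groth.Agent.EtCore45.CechDerived
import Groth.Agent.Unr55.Et.PullExact
import Mathlib.CategoryTheory.Sites.LeftExact

/-!
Direct images of injective etale sheaves are injective, hence Cech acyclic.
-/

set_option autoImplicit false
set_option backward.isDefEq.respectTransparency.types false
universe u

open CategoryTheory CategoryTheory.Limits AlgebraicGeometry Opposite

namespace Groth.Agent.EtCore45

variable {X Y : Scheme.{u}} (f : X ⟶ Y)

theorem injective_push (I : EtCoh.Ab X) [Injective I] : Injective ((EtCoh.push f).obj I) :=
  have := Unr55.EtSh.preservesFiniteLimits_pull f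
  Injective.injective_of_adjoint (EtCoh.pullPushAdj f) I

theorem injective_obj (I : EtCoh.Ab X) [Injective I] : Injective I.obj :=
  have : (presheafToSheaf X.smallEtaleTopology AddCommGrpCat.{u + 1}).PreservesMonomorphisms := inferInstance
  Injective.injective_of_adjoint (sheafificationAdjunction X.smallEtaleTopology AddCommGrpCat.{u + 1}) I

end Groth.Agent.EtCore45
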