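import Groth.Agent.EtCore45.EtalePull
import Groth.Agent.EtCore45.InjPush
import Groth.Agent.EtDesc45.Ext
import Mathlib.Algebra.Homology.DerivedCategory.Ext.ExactSequences
import Mathlib.CategoryTheory.Abelian.Injective.Ext

/-!
Sheaves acyclic on every object of the small etale site.
-/

set_option autoImplicit false
set_option backward.isDefEq.respectTransparency.types false
universe u

open CategoryTheory CategoryTheory.Limits CategoryTheory.Abelian AlgebraicGeometry Opposite

namespace Groth.Agent.EtCore45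

variable {X : Scheme.{u}}

/-- An object as the image of the top of its own site. -/
noncomputable def topCompIso (W : X.Etale) :
    haveI : Etale W.hom := W.prop
    (EtShriek.compEtale W.hom).obj (EtCoh.top W.left) ≅ W :=
  haveI : Etale W.hom := W.prop
  MorphismProperty.Over.isoMk (Iso.refl _) rfl

/-- Global sections of the inverse image to an etale scheme are sections over it. -/
noncomputable def secPull (W : X.Etale) (G : EtCoh.Ab X) :
    (EtCoh.const W.left ℤ ⟶ (EtCoh.pull W.hom).obj G) ≃+ EtCoh.sect G W :=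
  haveI : Etale W.hom := W.prop
  (EtDesc45.secZ (EtCore.topIsTerminal W.left) ((EtCoh.pull W.hom).obj G)).trans
    ((((sheafToPresheaf _ _).mapIso ((pullRestrIso W.hom).app G)).app (op (EtCoh.top W.left))).trans
      (G.obj.mapIso (topCompIso W).op.symm)).addCommGroupIsoToAddEquiv

theorem secPull_comp (W : X.Etale) {G G' : EtCoh.Ab X} (g : G ⟶ G')
    (φ : EtCoh.const W.left ℤ ⟶ (EtCoh.pull W.hom).obj G) :
    secPull W G' (φ ≫ (EtCoh.pull W.hom).map g) = g.hom.app (op W) (secPull W G φ) := by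
  have : Etale W.hom := W.prop
  simp only [secPull, AddEquiv.trans_apply]
  rw [EtDesc45.secZ_comp]
  have n := (pullRestrIso W.hom).hom.naturality g
  refine (congrArg (G'.obj.map (topCompIso W).inv.op) (ConcreteCategory.congr_hom
    (congrArg (fun k => k.hom.app (op (EtCoh.top W.left))) n) _)).trans ?_
  exact (NatTrans.naturality_apply g.hom (topCompIso W).inv.op _).symm

/-- Positive degree cohomology vanishes on every object. -/
def IsAcyclicEt (F : EtCoh.Ab X) : Prop :=
  ∀ (W : X.Etale) (q : ℕ), 0 < q → Subsingleton (EtCoh.H W.left ((EtCoh.pull W.hom).obj F) q)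

theorem isAcyclicEt_injective (I : EtCoh.Ab X) [Injective I] : IsAcyclicEt I := by
  intro W q hq
  obtain ⟨q, rfl⟩ := Nat.exists_eq_add_one.2 hq
  have : Etale W.hom := W.prop
  have := injective_pull W.hom I
  exact Ext.subsingleton_of_injective _ _ q

theorem shortExact_pull' {U : Scheme.{u}} (j : U ⟶ X) {S : ShortComplex (EtCoh.Ab X)} (hS : S.ShortExact) :
    (S.map (EtCoh.pull j)).ShortExact :=
  have := Unr55.EtSh.preservesFiniteLimits_pull j
  hS.map_of_exact _

theorem shortExact_pull (W : X.Etale) {S : ShortComplex (EtCoh.Ab X)} (hS : S.ShortExact) :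
    (S.map (EtCoh.pull W.hom)).ShortExact :=
  shortExact_pull' W.hom hS

theorem sections_surjective {S : ShortComplex (EtCoh.Ab X)} (hS : S.ShortExact) (W : X.Etale)
    (h : Subsingleton (EtCoh.H W.left ((EtCoh.pull W.hom).obj S.X₁) 1)) :
    Function.Surjective (S.g.hom.app (op W)) := by
  intro s
  obtain ⟨φ, rfl⟩ := (secPull W S.X₃).surjective s
  obtain ⟨x₂, hx₂⟩ := Ext.covariant_sequence_exact₃ _ (shortExact_pull W hS) (Ext.mk₀ φ) rfl
    (Subsingleton.elim (α := EtCoh.H W.left ((EtCoh.pull W.hom).obj S.X₁) 1) _ _)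
  obtain ⟨ψ, rfl⟩ := Ext.addEquiv₀.symm.surjective x₂
  refine ⟨secPull W S.X₂ ψ, ?_⟩
  rw [← secPull_comp]
  refine congrArg (secPull W S.X₃) (Ext.mk₀_bijective _ _ |>.1 ?_)
  exact (Ext.mk₀_comp_mk₀ ψ _).symm.trans hx₂

theorem isAcyclicEt_quot {S : ShortComplex (EtCoh.Ab X)} (hS : S.ShortExact)
    (h₁ : IsAcyclicEt S.X₁) (h₂ : IsAcyclicEt S.X₂) : IsAcyclicEt S.X₃ := by
  intro W q hq
  refine subsingleton_of_forall_eq 0 fun x => ?_
  have := h₂ W q hq
  have := h₁ W (q + 1) q.succ_pos
  obtain ⟨x₂, rfl⟩ := Ext.covariant_sequence_exact₃ _ (shortExact_pull W hS) x rfl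
    (Subsingleton.elim (α := EtCoh.H W.left ((EtCoh.pull W.hom).obj S.X₁) (q + 1)) _ _)
  obtain rfl := Subsingleton.elim (α := EtCoh.H W.left ((EtCoh.pull W.hom).obj S.X₂) q) x₂ 0
  exact Ext.zero_comp _ _ _ _ _

/-- The short exact sequence of an embedding into an injective. -/
noncomputable abbrev injSeq (F : EtCoh.Ab X) : ShortComplex (EtCoh.Ab X) :=
  ShortComplex.mk (Injective.ι F) (cokernel.π (Injective.ι F)) (cokernel.condition _)

theorem injSeq_shortExact (F : EtCoh.Ab X) : (injSeq F).ShortExact where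
  exact := ShortComplex.exact_of_g_is_cokernel _ (cokernelIsCokernel (Injective.ι F))
  mono_f := inferInstanceAs (Mono (Injective.ι F))
  epi_g := inferInstanceAs (Epi (cokernel.π _))

variable {Y : Scheme.{u}} (f : X ⟶ Y)

theorem shortExact_push {S : ShortComplex (EtCoh.Ab X)} (hS : S.ShortExact) (h₁ : IsAcyclicEt S.X₁) :
    (S.map (EtCoh.push f)).ShortExact := by
  have : PreservesLimitsOfSize.{0, 0} (EtCoh.push f) := (EtCoh.pullPushAdj f).rightAdjoint_preservesLimits
  have : PreservesFiniteLimits (EtCoh.push f) := PreservesLimitsOfSize.preservesFiniteLimits _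
  have hl : (S.map (EtCoh.push f)).Exact ∧ Mono ((EtCoh.push f).map S.f) :=
    (((Functor.preservesFiniteLimits_tfae (EtCoh.push f)).out 3 0).1 this :
      ∀ S : ShortComplex (EtCoh.Ab X), S.ShortExact → (S.map (EtCoh.push f)).Exact ∧ Mono ((EtCoh.push f).map S.f)) S hS
  have : Epi ((EtCoh.push f).map S.g) := Unr55.EtSh.epi_of_stalks _ fun K _ _ η b => by
    obtain ⟨V, t, σ, rfl⟩ := Unr55.EtSh.exists_germ_eq η _ b
    obtain ⟨τ, hτ⟩ := sections_surjective hS ((EtCoh.bc f).obj V) (h₁ _ 1 zero_lt_one) σ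
    exact ⟨Unr55.EtSh.germ η ((EtCoh.push f).obj S.X₂) t τ,
      (Unr55.EtSh.stalk_map_germ η ((EtCoh.push f).map S.g) t τ).trans (congrArg _ hτ)⟩
  exact ShortComplex.ShortExact.mk' hl.1 hl.2 this

theorem isAcyclicEt_push_aux (q : ℕ) : ∀ F : EtCoh.Ab X, IsAcyclicEt F → ∀ V : Y.Etale,
    Subsingleton (EtCoh.H V.left ((EtCoh.pull V.hom).obj ((EtCoh.push f).obj F)) (q + 1)) := by
  induction q with
  | zero =>
    intro F hF V
    refine subsingleton_of_forall_eq 0 fun x => ?_
    have hS := shortExact_push f (injSeq_shortExact F) hF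
    have : Injective ((EtCoh.push f).obj (injSeq F).X₂) := injective_push f _
    have := isAcyclicEt_injective ((EtCoh.push f).obj (injSeq F).X₂) V 1 zero_lt_one
    obtain ⟨x₃, rfl⟩ := Ext.covariant_sequence_exact₁ _ (shortExact_pull V hS) x
      (Subsingleton.elim (α := EtCoh.H V.left ((EtCoh.pull V.hom).obj ((EtCoh.push f).obj (injSeq F).X₂)) 1) _ _) (zero_add 1)
    obtain ⟨φ, rfl⟩ := Ext.addEquiv₀.symm.surjective x₃
    obtain ⟨τ, hτ⟩ := sections_surjective (injSeq_shortExact F) ((EtCoh.bc f).obj V) (hF _ 1 zero_lt_one)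
      (secPull V ((EtCoh.push f).obj (injSeq F).X₃) φ)
    have e : (secPull V ((EtCoh.push f).obj (injSeq F).X₂)).symm τ ≫
        (EtCoh.pull V.hom).map ((EtCoh.push f).map (injSeq F).g) = φ := by
      apply (secPull V ((EtCoh.push f).obj (injSeq F).X₃)).injective
      refine (secPull_comp V ((EtCoh.push f).map (injSeq F).g) _).trans ?_
      rw [AddEquiv.apply_symm_apply]
      exact hτ
    rw [← e]
    change (Ext.mk₀ _).comp _ _ = 0
    refine (congrArg (fun z => Ext.comp z (shortExact_pull V hS).extClass (zero_add 1)) (Ext.mk₀_comp_mk₀ _ _).symm).trans ?_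
    refine (Ext.comp_assoc_of_second_deg_zero _ _ _ _).trans ?_
    exact (congrArg ((Ext.mk₀ _).comp · (zero_add 1)) (shortExact_pull V hS).comp_extClass).trans (Ext.comp_zero _ _ _ _ _)
  | succ q ih =>
    intro F hF V
    refine subsingleton_of_forall_eq 0 fun x => ?_
    have hS := shortExact_push f (injSeq_shortExact F) hF
    have : Injective ((EtCoh.push f).obj (injSeq F).X₂) := injective_push f _
    have := isAcyclicEt_injective ((EtCoh.push f).obj (injSeq F).X₂) V (q + 1 + 1) (q + 1).succ_pos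
    obtain ⟨x₃, rfl⟩ := Ext.covariant_sequence_exact₁ _ (shortExact_pull V hS) x
      (Subsingleton.elim (α := EtCoh.H V.left ((EtCoh.pull V.hom).obj ((EtCoh.push f).obj (injSeq F).X₂)) (q + 1 + 1)) _ _)
      (rfl : q + 1 + 1 = q + 1 + 1)
    have := ih _ (isAcyclicEt_quot (injSeq_shortExact F) hF (isAcyclicEt_injective (Injective.under F))) V
    rw [show x₃ = 0 from Subsingleton.elim (α := EtCoh.H V.left ((EtCoh.pull V.hom).obj ((EtCoh.push f).obj (injSeq F).X₃)) (q + 1)) x₃ _]
    exact Ext.zero_comp _ _ _ _ _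

/-- Direct images of sheaves acyclic on every object are acyclic on every object. -/
theorem isAcyclicEt_push (F : EtCoh.Ab X) (hF : IsAcyclicEt F) : IsAcyclicEt ((EtCoh.push f).obj F) := by
  intro V q hq
  obtain ⟨q, rfl⟩ := Nat.exists_eq_add_one.2 hq
  exact isAcyclicEt_push_aux f q F hF V

end Groth.Agent.EtCore45
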