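import Groth.Agent.SiteCoh.ExtCompare
import Groth.Agent.RD97.LES
import Mathlib.CategoryTheory.Abelian.Injective.Ext

/-!
Ext groups along an exact left adjoint, with coefficients acyclic for the right adjoint.
-/

set_option autoImplicit false
universe w v v' u u'

open CategoryTheory CategoryTheory.Limits CategoryTheory.Abelian

namespace Groth.Agent.EtCore45

variable {A : Type u} [Category.{v} A] [Abelian A] [HasExt.{w} A]
  {B : Type u'} [Category.{v'} B] [Abelian B] [HasExt.{w} B] [EnoughInjectives B]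
  {G : A ⥤ B} [G.Additive] [PreservesFiniteLimits G] [PreservesFiniteColimits G]
  {R : B ⥤ A} [R.Additive] (adj : G ⊣ R) {X : B} {X' : A} (η : X ⟶ G.obj X')

/-- The transfer map along the adjunction. -/
noncomputable def adjTransfer (F : B) (n : ℕ) : Ext.{w} X' (R.obj F) n →+ Ext.{w} X F n :=
  ((Ext.mk₀ (adj.counit.app F)).postcomp X (add_zero n)).comp (SiteCoh.extTransfer G η (R.obj F) n)

theorem adjTransfer_apply (F : B) {n : ℕ} (ξ : Ext.{w} X' (R.obj F) n) :
    adjTransfer adj η F n ξ =
      (SiteCoh.extTransfer G η (R.obj F) n ξ).comp (Ext.mk₀ (adj.counit.app F)) (add_zero n) := rfl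

theorem adjTransfer_naturality {F F' : B} {n : ℕ} (ξ : Ext.{w} X' (R.obj F) n) (g : F ⟶ F') :
    adjTransfer adj η F' n (ξ.comp (Ext.mk₀ (R.map g)) (add_zero n)) =
      (adjTransfer adj η F n ξ).comp (Ext.mk₀ g) (add_zero n) := by
  rw [adjTransfer_apply, adjTransfer_apply, SiteCoh.extTransfer_naturality,
    Ext.comp_assoc_of_second_deg_zero, Ext.comp_assoc_of_second_deg_zero, Ext.mk₀_comp_mk₀, Ext.mk₀_comp_mk₀]
  congr 2
  exact adj.counit.naturality g

theorem adjTransfer_extClass {S : ShortComplex B} (hS : S.ShortExact) (hS' : (S.map R).ShortExact)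
    {n m : ℕ} (h : n + 1 = m) (ξ : Ext.{w} X' (R.obj S.X₃) n) :
    adjTransfer adj η S.X₁ m (ξ.comp hS'.extClass h) = (adjTransfer adj η S.X₃ n ξ).comp hS.extClass h := by
  let φ : (S.map R).map G ⟶ S :=
    { τ₁ := adj.counit.app S.X₁, τ₂ := adj.counit.app S.X₂, τ₃ := adj.counit.app S.X₃
      comm₁₂ := (adj.counit.naturality S.f).symm
      comm₂₃ := (adj.counit.naturality S.g).symm }
  have key := ShortComplex.ShortExact.extClass_naturality (hS'.map_of_exact G) hS φ
  rw [← Ext.mapExactFunctor_extClass G hS'] at key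
  rw [adjTransfer_apply, adjTransfer_apply, Ext.comp_assoc_of_second_deg_zero]
  refine (congrArg (fun z => Ext.comp z (Ext.mk₀ (adj.counit.app S.X₁)) (add_zero m))
    (SiteCoh.extTransfer_comp G η ξ hS'.extClass h)).trans ?_
  refine (Ext.comp_assoc _ _ _ h (add_zero 1) (by omega)).trans ?_
  exact congrArg (fun z => (SiteCoh.extTransfer G η (R.obj S.X₃) n ξ).comp z h) key

theorem adjTransfer_bijective_zero [IsIso η] (F : B) : Function.Bijective (adjTransfer adj η F 0) := by
  have e : ∀ φ : X' ⟶ R.obj F, adjTransfer adj η F 0 (Ext.mk₀ φ) =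
      Ext.mk₀ (η ≫ (adj.homEquiv X' F).symm φ) := fun φ => by
    rw [adjTransfer_apply, SiteCoh.extTransfer_mk₀, Ext.mk₀_comp_mk₀, Category.assoc,
      adj.homEquiv_counit]
  constructor
  · intro a b hab
    obtain ⟨a, rfl⟩ := Ext.addEquiv₀.symm.surjective a
    obtain ⟨b, rfl⟩ := Ext.addEquiv₀.symm.surjective b
    change adjTransfer adj η F 0 (Ext.mk₀ a) = adjTransfer adj η F 0 (Ext.mk₀ b) at hab
    rw [e, e] at hab
    have := (adj.homEquiv X' F).symm.injective ((cancel_epi η).1 ((Ext.mk₀_bijective _ _).1 hab))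
    rw [this]
  · intro y
    obtain ⟨y, rfl⟩ := Ext.addEquiv₀.symm.surjective y
    refine ⟨Ext.mk₀ (adj.homEquiv X' F (inv η ≫ y)), ?_⟩
    rw [e, Equiv.symm_apply_apply, IsIso.hom_inv_id_assoc]
    rfl

include adj in
theorem isZero_rightDerived_quot {S : ShortComplex B} (hS : S.ShortExact) [Injective S.X₂]
    (h₁ : ∀ q : ℕ, 0 < q → IsZero ((R.rightDerived q).obj S.X₁)) :
    ∀ q : ℕ, 0 < q → IsZero ((R.rightDerived q).obj S.X₃) := by
  intro q hq
  obtain ⟨q, rfl⟩ := Nat.exists_eq_add_one.2 hq
  obtain ⟨Δ⟩ := RD97.nonempty_derivedLES R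
  exact (Δ.exact₃ S hS (q + 1) (q + 2) rfl).isZero_X₂
    ((R.isZero_rightDerived_obj_injective_succ q S.X₂).eq_of_src _ _) ((h₁ _ (q + 1).succ_pos).eq_of_tgt _ _)

include adj in
theorem shortExact_map_of_isZero_rightDerived {S : ShortComplex B} (hS : S.ShortExact)
    (h₁ : IsZero ((R.rightDerived 1).obj S.X₁)) : (S.map R).ShortExact := by
  have : PreservesLimitsOfSize.{0, 0} R := adj.rightAdjoint_preservesLimits
  have : PreservesFiniteLimits R := PreservesLimitsOfSize.preservesFiniteLimits _
  have hl : (S.map R).Exact ∧ Mono (R.map S.f) :=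
    (((Functor.preservesFiniteLimits_tfae R).out 3 0).1 this :
      ∀ S : ShortComplex B, S.ShortExact → (S.map R).Exact ∧ Mono (R.map S.f)) S hS
  obtain ⟨Δ⟩ := RD97.nonempty_derivedLES R
  have e₀ : Epi ((R.rightDerived 0).map S.g) :=
    (Δ.exact₃ S hS 0 1 rfl).epi_f (h₁.eq_of_tgt _ _)
  have e : Epi (R.map S.g) := by
    have hn := R.rightDerivedZeroIsoSelf.hom.naturality S.g
    have : Epi ((R.rightDerived 0).map S.g ≫ R.rightDerivedZeroIsoSelf.hom.app S.X₃) := epi_comp _ _
    rw [hn] at this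
    exact epi_of_epi (R.rightDerivedZeroIsoSelf.hom.app S.X₂) _
  exact ShortComplex.ShortExact.mk' hl.1 hl.2 e

/-- For coefficients acyclic for the right adjoint the transfer map is bijective. -/
theorem adjTransfer_bijective [IsIso η] :
    ∀ (n : ℕ) (F : B), (∀ q : ℕ, 0 < q → IsZero ((R.rightDerived q).obj F)) →
      Function.Bijective (adjTransfer adj η F n) := by
  intro n
  induction n with
  | zero => exact fun F _ => adjTransfer_bijective_zero adj η F
  | succ n ih =>
    intro F hF
    let S : ShortComplex B :=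
      ShortComplex.mk (Injective.ι F) (cokernel.π (Injective.ι F)) (cokernel.condition _)
    have hS : S.ShortExact :=
      { exact := ShortComplex.exact_of_g_is_cokernel _ (cokernelIsCokernel (Injective.ι F))
        mono_f := inferInstanceAs (Mono (Injective.ι F))
        epi_g := inferInstanceAs (Epi (cokernel.π _)) }
    have hI : Injective S.X₂ := inferInstanceAs (Injective (Injective.under F))
    have hS' : (S.map R).ShortExact := shortExact_map_of_isZero_rightDerived adj hS (hF 1 one_pos)
    have hI' : Injective (R.obj S.X₂) := Injective.injective_of_adjoint adj S.X₂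
    have := Ext.subsingleton_of_injective.{w} X' (R.obj S.X₂) n
    have := Ext.subsingleton_of_injective.{w} X S.X₂ n
    have hQ := isZero_rightDerived_quot adj hS hF
    constructor
    · rw [injective_iff_map_eq_zero]
      intro ξ hξ
      obtain ⟨x, rfl⟩ := Ext.covariant_sequence_exact₁ X' hS' ξ
        (Subsingleton.elim (α := Ext X' (R.obj S.X₂) (n + 1)) _ _) rfl
      replace hξ := (adjTransfer_extClass adj η hS hS' rfl x).symm.trans hξ
      obtain ⟨y, hy⟩ := Ext.covariant_sequence_exact₃ X hS _ rfl hξ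
      obtain ⟨y', rfl⟩ := (ih S.X₂ fun q hq => by
        obtain ⟨q, rfl⟩ := Nat.exists_eq_add_one.2 hq
        exact R.isZero_rightDerived_obj_injective_succ q S.X₂).2 y
      obtain rfl := (ih S.X₃ hQ).1 ((adjTransfer_naturality adj η y' S.g).trans hy)
      exact (Ext.comp_assoc_of_second_deg_zero _ _ _ _).trans
        ((congrArg (Ext.comp y' · rfl) hS'.comp_extClass).trans (Ext.comp_zero _ _ _ _ _))
    · intro z
      obtain ⟨w, rfl⟩ := Ext.covariant_sequence_exact₁ X hS z
        (Subsingleton.elim (α := Ext X S.X₂ (n + 1)) _ _) rfl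
      obtain ⟨x, rfl⟩ := (ih S.X₃ hQ).2 w
      exact ⟨x.comp hS'.extClass rfl, adjTransfer_extClass adj η hS hS' rfl x⟩

end Groth.Agent.EtCore45
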