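import Groth.Agent.Unr55.Et.Stalk
import Mathlib.AlgebraicGeometry.ResidueField
import Mathlib.AlgebraicGeometry.Morphisms.FormallyUnramified
import Mathlib.AlgebraicGeometry.Morphisms.UniversallyOpen
import Mathlib.FieldTheory.IsSepClosed

/-!
Geometric points lift along etale neighbourhoods; the support of a sheaf of rings is closed.
-/

set_option autoImplicit false
set_option backward.isDefEq.respectTransparency.types false
universe u

open CategoryTheory CategoryTheory.Limits AlgebraicGeometry Opposite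
open Groth.Agent.Unr55.EtSh

namespace Groth.Agent.EtCore45

theorem exists_lift_aux {W X : Scheme.{u}} (f : W ⟶ X) [Etale f] {Ω : Type u} [Field Ω] [IsSepClosed Ω]
    (y : W) (a : X.residueField (f y) ⟶ CommRingCat.of Ω) :
    ∃ l : Spec (CommRingCat.of Ω) ⟶ W, l ≫ f = Spec.map a ≫ X.fromSpecResidueField (f y) := by
  let : Algebra (X.residueField (f y)) (W.residueField y) := (f.residueFieldMap y).hom.toAlgebra
  let : Algebra (X.residueField (f y)) Ω := a.hom.toAlgebra
  have : Algebra.IsSeparable (X.residueField (f y)) (W.residueField y) := inferInstance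
  let b : W.residueField y →ₐ[X.residueField (f y)] Ω := IsSepClosed.lift
  refine ⟨Spec.map (CommRingCat.ofHom b.toRingHom) ≫ W.fromSpecResidueField y, ?_⟩
  rw [Category.assoc, ← f.SpecMap_residueFieldMap_fromSpecResidueField, ← Category.assoc, ← Spec.map_comp]
  congr 2
  ext z
  exact b.commutes z

/-- A geometric point in the image of an etale object lifts to it. -/
theorem exists_pt {X : Scheme.{u}} (U : X.Etale) {Ω : Type u} [Field Ω] [IsSepClosed Ω]
    (ξ : Spec (CommRingCat.of Ω) ⟶ X) (h : ξ default ∈ Set.range U.hom) : Nonempty (Pt ξ U) := by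
  have : Etale U.hom := U.prop
  obtain ⟨y, hy⟩ := h
  obtain ⟨⟨x, a⟩, rfl⟩ := (Scheme.SpecToEquivOfField Ω X).symm.surjective ξ
  obtain rfl : U.hom y = x := hy.trans (X.fromSpecResidueField_apply x _)
  obtain ⟨l, hl⟩ := exists_lift_aux (W := U.left) U.hom y a
  exact ⟨mkPt _ l hl⟩

theorem isClosed_supp_rings {S : Scheme.{u}} (O : Sheaf S.smallEtaleTopology CommRingCat.{u}) :
    IsClosed {s : ↥S | ∃ (Ω : Type u) (_ : Field Ω) (_ : IsSepClosed Ω) (ξ : Spec (CommRingCat.of Ω) ⟶ S),
      ξ.base default = s ∧ Nontrivial ↑((Scheme.pointSmallEtale ξ).presheafFiber.obj O.obj)} := by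
  rw [← isOpen_compl_iff, isOpen_iff_forall_mem_open]
  intro s hs
  obtain ⟨Ω, _, _, ξ, t, ht⟩ := point_over (MorphismProperty.Over.mk ⊤ (𝟙 S) (inferInstance : Etale (𝟙 S))) s
  have hξ : ξ default = s := by
    rw [← ht]
    exact (congrArg (fun q : Spec (CommRingCat.of Ω) ⟶ S => q default) ((Over.w t).symm.trans (Category.comp_id _)))
  have h01 : Subsingleton ↑((Scheme.pointSmallEtale ξ).presheafFiber.obj O.obj) :=
    not_nontrivial_iff_subsingleton.1 fun hn => hs ⟨Ω, _, _, ξ, hξ, hn⟩
  let T : S.Etale := MorphismProperty.Over.mk ⊤ (𝟙 S) (inferInstance : Etale (𝟙 S))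
  obtain ⟨V, g, t', -, hV⟩ := ((Scheme.pointSmallEtale ξ).toPresheafFiber_eq_iff' (P := O.obj) T t
    (1 : O.obj.obj (op T)) 0).1 (Subsingleton.elim _ _)
  rw [map_one, map_zero] at hV
  have : Etale V.hom := V.prop
  refine ⟨Set.range V.hom, ?_, V.hom.isOpenMap.isOpen_range, ⟨hom ξ t' default, ?_⟩⟩
  · rintro x hx ⟨Ω', _, _, ξ', rfl, hn⟩
    obtain ⟨r⟩ := exists_pt V ξ' hx
    refine (not_subsingleton _) (subsingleton_of_zero_eq_one (M₀ := ↑((Scheme.pointSmallEtale ξ').presheafFiber.obj O.obj)) ?_)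
    rw [← map_zero ((Scheme.pointSmallEtale ξ').toPresheafFiber V r O.obj).hom,
      ← map_one ((Scheme.pointSmallEtale ξ').toPresheafFiber V r O.obj).hom]
    exact congrArg _ hV.symm
  · rw [← hξ, ← Scheme.Hom.comp_apply]
    exact congrArg (fun q : Spec (CommRingCat.of Ω) ⟶ S => q default) (Over.w t')

end Groth.Agent.EtCore45
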