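import Groth.Agent.Unr55.Et.PullExact

/-!
Stalk functors are exact and jointly conservative.
-/

set_option autoImplicit false
universe u

open CategoryTheory CategoryTheory.Limits AlgebraicGeometry Opposite
open Groth.Agent.Unr55.EtSh

namespace Groth.Agent.EtCore45

variable {X : Scheme.{u}} {Ω : Type u} [Field Ω] [IsSepClosed Ω] (ξ : Spec (CommRingCat.of Ω) ⟶ X)

instance stalk_isLeftAdjoint : (EtCoh.stalk ξ).IsLeftAdjoint :=
  (Scheme.pointSmallEtale ξ).skyscraperSheafAdjunction.isLeftAdjoint

instance stalk_preservesFiniteColimits : PreservesFiniteColimits (EtCoh.stalk ξ) :=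
  have : PreservesColimitsOfSize.{0, 0} (EtCoh.stalk ξ) :=
    (Scheme.pointSmallEtale ξ).skyscraperSheafAdjunction.leftAdjoint_preservesColimits
  PreservesColimitsOfSize.preservesFiniteColimits _

instance stalk_additive : (EtCoh.stalk ξ).Additive :=
  have := preservesBinaryBiproducts_of_preservesBinaryCoproducts (EtCoh.stalk ξ)
  Functor.additive_of_preservesBinaryBiproducts _

instance stalk_preservesFiniteLimits : PreservesFiniteLimits (EtCoh.stalk ξ) := by
  refine (Functor.preservesFiniteLimits_iff_forall_exact_map_and_mono (EtCoh.stalk ξ)).2 fun S hS => ?_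
  have := hS.mono_f
  exact ⟨((Functor.preservesFiniteColimits_iff_forall_exact_map_and_epi (EtCoh.stalk ξ)).1
    inferInstance S hS).1, (AddCommGrpCat.mono_iff_injective _).2 (stalk_map_injective_of_mono S.f ξ)⟩

theorem stalk_map_surjective_of_epi {F G : EtCoh.Ab X} (φ : F ⟶ G) [Epi φ] :
    Function.Surjective ((EtCoh.stalk ξ).map φ) :=
  (AddCommGrpCat.epi_iff_surjective _).1 inferInstance

omit [IsSepClosed Ω] in
/-- A sheaf with zero stalks is zero. -/
theorem isZero_of_stalks (F : EtCoh.Ab X)
    (h : ∀ (K : Type u) [Field K] [IsSepClosed K] (η : Spec (CommRingCat.of K) ⟶ X),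
      IsZero ((EtCoh.stalk η).obj F)) : IsZero F := by
  rw [IsZero.iff_id_eq_zero]
  have : Mono (0 : F ⟶ F) := mono_of_stalks _ fun K _ _ η a b _ => by
    have := AddCommGrpCat.subsingleton_of_isZero (h K η)
    exact Subsingleton.elim a b
  exact (cancel_mono (0 : F ⟶ F)).1 (by simp)

omit [IsSepClosed Ω] in
/-- Exactness is tested on stalks. -/
theorem exact_iff_stalks (S : ShortComplex (EtCoh.Ab X)) :
    S.Exact ↔ ∀ (K : Type u) [Field K] [IsSepClosed K] (η : Spec (CommRingCat.of K) ⟶ X),
      (S.map (EtCoh.stalk η)).Exact := by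
  refine ⟨fun h K _ _ η => h.map _, fun h => ?_⟩
  rw [ShortComplex.exact_iff_isZero_homology]
  refine isZero_of_stalks _ fun K _ _ η => ?_
  exact ((ShortComplex.exact_iff_isZero_homology _).1 (h K η)).of_iso
    (S.mapHomologyIso (EtCoh.stalk η)).symm

end Groth.Agent.EtCore45
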