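import Groth.Agent.EtCore45.Split
import Groth.Agent.EtCore45.RingSupp
import Groth.Agent.EtCore45.SheafCrit
import Groth.Agent.EtCore45.Stalks
import Groth.Agent.Unr55.Et.Open
import Mathlib.CategoryTheory.Sites.EpiMono

/-!
Direct images along integral morphisms preserve epimorphisms.
-/

set_option autoImplicit false
set_option backward.isDefEq.respectTransparency.types false
universe u

open CategoryTheory CategoryTheory.Limits AlgebraicGeometry Opposite
open Groth.Agent.Unr55.EtSh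

namespace Groth.Agent.EtCore45

variable {X Y : Scheme.{u}}

/-- Sections on disjoint open pieces glue. -/
theorem exists_glue_disjoint_sect (F : EtCoh.Ab X) {P : X.Etale} {μ : Type u} (W : μ → P.left.Opens)
    (hd : ∀ a b, a ≠ b → Disjoint (W a) (W b)) (ht : ⨆ a, W a = ⊤)
    (σ : ∀ a, EtCoh.sect F (openSub P (W a))) :
    ∃ s : EtCoh.sect F P, ∀ a, F.obj.map (openSubι P (W a)).op s = σ a := by
  have hS : Sieve.ofArrows _ (fun a => openSubι P (W a)) ∈ X.smallEtaleTopology P := mem_topology fun p => by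
    obtain ⟨a, ha⟩ := TopologicalSpace.Opens.mem_iSup.1 (ht.ge (TopologicalSpace.Opens.mem_top p))
    exact ⟨_, openSubι P (W a), ⟨p, ha⟩, Sieve.ofArrows_mk _ _ a, rfl⟩
  have hF := isSheafFor_forget F hS
  rw [Sieve.ofArrows, ← Presieve.isSheafFor_iff_generate, Presieve.isSheafFor_arrows_iff] at hF
  obtain ⟨s, hs, -⟩ := hF σ fun a b Z ga gb h => by
    by_cases hab : a = b
    · subst hab
      have : ga = gb := MorphismProperty.Over.Hom.ext ((cancel_mono (W a).ι).1
        (congrArg (fun k : Z ⟶ P => k.left) h))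
      rw [this]
    · have : IsEmpty Z.left := ⟨fun z => Set.disjoint_left.1 (TopologicalSpace.Opens.coe_disjoint.2 (hd a b hab))
        ((W a).range_ι.le ⟨ga.left z, rfl⟩)
        ((W b).range_ι.le ⟨gb.left z, (congrArg (fun k : Z ⟶ P => k.left z) h).symm⟩)⟩
      exact (sect_eq_zero_of_isEmpty F _).trans (sect_eq_zero_of_isEmpty F _).symm
  exact ⟨s, hs⟩

theorem exists_pt_lift {V' V : Y.Etale} (k : V' ⟶ V) {Ω : Type u} [Field Ω] [IsSepClosed Ω]
    {η : Spec (CommRingCat.of Ω) ⟶ Y} (t : Pt η V) (h : hom η t default ∈ Set.range k.left) :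
    ∃ t' : Pt η V', (Scheme.pointSmallEtale η).fiber.map k t' = t := by
  obtain ⟨p⟩ := exists_pt (MorphismProperty.Over.mk ⊤ k.left (Groth.Agent.EtCore45.etale_left k) : V.left.Etale) (hom η t) h
  let l : Spec (CommRingCat.of Ω) ⟶ V'.left := (hom (hom η t) p :)
  have hl : l ≫ k.left = hom η t := Over.w p
  have ht : hom η t ≫ V.hom = η := Over.w t
  have hk : k.left ≫ V.hom = V'.hom := MorphismProperty.Over.w k
  exact ⟨mkPt _ l (by rw [← hk, ← Category.assoc, hl, ht]), Over.OverMorphism.ext hl⟩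

theorem push_map_epi (f : X ⟶ Y) [IsIntegralHom f] {F G : EtCoh.Ab X} (φ : F ⟶ G) [Epi φ] :
    Epi ((EtCoh.push f).map φ) := by
  have hloc : Sheaf.IsLocallySurjective φ := (Sheaf.isLocallySurjective_iff_epi' AddCommGrpCat.{u + 1} φ).2 inferInstance
  refine epi_of_stalks _ fun K _ _ η b => ?_
  obtain ⟨V, s, τ, rfl⟩ := exists_germ_eq η _ b
  let P := (EtCoh.bc f).obj V
  have key : ∀ p : P.left, ∃ (Z : X.Etale) (g : Z ⟶ P) (z : Z.left) (σ : EtCoh.sect F Z),
      Etale g.left ∧ g.left z = p ∧ φ.hom.app (op Z) σ = G.obj.map g.op τ := fun p => by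
    obtain ⟨Z, g, z, ⟨σ, hσ⟩, hg, hz⟩ := (mem_et _).1 (Presheaf.imageSieve_mem X.smallEtaleTopology φ.hom τ) p
    exact ⟨Z, g, z, σ, hg, hz, hσ⟩
  choose Z g z σ hg hz hσ using key
  let q : P.left ⟶ V.left := pullback.fst V.hom f
  have : IsIntegralHom q := MorphismProperty.pullback_fst _ _ ‹IsIntegralHom f›
  let gs : ∀ p : P.left, (Z p).left ⟶ P.left := fun p => (g p).left
  have := hg
  obtain ⟨T⟩ := exists_split q gs (hom η s default) (fun p _ => ⟨p, z p, hz p⟩) ∅ Set.subsingleton_empty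
    fun _ h => h.elim
  have := T.etale
  have : Etale V.hom := V.prop
  let V' : Y.Etale := Scheme.Etale.mk (T.v ≫ V.hom)
  let k : V' ⟶ V := MorphismProperty.Over.homMk T.v rfl trivial
  obtain ⟨s', hks⟩ := exists_pt_lift k s T.mem
  have hb : IsPullback ((EtCoh.bc f).map k).left (pullback.fst V'.hom f) q T.v := EtCoh.isPullback_bc_map f k
  let e := T.isPullback.isoIsPullback _ _ hb
  let W' : T.μ → ((EtCoh.bc f).obj V').left.Opens := fun a => e.inv ⁻¹ᵁ T.W a
  have he : e.inv ≫ T.pr₁ = ((EtCoh.bc f).map k).left := T.isPullback.isoIsPullback_inv_fst _ _ hb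
  let m : ∀ a, openSub ((EtCoh.bc f).obj V') (W' a) ⟶ Z (T.idx a) := fun a =>
    MorphismProperty.Over.homMk ((e.inv ∣_ T.W a) ≫ T.h a) (by
      change ((e.inv ∣_ T.W a) ≫ T.h a) ≫ (Z (T.idx a)).hom = (W' a).ι ≫ ((EtCoh.bc f).obj V').hom
      rw [← MorphismProperty.Over.w (g (T.idx a)), ← MorphismProperty.Over.w ((EtCoh.bc f).map k), ← he]
      simp only [Category.assoc]
      rw [reassoc_of% (T.comm a), morphismRestrict_ι_assoc]) trivial
  have hm : ∀ a, m a ≫ g (T.idx a) = openSubι _ (W' a) ≫ (EtCoh.bc f).map k := fun a => by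
    refine MorphismProperty.Over.Hom.ext ?_
    change ((e.inv ∣_ T.W a) ≫ T.h a) ≫ gs (T.idx a) = (W' a).ι ≫ ((EtCoh.bc f).map k).left
    rw [Category.assoc, T.comm, morphismRestrict_ι_assoc, he]
  have hd : ∀ a b, a ≠ b → Disjoint (W' a) (W' b) := fun a b hab => disjoint_iff.2
    (by rw [← Scheme.Hom.preimage_inf, (T.disj a b hab).eq_bot, Scheme.Hom.preimage_bot])
  have ht : ⨆ a, W' a = ⊤ := by rw [← Scheme.Hom.preimage_iSup, T.top, Scheme.Hom.preimage_top]
  obtain ⟨S, hS⟩ := exists_glue_disjoint_sect F W' hd ht fun a => F.obj.map (m a).op (σ (T.idx a))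
  refine ⟨germ η ((EtCoh.push f).obj F) s' S, ?_⟩
  rw [stalk_map_germ, ← hks, ← germ_map]
  congr 1
  change φ.hom.app (op ((EtCoh.bc f).obj V')) S = G.obj.map ((EtCoh.bc f).map k).op τ
  rw [← sub_eq_zero]
  refine sect_eq_zero_of_local G _ fun x => ?_
  obtain ⟨a, ha⟩ := TopologicalSpace.Opens.mem_iSup.1 (ht.ge (TopologicalSpace.Opens.mem_top x))
  refine ⟨_, openSubι _ (W' a), ⟨x, ha⟩, rfl, ?_⟩
  rw [map_sub, sub_eq_zero, ← NatTrans.naturality_apply φ.hom, hS, NatTrans.naturality_apply φ.hom, hσ,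
    ← ConcreteCategory.comp_apply, ← ConcreteCategory.comp_apply, ← Functor.map_comp, ← Functor.map_comp,
    ← op_comp, ← op_comp, hm]

theorem push_preservesEpimorphisms (f : X ⟶ Y) [IsIntegralHom f] : (EtCoh.push f).PreservesEpimorphisms :=
  ⟨fun φ _ => push_map_epi f φ⟩

end Groth.Agent.EtCore45
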