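import Groth.Agent.EtCore45.Stalks
import Groth.Agent.Unr55.Et.FinitePushExact

/-!
Geometric points with algebraically closed fields suffice.
-/

set_option autoImplicit false
set_option backward.isDefEq.respectTransparency.types false
universe u

open CategoryTheory CategoryTheory.Limits AlgebraicGeometry Opposite
open Groth.Agent.Unr55.EtSh

namespace Groth.Agent.EtCore45

variable {X : Scheme.{u}}

/-- A sheaf whose stalks at algebraically closed points vanish is zero. -/
theorem isZero_of_stalks_algClosed (F : EtCoh.Ab X)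
    (h : ∀ (K : Type u) [Field K] [IsAlgClosed K] (η : Spec (CommRingCat.of K) ⟶ X),
      IsZero ((EtCoh.stalk η).obj F)) : IsZero F := by
  refine isZero_of_stalks F fun K _ _ η => (isZero_stalk_iff η F).2 fun U t σ => ?_
  have h0 : σ = 0 := sect_eq_zero_of_local F σ fun x => by
    obtain ⟨L, _, _, ζ, p, hp⟩ := point_over_algClosed U x
    obtain ⟨V, g, p', h1, h2⟩ := (isZero_stalk_iff ζ F).1 (h L ζ) U p σ
    refine ⟨V, g, hom ζ p' default, ?_, h2⟩
    rw [← hp, ← h1]
    rfl
  exact ⟨U, 𝟙 U, t, by simp, by rw [h0]; simp⟩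

/-- Isomorphisms are detected at algebraically closed points. -/
theorem isIso_of_stalks_algClosed {F G : EtCoh.Ab X} (φ : F ⟶ G)
    (h : ∀ (K : Type u) [Field K] [IsAlgClosed K] (η : Spec (CommRingCat.of K) ⟶ X),
      Function.Bijective ((EtCoh.stalk η).map φ)) : IsIso φ := by
  have hk : IsZero (kernel φ) := isZero_of_stalks_algClosed _ fun K _ _ η => by
    have : IsIso ((EtCoh.stalk η).map φ) := (ConcreteCategory.isIso_iff_bijective _).2 (h K η)
    exact (isZero_kernel_of_mono ((EtCoh.stalk η).map φ)).of_iso (PreservesKernel.iso (EtCoh.stalk η) φ)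
  have hc : IsZero (cokernel φ) := isZero_of_stalks_algClosed _ fun K _ _ η => by
    have : IsIso ((EtCoh.stalk η).map φ) := (ConcreteCategory.isIso_iff_bijective _).2 (h K η)
    exact (isZero_cokernel_of_epi ((EtCoh.stalk η).map φ)).of_iso (PreservesCokernel.iso (EtCoh.stalk η) φ)
  have : Mono φ := Preadditive.mono_of_kernel_zero (hk.eq_of_src _ _)
  have : Epi φ := Preadditive.epi_of_cokernel_zero (hc.eq_of_tgt _ _)
  exact isIso_of_mono_of_epi φ

end Groth.Agent.EtCore45
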