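import Groth.Agent.EtCore45.ExtZeroStalk
import Groth.Agent.EtCore45.AlgClosedPts
import Groth.Agent.Unr55.Et.ClosedPush

/-!
Extension by zero along open immersions; the sequence of an open and its closed complement.
-/

set_option autoImplicit false
set_option backward.isDefEq.respectTransparency.types false
universe u

open CategoryTheory CategoryTheory.Limits AlgebraicGeometry Opposite
open Groth.Agent.Unr55.EtSh

namespace Groth.Agent.EtCore45

variable {U X : Scheme.{u}}

set_option linter.unusedVariables false in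
theorem isIso_unit_extZero_of_mono (j : U ⟶ X) [Etale j] [EtShriek.JCont j] [Mono j] (F : EtCoh.Ab U) :
    IsIso ((EtShriek.extZeroAdj j).unit.app F) :=
  isIso_of_stalks _ fun K _ _ v => (Function.Bijective.of_comp_iff'
    (restrStalkMap_bijective j (rfl : v ≫ j = v ≫ j) ((EtShriek.extZero j).obj F)) _).1
      (extZeroStalkMap_bijective_of_mono rfl F)

set_option linter.unusedVariables false in
theorem isIso_counit_openImmersion (j : U ⟶ X) [IsOpenImmersion j] (F : EtCoh.Ab U) :
    IsIso ((EtCoh.pullPushAdj j).counit.app F) :=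
  isIso_of_stalks _ fun K _ _ v => counit_stalk_bijective j v F
    (pushStalkMap_bijective j v (dominated_of_isOpenImmersion j v) (openRefined_of_isOpenImmersion j v) F)

theorem extZeroStalkMap_counit (j : U ⟶ X) [Etale j] [EtShriek.JCont j] {Ω : Type u} [Field Ω] [IsSepClosed Ω]
    {ξ : Spec (CommRingCat.of Ω) ⟶ X} {v : Spec (CommRingCat.of Ω) ⟶ U} (h : v ≫ j = ξ) (G : EtCoh.Ab X)
    (a : ((EtCoh.stalk v).obj ((EtShriek.restrAlong j).obj G) : AddCommGrpCat.{u + 1})) :
    (EtCoh.stalk ξ).map ((EtShriek.extZeroAdj j).counit.app G)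
        (extZeroStalkMap j h ((EtShriek.restrAlong j).obj G) a) = restrStalkMap j h G a := by
  obtain ⟨V, s, σ, rfl⟩ := exists_germ_eq v ((EtShriek.restrAlong j).obj G) a
  rw [extZeroStalkMap_germ, restrStalkMap_germ]
  refine (stalk_map_germ ξ ((EtShriek.extZeroAdj j).counit.app G) (ptComp j h s) _).trans ?_
  exact congrArg (germ ξ G (ptComp j h s)) (ConcreteCategory.congr_hom (congrArg (fun k => k.hom.app (op V))
    ((EtShriek.extZeroAdj j).right_triangle_components G)) σ)

theorem exists_above (j : U ⟶ X) [IsOpenImmersion j] {Ω : Type u} [Field Ω]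
    (ξ : Spec (CommRingCat.of Ω) ⟶ X) (h : ξ default ∈ Set.range j) : ∃ v, v ≫ j = ξ :=
  ⟨IsOpenImmersion.lift j ξ (by rintro _ ⟨a, rfl⟩; rwa [default_eq a]), IsOpenImmersion.lift_fac _ _ _⟩

theorem isEmpty_above (j : U ⟶ X) {Ω : Type u} [Field Ω]
    (ξ : Spec (CommRingCat.of Ω) ⟶ X) (h : ξ default ∉ Set.range j) : IsEmpty (Above j ξ) :=
  ⟨fun v => h ⟨v.1 default, congrArg (fun q : Spec (CommRingCat.of Ω) ⟶ X => q default) v.2⟩⟩

theorem counit_extZero_stalk_bijective (j : U ⟶ X) [IsOpenImmersion j] [Etale j] [EtShriek.JCont j]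
    {Ω : Type u} [Field Ω] [IsSepClosed Ω] (ξ : Spec (CommRingCat.of Ω) ⟶ X)
    (h : ξ default ∈ Set.range j) (G : EtCoh.Ab X) :
    Function.Bijective ((EtCoh.stalk ξ).map ((EtShriek.extZeroAdj j).counit.app G)) := by
  obtain ⟨v, hv⟩ := exists_above j ξ h
  refine (Function.Bijective.of_comp_iff _
    (extZeroStalkMap_bijective_of_mono hv ((EtShriek.restrAlong j).obj G))).1 ?_
  exact (congrArg Function.Bijective (funext (extZeroStalkMap_counit j hv G) :
    _ = ⇑(restrStalkMap j hv G))).mpr (restrStalkMap_bijective j hv G)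

/-- A sheaf with the prescribed restriction and vanishing stalks outside is the extension by zero. -/
theorem nonempty_iso_extZero (j : U ⟶ X) [IsOpenImmersion j] [Etale j] [EtShriek.JCont j]
    (F : EtCoh.Ab U) (G : EtCoh.Ab X) (hres : Nonempty ((EtShriek.restrAlong j).obj G ≅ F))
    (hzero : ∀ (Ω : Type u) [Field Ω] [IsAlgClosed Ω] (ξ : Spec (CommRingCat.of Ω) ⟶ X),
      ξ default ∉ Set.range j → IsZero ((EtCoh.stalk ξ).obj G)) :
    Nonempty (G ≅ (EtShriek.extZero j).obj F) := by
  suffices IsIso ((EtShriek.extZeroAdj j).counit.app G) from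
    ⟨(asIso ((EtShriek.extZeroAdj j).counit.app G)).symm ≪≫ (EtShriek.extZero j).mapIso hres.some⟩
  refine isIso_of_stalks_algClosed _ fun K _ _ ξ => ?_
  by_cases h : ξ default ∈ Set.range j
  · exact counit_extZero_stalk_bijective j ξ h G
  · have h1 := isZero_extZero_stalk (j := j) (ξ := ξ) ((EtShriek.restrAlong j).obj G) (isEmpty_above j ξ h)
    have h2 := hzero K ξ h
    exact ⟨fun a b _ => (AddCommGrpCat.subsingleton_of_isZero h1).elim a b,
      fun b => ⟨0, (AddCommGrpCat.subsingleton_of_isZero h2).elim _ b⟩⟩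

/-- The sequence of an open subscheme and its closed complement. -/
theorem shortExact_open_closed {Z : Scheme.{u}} (i : Z ⟶ X) [IsClosedImmersion i] (j : U ⟶ X)
    [IsOpenImmersion j] [Etale j] [EtShriek.JCont j] (hU : Set.range j = (Set.range i)ᶜ) (F : EtCoh.Ab X) :
    ∃ w : (EtShriek.extZeroAdj j).counit.app F ≫ (EtCoh.pullPushAdj i).unit.app F = 0,
      (ShortComplex.mk _ _ w).ShortExact := by
  have hz : ∀ V : U.Etale, ∀ τ : EtCoh.sect ((EtShriek.restrAlong j).obj
      ((EtCoh.push i).obj ((EtCoh.pull i).obj F))) V, τ = 0 := by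
    intro V τ
    have := isEmpty_bc_of_disjoint i (U := (EtShriek.compEtale j).obj V) (Set.disjoint_left.2 (by
      rintro _ ⟨x, rfl⟩ hx
      exact (hU.le ⟨V.hom x, rfl⟩) hx))
    exact @sect_eq_zero_of_isEmpty _ ((EtCoh.pull i).obj F) ((EtCoh.bc i).obj ((EtShriek.compEtale j).obj V)) this τ
  have w : (EtShriek.extZeroAdj j).counit.app F ≫ (EtCoh.pullPushAdj i).unit.app F = 0 := by
    apply ((EtShriek.extZeroAdj j).homEquiv _ _).injective
    refine ObjectProperty.hom_ext _ (NatTrans.ext (funext fun V => ConcreteCategory.hom_ext _ _ fun σ => ?_))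
    exact (hz V.unop _).trans (hz V.unop _).symm
  have key : ∀ (K : Type u) [Field K] [IsSepClosed K] (ξ : Spec (CommRingCat.of K) ⟶ X),
      Function.Injective ((EtCoh.stalk ξ).map ((EtShriek.extZeroAdj j).counit.app F)) ∧
      Function.Surjective ((EtCoh.stalk ξ).map ((EtCoh.pullPushAdj i).unit.app F)) ∧
      ∀ a, (EtCoh.stalk ξ).map ((EtCoh.pullPushAdj i).unit.app F) a = 0 →
        ∃ b, (EtCoh.stalk ξ).map ((EtShriek.extZeroAdj j).counit.app F) b = a := by
    intro K _ _ ξ
    by_cases h : ξ default ∈ Set.range j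
    · have hb := counit_extZero_stalk_bijective j ξ h F
      have hT := isZero_stalk_push_of_disjoint i ((EtCoh.pull i).obj F) ξ
        i.isClosedEmbedding.isClosed_range (hU.le h)
      exact ⟨hb.1, fun b => ⟨0, (AddCommGrpCat.subsingleton_of_isZero hT).elim _ b⟩, fun a _ => hb.2 a⟩
    · have hi : ξ default ∈ Set.range i := by_contra fun hc => h (hU.ge hc)
      have hS := isZero_extZero_stalk (j := j) (ξ := ξ) ((EtShriek.restrAlong j).obj F) (isEmpty_above j ξ h)
      obtain ⟨v, rfl⟩ := exists_point_lift i ξ hi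
      have hb := unit_stalk_bijective i v F (pushStalkMap_bijective_closed i v _)
      exact ⟨fun a b _ => (AddCommGrpCat.subsingleton_of_isZero hS).elim a b, hb.2,
        fun a ha => ⟨0, hb.1 (((congrArg _ (map_zero _)).trans (map_zero _)).trans ha.symm)⟩⟩
  refine ⟨w, ShortComplex.ShortExact.mk' ?_ (mono_of_stalks _ fun K _ _ ξ => (key K ξ).1)
    (epi_of_stalks _ fun K _ _ ξ => (key K ξ).2.1)⟩
  rw [exact_iff_stalks]
  intro K _ _ ξ
  rw [ShortComplex.ab_exact_iff]
  exact (key K ξ).2.2

end Groth.Agent.EtCore45
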