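import Groth.Agent.EtCore45.EtalePull
import Groth.Agent.EtCore45.ExtZeroOpen
import Groth.Agent.LocConst45.AbConst
import Groth.Prelude.Def_EtCore

/-!
Sections of inverse images along etale morphisms, and restriction in degree zero.
-/

set_option autoImplicit false
set_option backward.isDefEq.respectTransparency.types false
universe u

open CategoryTheory CategoryTheory.Limits AlgebraicGeometry Opposite

namespace Groth.Agent.EtCore45.MV

variable {U X : Scheme.{u}} (j : U ⟶ X) [Etale j]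

/-- Sections of the inverse image along an etale morphism. -/
noncomputable def pullSect (A : EtCoh.Ab X) (V : U.Etale) :
    EtCoh.sect ((EtCoh.pull j).obj A) V →+ EtCoh.sect A ((EtShriek.compEtale j).obj V) :=
  (((pullRestrIso j).hom.app A).hom.app (op V)).hom

theorem pullSect_bijective (A : EtCoh.Ab X) (V : U.Etale) : Function.Bijective (pullSect j A V) := by
  have : IsIso (((pullRestrIso j).hom.app A).hom) :=
    (inferInstance : IsIso ((sheafToPresheaf U.smallEtaleTopology AddCommGrpCat.{u + 1}).map ((pullRestrIso j).hom.app A)))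
  exact ConcreteCategory.bijective_of_isIso (((pullRestrIso j).hom.app A).hom.app (op V))

theorem pullSect_map {A : EtCoh.Ab X} {V V' : U.Etale} (g : V' ⟶ V) (x : EtCoh.sect ((EtCoh.pull j).obj A) V) :
    pullSect j A V' (((EtCoh.pull j).obj A).obj.map g.op x) =
      A.obj.map ((EtShriek.compEtale j).map g).op (pullSect j A V x) :=
  NatTrans.naturality_apply ((pullRestrIso j).hom.app A).hom g.op x

theorem pullSect_natural {A B : EtCoh.Ab X} (φ : A ⟶ B) (V : U.Etale) (x : EtCoh.sect ((EtCoh.pull j).obj A) V) :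
    pullSect j B V (((EtCoh.pull j).map φ).hom.app (op V) x) =
      φ.hom.app (op ((EtShriek.compEtale j).obj V)) (pullSect j A V x) :=
  ConcreteCategory.congr_hom (congrArg (fun k => k.hom.app (op V)) ((pullRestrIso j).hom.naturality φ)) x

/-- The unit of inverse image on sections. -/
noncomputable def unitSect {W Y : Scheme.{u}} (f : W ⟶ Y) (A : EtCoh.Ab Y) (V : Y.Etale) :
    EtCoh.sect A V →+ EtCoh.sect ((EtCoh.pull f).obj A) ((EtCoh.bc f).obj V) :=
  (((EtCoh.pullPushAdj f).unit.app A).hom.app (op V)).hom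

theorem unitSect_map {W Y : Scheme.{u}} (f : W ⟶ Y) (A : EtCoh.Ab Y) {V V' : Y.Etale} (g : V' ⟶ V)
    (a : EtCoh.sect A V) :
    unitSect f A V' (A.obj.map g.op a) =
      ((EtCoh.pull f).obj A).obj.map ((EtCoh.bc f).map g).op (unitSect f A V a) :=
  NatTrans.naturality_apply ((EtCoh.pullPushAdj f).unit.app A).hom g.op a

theorem pullSect_unitSect (A : EtCoh.Ab X) (V : X.Etale) (a : EtCoh.sect A V) :
    pullSect j A ((EtCoh.bc j).obj V) (unitSect j A V a) = A.obj.map ((compBcAdj j).counit.app V).op a := by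
  have h := Adjunction.unit_leftAdjointUniq_hom_app (EtCoh.pullPushAdj j) (restrPushAdj j) A
  exact (ConcreteCategory.congr_hom (congrArg (fun k => k.hom.app (op V)) h) a : _)

theorem map_map {Y : Scheme.{u}} (A : EtCoh.Ab Y) {a b c : Y.Etale} (p : b ⟶ a) (q : c ⟶ b) (s : EtCoh.sect A a) :
    A.obj.map q.op (A.obj.map p.op s) = A.obj.map (q ≫ p).op s := by
  rw [op_comp, A.obj.map_comp]
  rfl

theorem map_endo {Y : Scheme.{u}} (A : EtCoh.Ab Y) {a : Y.Etale} (p : a ⟶ a) (hp : p = 𝟙 a) (s : EtCoh.sect A a) :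
    A.obj.map p.op s = s := by
  subst hp
  rw [op_id, A.obj.map_id]
  rfl

theorem app_map {Y : Scheme.{u}} {A B : EtCoh.Ab Y} (φ : A ⟶ B) {a b : Y.Etale} (p : b ⟶ a) (s : EtCoh.sect A a) :
    φ.hom.app (op b) (A.obj.map p.op s) = B.obj.map p.op (φ.hom.app (op a) s) :=
  NatTrans.naturality_apply φ.hom p.op s

theorem iso_app_inv {Y : Scheme.{u}} {A B : EtCoh.Ab Y} (e : A ≅ B) (a : Y.Etale) (s : EtCoh.sect A a) :
    e.inv.hom.app (op a) (e.hom.hom.app (op a) s) = s :=
  ConcreteCategory.congr_hom (congrArg (fun k : A ⟶ A => k.hom.app (op a)) e.hom_inv_id) s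

theorem subsingleton_hom_compTop [Mono j] (Z : X.Etale) :
    Subsingleton (Z ⟶ (EtShriek.compEtale j).obj (EtCoh.top U)) := by
  refine ⟨fun a b => MorphismProperty.Over.Hom.ext ((cancel_mono j).1 ?_)⟩
  have ha := MorphismProperty.Over.w a
  have hb := MorphismProperty.Over.w b
  have e : ((EtShriek.compEtale j).obj (EtCoh.top U)).hom = j := Category.id_comp j
  rw [e] at ha hb
  exact ha.trans hb.symm

/-- A morphism out of the constant sheaf as a section. -/
noncomputable def oneSect {Y : Scheme.{u}} {A : EtCoh.Ab Y} (ψ : EtCoh.const Y ℤ ⟶ A) :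
    EtCoh.sect A (EtCoh.top Y) :=
  (EtCore.constAdj Y).homEquiv _ _ ψ ⟨1⟩

theorem oneSect_add {Y : Scheme.{u}} {A : EtCoh.Ab Y} (ψ ψ' : EtCoh.const Y ℤ ⟶ A) :
    oneSect (ψ + ψ') = oneSect ψ + oneSect ψ' := by
  rfl

theorem oneSect_comp {Y : Scheme.{u}} {A B : EtCoh.Ab Y} (ψ : EtCoh.const Y ℤ ⟶ A) (φ : A ⟶ B) :
    oneSect (ψ ≫ φ) = φ.hom.app (op (EtCoh.top Y)) (oneSect ψ) := by
  simp only [oneSect, Adjunction.homEquiv_naturality_right]
  rfl

theorem oneSect_bijective {Y : Scheme.{u}} (A : EtCoh.Ab Y) :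
    Function.Bijective (fun ψ : EtCoh.const Y ℤ ⟶ A => oneSect ψ) := by
  refine Function.Bijective.comp (g := fun φ : AddCommGrpCat.of (ULift.{u + 1} ℤ) ⟶ _ => φ ⟨1⟩) ?_
    ((EtCore.constAdj Y).homEquiv _ _).bijective
  refine ⟨fun a b h => ?_, fun y => ⟨AddCommGrpCat.ofHom
    ((zmultiplesHom _ y).comp (AddEquiv.ulift (α := ℤ)).toAddMonoidHom), one_zsmul y⟩⟩
  refine ConcreteCategory.hom_ext _ _ fun ⟨n⟩ => ?_
  have e : (⟨n⟩ : ULift.{u + 1} ℤ) = n • ⟨1⟩ := ULift.ext _ _ (by simp)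
  rw [e, map_zsmul, map_zsmul]
  exact congrArg (n • ·) h

/-- Restriction of a morphism out of the constant sheaf. -/
theorem oneSect_pull {W Y : Scheme.{u}} (f : W ⟶ Y) {A : EtCoh.Ab Y} (ψ : EtCoh.const Y ℤ ⟶ A) :
    oneSect ((EtCore.pullConst f ℤ).inv ≫ (EtCoh.pull f).map ψ) =
      ((EtCoh.pull f).obj A).obj.map (EtCore.bcTopIso f).inv.op (unitSect f A (EtCoh.top Y) (oneSect ψ)) := by
  let adj1 := ((EtCore.constAdj Y).comp (EtCoh.pullPushAdj f)).ofNatIsoRight (EtCore.pushGsecIso f)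
  let M := AddCommGrpCat.of (ULift.{u + 1} ℤ)
  have e : (EtCore.constAdj W).homEquiv M _ ((EtCore.pullConst f ℤ).inv ≫ (EtCoh.pull f).map ψ) =
      adj1.homEquiv M _ ((EtCoh.pull f).map ψ) := by
    rw [Adjunction.homEquiv_unit, Adjunction.homEquiv_unit, Functor.map_comp]
    erw [← Category.assoc]
    exact congrArg (· ≫ (EtCore.gsec W).map ((EtCoh.pull f).map ψ))
      (Adjunction.unit_leftAdjointUniq_hom_app (EtCore.constAdj W) adj1 M)
  refine (congrArg (fun k => k ⟨1⟩) e).trans ?_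
  have e2 : adj1.homEquiv M _ ((EtCoh.pull f).map ψ) =
      ((EtCore.constAdj Y).homEquiv M _ (ψ ≫ (EtCoh.pullPushAdj f).unit.app A)) ≫
        (EtCore.pushGsecIso f).hom.app _ := by
    simp [adj1, Adjunction.ofNatIsoRight, Adjunction.comp_homEquiv, Adjunction.homEquiv_unit]
    congr 1
    have hn := congrArg (fun k => k.hom.app (op (EtCoh.top Y))) ((EtCoh.pullPushAdj f).unit.naturality ψ)
    have hp := (EtCore.pushGsecIso f).hom.naturality ((EtCoh.pull f).map ψ)
    dsimp at hn hp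
    rw [reassoc_of% hn]
    congr 1
    exact hp.symm
  refine (congrArg (fun k => k ⟨1⟩) e2).trans ?_
  exact congrArg (fun z => ((EtCoh.pull f).obj A).obj.map (EtCore.bcTopIso f).inv.op z)
    (oneSect_comp ψ ((EtCoh.pullPushAdj f).unit.app A))

/-- A morphism out of the constant sheaf of `U` as a section over `U`. -/
noncomputable def sectOf {A : EtCoh.Ab X} (ψ : EtCoh.const U ℤ ⟶ (EtCoh.pull j).obj A) :
    EtCoh.sect A ((EtShriek.compEtale j).obj (EtCoh.top U)) :=
  pullSect j A (EtCoh.top U) (oneSect ψ)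

theorem sectOf_bijective (A : EtCoh.Ab X) :
    Function.Bijective (fun ψ : EtCoh.const U ℤ ⟶ (EtCoh.pull j).obj A => sectOf j ψ) :=
  (pullSect_bijective j A _).comp (oneSect_bijective _)

theorem sectOf_comp {A B : EtCoh.Ab X} (ψ : EtCoh.const U ℤ ⟶ (EtCoh.pull j).obj A) (φ : A ⟶ B) :
    sectOf j (ψ ≫ (EtCoh.pull j).map φ) = φ.hom.app (op _) (sectOf j ψ) :=
  (congrArg (pullSect j B _) (oneSect_comp ψ ((EtCoh.pull j).map φ))).trans (pullSect_natural j φ _ _)

theorem sectOf_global [Mono j] {A : EtCoh.Ab X} (φ : EtCoh.const X ℤ ⟶ A)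
    (d : (EtShriek.compEtale j).obj (EtCoh.top U) ⟶ EtCoh.top X) :
    sectOf j ((EtCore.pullConst j ℤ).inv ≫ (EtCoh.pull j).map φ) = A.obj.map d.op (oneSect φ) := by
  rw [sectOf, oneSect_pull, pullSect_map, pullSect_unitSect, ← ConcreteCategory.comp_apply, ← A.obj.map_comp,
    ← op_comp]
  exact congrArg (fun k => A.obj.map (Quiver.Hom.op k) (oneSect φ)) ((EtCore.topIsTerminal X).hom_ext _ _)

theorem exists_unit_preimage [Mono j] {A : EtCoh.Ab X} (x : EtCoh.sect ((EtCoh.pull j).obj A) (EtCoh.top U)) :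
    x = ((EtCoh.pull j).obj A).obj.map ((compBcAdj j).unit.app (EtCoh.top U)).op
      (unitSect j A _ (pullSect j A (EtCoh.top U) x)) := by
  refine (pullSect_bijective j A _).1 ?_
  rw [pullSect_map]
  refine Eq.trans ?_ (congrArg _ (pullSect_unitSect j A _ _).symm)
  refine Eq.trans ?_ (map_map A _ _ _).symm
  have := subsingleton_hom_compTop j ((EtShriek.compEtale j).obj (EtCoh.top U))
  exact (map_endo A _ (Subsingleton.elim _ _) _).symm

omit [Etale j] in
theorem pullComp_unitSect {W : Scheme.{u}} (f : W ⟶ U) {h : W ⟶ X} (w : f ≫ j = h) (A : EtCoh.Ab X)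
    (V : X.Etale) (a : EtCoh.sect A V) :
    ∃ d : (EtCoh.bc f).obj ((EtCoh.bc j).obj V) ⟶ (EtCoh.bc h).obj V,
      (((EtCore.pullComp f j).symm ≪≫ EtCore.pullCongr w).app A).hom.hom.app _
          (unitSect f _ _ (unitSect j A V a)) =
        ((EtCoh.pull h).obj A).obj.map d.op (unitSect h A V a) := by
  subst w
  let adj2 := ((EtCoh.pullPushAdj j).comp (EtCoh.pullPushAdj f)).ofNatIsoRight (EtCoh.pushComp j f)
  have h1 := Adjunction.unit_leftAdjointUniq_hom_app (EtCoh.pullPushAdj (f ≫ j)) adj2 A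
  let i : (EtCoh.bc (f ≫ j)).obj V ≅ (EtCoh.bc f).obj ((EtCoh.bc j).obj V) :=
    (MorphismProperty.Over.pullbackComp (P := EtCoh.etaleMP) (Q := ⊤) f j).app V
  let e := (EtCore.pullComp f j).app A
  let PP := (EtCoh.pull f).obj ((EtCoh.pull j).obj A)
  have h2 : e.hom.hom.app _ (unitSect (f ≫ j) A V a) =
      PP.obj.map i.hom.op (unitSect f _ _ (unitSect j A V a)) :=
    (ConcreteCategory.congr_hom (congrArg (fun k => k.hom.app (op V)) h1) a : _)
  have h3 : unitSect f _ _ (unitSect j A V a) =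
      e.hom.hom.app _ (((EtCoh.pull (f ≫ j)).obj A).obj.map i.inv.op (unitSect (f ≫ j) A V a)) := by
    exact ((app_map e.hom i.inv _).trans ((congrArg _ h2).trans
      ((map_map PP _ _ _).trans (map_endo PP _ i.inv_hom_id _)))).symm
  refine ⟨i.inv, ?_⟩
  rw [h3]
  change (e.inv ≫ 𝟙 _).hom.app _ (e.hom.hom.app _ _) = _
  rw [Category.comp_id]
  exact iso_app_inv e _ _

/-- Restriction from an open to a smaller one. -/
theorem sectOf_restrict [Mono j] {W : Scheme.{u}} (f : W ⟶ U) (h : W ⟶ X) [Etale h] (w : f ≫ j = h)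
    {A : EtCoh.Ab X} (ψ : EtCoh.const U ℤ ⟶ (EtCoh.pull j).obj A)
    (d : (EtShriek.compEtale h).obj (EtCoh.top W) ⟶ (EtShriek.compEtale j).obj (EtCoh.top U)) :
    sectOf h ((EtCore.pullConst f ℤ).inv ≫ (EtCoh.pull f).map ψ ≫
        (((EtCore.pullComp f j).symm ≪≫ EtCore.pullCongr w).app A).hom) =
      A.obj.map d.op (sectOf j ψ) := by
  let κ := (((EtCore.pullComp f j).symm ≪≫ EtCore.pullCongr w).app A).hom
  let δ := (compBcAdj j).unit.app (EtCoh.top U)
  obtain ⟨i, hi⟩ := pullComp_unitSect j f w A _ (sectOf j ψ)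
  have h1 : oneSect ((EtCore.pullConst f ℤ).inv ≫ (EtCoh.pull f).map ψ ≫ κ) =
      κ.hom.app _ (((EtCoh.pull f).obj ((EtCoh.pull j).obj A)).obj.map (EtCore.bcTopIso f).inv.op
        (unitSect f ((EtCoh.pull j).obj A) (EtCoh.top U) (oneSect ψ))) := by
    rw [← Category.assoc, oneSect_comp, oneSect_pull]
  have h2 : unitSect f ((EtCoh.pull j).obj A) (EtCoh.top U) (oneSect ψ) =
      ((EtCoh.pull f).obj ((EtCoh.pull j).obj A)).obj.map ((EtCoh.bc f).map δ).op
        (unitSect f _ _ (unitSect j A _ (sectOf j ψ))) :=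
    (congrArg _ (exists_unit_preimage j (oneSect ψ))).trans (unitSect_map f _ δ _)
  rw [sectOf]
  refine (congrArg (pullSect h A _) h1).trans ?_
  rw [h2]
  refine (congrArg (pullSect h A _) ((app_map κ _ _).trans (congrArg _ (app_map κ _ _)))).trans ?_
  refine (congrArg (fun z => pullSect h A _ (((EtCoh.pull h).obj A).obj.map _ (((EtCoh.pull h).obj A).obj.map _ z))) hi).trans ?_
  rw [pullSect_map, pullSect_map, pullSect_map, pullSect_unitSect]
  simp only [map_map]
  have := subsingleton_hom_compTop j ((EtShriek.compEtale h).obj (EtCoh.top W))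
  exact congrArg (fun k => A.obj.map (Quiver.Hom.op k) (sectOf j ψ)) (Subsingleton.elim _ _)

end Groth.Agent.EtCore45.MV
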