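import Groth.Agent.EtCore45.CompEtale
import Groth.Prelude.Def_EtCore
import Mathlib.CategoryTheory.Sites.CoverPreserving

/-!
Inverse image along an etale morphism is restriction; it preserves injectives.
-/

set_option autoImplicit false
set_option backward.isDefEq.respectTransparency.types false
universe u

open CategoryTheory CategoryTheory.Limits AlgebraicGeometry Opposite

namespace Groth.Agent.EtCore45

variable {U X : Scheme.{u}} (j : U ⟶ X) [Etale j]

/-- A functor preserving pullbacks is compatible preserving. -/
theorem compatiblePreserving_of_preservesPullbacks {C D : Type*} [Category C] [Category D]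
    (K : GrothendieckTopology D) (G : C ⥤ D) [HasPullbacks C] [PreservesLimitsOfShape WalkingCospan G] :
    CompatiblePreserving K G := by
  constructor
  intro ℱ Z T x hx Y₁ Y₂ W f₁ f₂ g₁ g₂ hg₁ hg₂ w
  have hP := (IsPullback.of_hasPullback g₁ g₂).map G
  have e₁ : hP.lift f₁ f₂ w ≫ G.map (pullback.fst g₁ g₂) = f₁ := hP.lift_fst _ _ _
  have e₂ : hP.lift f₁ f₂ w ≫ G.map (pullback.snd g₁ g₂) = f₂ := hP.lift_snd _ _ _
  generalize hP.lift f₁ f₂ w = l at e₁ e₂
  subst e₁ e₂
  simp only [op_comp, Functor.map_comp]
  exact congrArg (ℱ.obj.map l.op)
    (hx (pullback.fst g₁ g₂) (pullback.snd g₁ g₂) hg₁ hg₂ pullback.condition)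

instance (priority := low) jCont : EtShriek.JCont j :=
  have := preservesLimitsOfShape_compEtale j WalkingCospan
  Functor.isContinuous_of_coverPreserving (compatiblePreserving_of_preservesPullbacks _ _)
    (EtShriek.coverPreserving_compEtale j)

/-- Composition with an etale morphism is left adjoint to base change. -/
noncomputable def compBcAdj : EtShriek.compEtale j ⊣ EtCoh.bc j :=
  MorphismProperty.Over.mapPullbackAdj EtCoh.etaleMP ⊤ j (inferInstance : Etale j) trivial

/-- Restriction is left adjoint to direct image. -/
noncomputable def restrPushAdj [EtShriek.JCont j] : EtShriek.restrAlong j ⊣ EtCoh.push j :=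
  (compBcAdj j).sheafPushforwardContinuous U.smallEtaleTopology X.smallEtaleTopology

/-- Inverse image along an etale morphism is restriction. -/
noncomputable def pullRestrIso [EtShriek.JCont j] : EtCoh.pull j ≅ EtShriek.restrAlong j :=
  Adjunction.leftAdjointUniq (EtCoh.pullPushAdj j) (restrPushAdj j)

theorem injective_restrAlong [EtShriek.JCont j] (I : EtCoh.Ab X) [Injective I] :
    Injective ((EtShriek.restrAlong j).obj I) :=
  have := preservesFiniteLimits_extZero j
  Injective.injective_of_adjoint (EtShriek.extZeroAdj j) I

theorem injective_pull (I : EtCoh.Ab X) [Injective I] : Injective ((EtCoh.pull j).obj I) :=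
  have := injective_restrAlong j I
  Injective.of_iso ((pullRestrIso j).app I).symm this

end Groth.Agent.EtCore45
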