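import Groth.Agent.EtCore45.BaseChange
import Groth.Agent.EtCore45.AlgClosedPts

/-!
Base change for direct images along finite morphisms.
-/

set_option autoImplicit false
set_option backward.isDefEq.respectTransparency.types false
universe u

open CategoryTheory CategoryTheory.Limits AlgebraicGeometry Opposite
open Groth.Agent.Unr55.EtSh

namespace Groth.Agent.EtCore45

variable {X Y X' Y' : Scheme.{u}}

theorem pushMapPi_π (f : X ⟶ Y) {Ω : Type u} [Field Ω] [IsSepClosed Ω] (η : Spec (CommRingCat.of Ω) ⟶ Y)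
    (F : EtCoh.Ab X) (ξ : {ξ : Spec (CommRingCat.of Ω) ⟶ X // ξ ≫ f = η})
    (a : ((EtCoh.stalk η).obj ((EtCoh.push f).obj F) : AddCommGrpCat.{u + 1})) :
    Pi.π (fun ξ : {ξ : Spec (CommRingCat.of Ω) ⟶ X // ξ ≫ f = η} => (EtCoh.stalk ξ.1).obj F) ξ
        (pushMapPi f η F a) = pushMapAt f ξ.2 F a :=
  ConcreteCategory.congr_hom (Pi.lift_π (fun ξ : {ξ : Spec (CommRingCat.of Ω) ⟶ X // ξ ≫ f = η} =>
    pushMapAt f ξ.2 F) ξ) a

theorem exists_components (f : X ⟶ Y) [IsFinite f] {Ω : Type u} [Field Ω] [IsAlgClosed Ω]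
    (η : Spec (CommRingCat.of Ω) ⟶ Y) (F : EtCoh.Ab X)
    (c : ∀ ξ : {ξ : Spec (CommRingCat.of Ω) ⟶ X // ξ ≫ f = η}, ((EtCoh.stalk ξ.1).obj F : AddCommGrpCat.{u + 1})) :
    ∃ a, ∀ (ξ : Spec (CommRingCat.of Ω) ⟶ X) (h : ξ ≫ f = η), pushMapAt f h F a = c ⟨ξ, h⟩ := by
  let e := Concrete.productEquiv (fun ξ : {ξ : Spec (CommRingCat.of Ω) ⟶ X // ξ ≫ f = η} => (EtCoh.stalk ξ.1).obj F)
  obtain ⟨a, ha⟩ := (pushMapPi_bijective f η F).2 (e.symm c)
  refine ⟨a, fun ξ h => ?_⟩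
  rw [← pushMapPi_π f η F ⟨ξ, h⟩ a, ha]
  exact (Concrete.productEquiv_apply_apply _ _ _).symm.trans (congrFun (e.apply_symm_apply c) ⟨ξ, h⟩)

theorem isIso_baseChange0_finite (f : X ⟶ Y) [IsFinite f] (g : Y' ⟶ Y)
    (f' : X' ⟶ Y') (g' : X' ⟶ X) (h : IsPullback g' f' f g) (F : EtCoh.Ab X) :
    IsIso (EtCoh.baseChange0 f g f' g' h.w F) := by
  have : IsFinite f' := MorphismProperty.of_isPullback h inferInstance
  refine isIso_of_stalks_algClosed _ fun K _ _ η => ⟨?_, fun b => ?_⟩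
  · refine (injective_iff_map_eq_zero ((EtCoh.stalk η).map _).hom).2 fun b hb => ?_
    obtain ⟨a, rfl⟩ := (theta_bijective g η ((EtCoh.push f).obj F)).2 b
    rw [show a = 0 from pushMapAt_injective f F a fun ξ hξ => ?_, map_zero]
    obtain ⟨ξ', rfl, h2⟩ : ∃ ξ', ξ' ≫ g' = ξ ∧ ξ' ≫ f' = η := ⟨h.lift ξ η hξ, h.lift_fst _ _ _, h.lift_snd _ _ _⟩
    have e := pushMapAt_bc0 f g f' g' h.w F η ξ' h2 hξ a
    refine (theta_bijective g' ξ' F).1 ?_
    rw [← e, map_zero]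
    exact (congrArg (pushMapAt f' h2 ((EtCoh.pull g').obj F)) hb).trans (map_zero _)
  · have hl : ∀ ξ : {ξ : Spec (CommRingCat.of K) ⟶ X // ξ ≫ f = η ≫ g},
        h.lift ξ.1 η ξ.2 ≫ f' = η := fun ξ => h.lift_snd _ _ _
    obtain ⟨a, ha⟩ := exists_components f (η ≫ g) F fun ξ =>
        (eqToHom (congrArg (fun q => (EtCoh.stalk q).obj F) (h.lift_fst ξ.1 η ξ.2)))
          ((Equiv.ofBijective _ (theta_bijective g' (h.lift ξ.1 η ξ.2) F)).symm
            (pushMapAt f' (hl ξ) ((EtCoh.pull g').obj F) b))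
    refine ⟨theta g η _ a, sub_eq_zero.1 (pushMapAt_injective f' _ _ fun ξ' h2 => ?_)⟩
    have hξ : (ξ' ≫ g') ≫ f = η ≫ g := by rw [Category.assoc, h.w, ← Category.assoc, h2]
    rw [map_sub, pushMapAt_bc0 f g f' g' h.w F η ξ' h2 hξ a, ha _ hξ, sub_eq_zero]
    have aux : ∀ (ζ : Spec (CommRingCat.of K) ⟶ X') (e : ζ = ξ') (hz : ζ ≫ g' = ξ' ≫ g') (hf : ζ ≫ f' = η),
        theta g' ξ' F ((eqToHom (congrArg (fun q => (EtCoh.stalk q).obj F) hz))
          ((Equiv.ofBijective _ (theta_bijective g' ζ F)).symm (pushMapAt f' hf ((EtCoh.pull g').obj F) b))) =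
        pushMapAt f' h2 ((EtCoh.pull g').obj F) b := by
      rintro ζ rfl hz hf
      simp only [eqToHom_refl, ConcreteCategory.id_apply]
      exact Equiv.ofBijective_apply_symm_apply _ (theta_bijective g' ζ F) _
    exact aux _ (h.hom_ext (h.lift_fst _ _ _) ((h.lift_snd _ _ _).trans h2.symm)) (h.lift_fst _ _ _) (h.lift_snd _ _ _)

end Groth.Agent.EtCore45
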