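import Groth.Agent.EtCore45.ExtZeroOpen
import Groth.Agent.Unr55.Et.FinitePushExact

/-!
Extension by zero and base change.
-/

set_option autoImplicit false
set_option backward.isDefEq.respectTransparency.types false
universe u

open CategoryTheory CategoryTheory.Limits AlgebraicGeometry Opposite
open Groth.Agent.Unr55.EtSh

namespace Groth.Agent.EtCore45

variable {V' V Y X : Scheme.{u}} (j : V ⟶ X) [Etale j] (f : Y ⟶ X) (j' : V' ⟶ Y) [Etale j'] (f' : V' ⟶ V)
  (h : IsPullback j' f' f j)

include h in
omit [Etale j] [Etale j'] in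
theorem isPullback_paste (W : V.Etale) :
    IsPullback (pullback.fst W.hom f') (pullback.snd W.hom f' ≫ j') (W.hom ≫ j) f :=
  (IsPullback.of_hasPullback W.hom f').paste_vert h.flip

/-- Base change of an etale scheme over a base changed etale scheme. -/
noncomputable def compBcIso :
    EtShriek.compEtale j ⋙ EtCoh.bc f ≅ EtCoh.bc f' ⋙ EtShriek.compEtale j' :=
  NatIso.ofComponents (fun W => MorphismProperty.Over.isoMk (isPullback_paste j f j' f' h W).isoPullback.symm
      ((isPullback_paste j f j' f' h W).isoPullback_inv_snd))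
    (fun {W W'} g => by
      apply MorphismProperty.Over.Hom.ext
      apply (isPullback_paste j f j' f' h W').hom_ext
      · change (((EtCoh.bc f).map ((EtShriek.compEtale j).map g)).left ≫
            (isPullback_paste j f j' f' h W').isoPullback.inv) ≫ pullback.fst W'.hom f' =
          ((isPullback_paste j f j' f' h W).isoPullback.inv ≫ ((EtCoh.bc f').map g).left) ≫ pullback.fst W'.hom f'
        rw [Category.assoc, Category.assoc]
        erw [(isPullback_paste j f j' f' h W').isoPullback_inv_fst, (EtCoh.isPullback_bc_map f' g).w]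
        erw [(EtCoh.isPullback_bc_map f ((EtShriek.compEtale j).map g)).w]
        erw [(isPullback_paste j f j' f' h W).isoPullback_inv_fst_assoc]
        rfl
      · change (((EtCoh.bc f).map ((EtShriek.compEtale j).map g)).left ≫
            (isPullback_paste j f j' f' h W').isoPullback.inv) ≫ pullback.snd W'.hom f' ≫ j' =
          ((isPullback_paste j f j' f' h W).isoPullback.inv ≫ ((EtCoh.bc f').map g).left) ≫ pullback.snd W'.hom f' ≫ j'
        rw [Category.assoc, Category.assoc]
        erw [(isPullback_paste j f j' f' h W').isoPullback_inv_snd]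
        erw [← Category.assoc ((EtCoh.bc f').map g).left, Over.w ((EtCoh.bc f').map g).hom]
        erw [(isPullback_paste j f j' f' h W).isoPullback_inv_snd]
        exact Over.w ((EtCoh.bc f).map ((EtShriek.compEtale j).map g)).hom)

variable [EtShriek.JCont j] [EtShriek.JCont j']

/-- Restriction commutes with direct image. -/
noncomputable def pushRestrIso :
    EtCoh.push f ⋙ EtShriek.restrAlong j ≅ EtShriek.restrAlong j' ⋙ EtCoh.push f' :=
  haveI : (EtShriek.compEtale j ⋙ EtCoh.bc f).IsContinuous V.smallEtaleTopology Y.smallEtaleTopology :=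
    Functor.isContinuous_comp _ _ V.smallEtaleTopology X.smallEtaleTopology Y.smallEtaleTopology
  Functor.sheafPushforwardContinuousComp' (F := EtShriek.compEtale j) (G := EtCoh.bc f)
      (FG := EtShriek.compEtale j ⋙ EtCoh.bc f) (Iso.refl _) AddCommGrpCat.{u + 1}
      V.smallEtaleTopology X.smallEtaleTopology Y.smallEtaleTopology ≪≫
    (Functor.sheafPushforwardContinuousComp' (F := EtCoh.bc f') (G := EtShriek.compEtale j')
      (FG := EtShriek.compEtale j ⋙ EtCoh.bc f) (compBcIso j f j' f' h).symm AddCommGrpCat.{u + 1}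
      V.smallEtaleTopology V'.smallEtaleTopology Y.smallEtaleTopology).symm

/-- Inverse image commutes with extension by zero. -/
noncomputable def pullExtZeroIso : EtCoh.pull f' ⋙ EtShriek.extZero j' ≅ EtShriek.extZero j ⋙ EtCoh.pull f :=
  Adjunction.leftAdjointUniq (((EtCoh.pullPushAdj f').comp (EtShriek.extZeroAdj j')).ofNatIsoRight
    (pushRestrIso j f j' f' h).symm) ((EtShriek.extZeroAdj j).comp (EtCoh.pullPushAdj f))

/-- Finite direct image commutes with extension by zero. -/
theorem nonempty_push_extZero {U X Z Y : Scheme.{u}} (f : X ⟶ Y) [IsFinite f] (j : Z ⟶ Y)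
    [IsOpenImmersion j] [Etale j] [EtShriek.JCont j] (j' : U ⟶ X) [IsOpenImmersion j']
    [Etale j'] [EtShriek.JCont j'] (g : U ⟶ Z) (h : IsPullback j' g f j) (F : EtCoh.Ab U) :
    Nonempty ((EtCoh.push f).obj ((EtShriek.extZero j').obj F) ≅ (EtShriek.extZero j).obj ((EtCoh.push g).obj F)) := by
  have := isIso_unit_extZero_of_mono j' F
  refine nonempty_iso_extZero j _ _ ⟨(pushRestrIso j f j' g h).app ((EtShriek.extZero j').obj F) ≪≫
    (EtCoh.push g).mapIso (asIso ((EtShriek.extZeroAdj j').unit.app F)).symm⟩ fun K _ _ η hη => ?_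
  refine @AddCommGrpCat.isZero_of_subsingleton _ (subsingleton_of_forall_eq 0 fun a => ?_)
  refine pushMapAt_injective f _ a fun ξ hξ => ?_
  have hE : IsEmpty (Above j' ξ) := ⟨fun v => hη ⟨g (v.1 default), by
    have e : (v.1 ≫ g) ≫ j = η := by rw [Category.assoc, ← h.w, ← Category.assoc, v.2, hξ]
    exact congrArg (fun q : Spec (CommRingCat.of K) ⟶ Y => q default) e⟩⟩
  exact (AddCommGrpCat.subsingleton_of_isZero (isZero_extZero_stalk (j := j') (ξ := ξ) F hE)).elim _ _

end Groth.Agent.EtCore45
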