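import Groth.Agent.EtCore45.ExtZeroStalk
import Groth.Agent.EtCore45.Stalks
import Groth.Agent.Unr55.Et.FinitePush
import Mathlib.Algebra.DirectSum.Basic
import Mathlib.AlgebraicGeometry.Morphisms.FlatMono

/-!
Extension by zero maps injectively into the direct image, for separated etale morphisms.
-/

set_option autoImplicit false
set_option backward.isDefEq.respectTransparency.types false
universe u

open CategoryTheory CategoryTheory.Limits AlgebraicGeometry Opposite
open Groth.Agent.Unr55.EtSh
open scoped DirectSum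

namespace Groth.Agent.EtCore45

variable {U X : Scheme.{u}} (j : U ⟶ X) [Etale j] [IsSeparated j]

/-- An etale scheme upstairs is a piece of the pullback of itself. -/
noncomputable def graphPiece (V : U.Etale) : V ⟶ (EtCoh.bc j).obj ((EtShriek.compEtale j).obj V) :=
  MorphismProperty.Over.homMk (pullback.lift (𝟙 V.left) V.hom (Category.id_comp _)) (pullback.lift_snd _ _ _) trivial

theorem graphPiece_fst (V : U.Etale) :
    (graphPiece j V).left ≫ pullback.fst (V.hom ≫ j) j = 𝟙 V.left := pullback.lift_fst _ _ _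

theorem graphPiece_props (V : U.Etale) :
    IsOpenImmersion (graphPiece j V).left ∧ IsClosedImmersion (graphPiece j V).left := by
  have h := graphPiece_fst j V
  have : Etale (graphPiece j V).left := Groth.Agent.Unr55.EtSh.etale_left _
  have : Mono (graphPiece j V).left := mono_of_mono_fac h
  refine ⟨IsOpenImmersion.of_flat_of_mono _, ?_⟩
  have : IsClosedImmersion ((graphPiece j V).left ≫ pullback.fst (V.hom ≫ j) j) := by rw [h]; infer_instance
  have : IsSeparated (pullback.fst (V.hom ≫ j) j) := MorphismProperty.pullback_fst _ _ ‹IsSeparated j›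
  exact @IsClosedImmersion.of_comp _ _ _ (graphPiece j V).left (pullback.fst (V.hom ≫ j) j) ‹_› ‹_›

/-- A section extended by zero outside the graph. -/
def IsExtension (F : EtCoh.Ab U) (V : U.Etale) (σ : EtCoh.sect F V)
    (τ : EtCoh.sect F ((EtCoh.bc j).obj ((EtShriek.compEtale j).obj V))) : Prop :=
  F.obj.map (graphPiece j V).op τ = σ ∧
    ∀ (W : U.Etale) (g : W ⟶ (EtCoh.bc j).obj ((EtShriek.compEtale j).obj V)),
      Disjoint (Set.range g.left) (Set.range (graphPiece j V).left) → F.obj.map g.op τ = 0

theorem existsUnique_extension (F : EtCoh.Ab U) (V : U.Etale) (σ : EtCoh.sect F V) :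
    ∃! τ, IsExtension j F V σ τ := by
  obtain ⟨ho, hc⟩ := graphPiece_props j V
  obtain ⟨τ, h1, h2⟩ := exists_extend_zero F (graphPiece j V) σ
  refine ⟨τ, ⟨h1, h2⟩, fun τ' ⟨h1', h2'⟩ => sub_eq_zero.1 (sect_eq_zero_of_local F _ fun x => ?_)⟩
  by_cases hx : x ∈ Set.range (graphPiece j V).left
  · obtain ⟨v, hv⟩ := hx
    exact ⟨V, graphPiece j V, v, hv, by rw [map_sub, h1, h1', sub_self]⟩
  · let O : ((EtCoh.bc j).obj ((EtShriek.compEtale j).obj V)).left.Opens :=
      ⟨(Set.range (graphPiece j V).left)ᶜ, (graphPiece j V).left.isClosedEmbedding.isClosed_range.isOpen_compl⟩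
    refine ⟨_, openSubι _ O, ⟨x, hx⟩, rfl, ?_⟩
    have hd : Disjoint (Set.range (openSubι _ O).left) (Set.range (graphPiece j V).left) := by
      rw [range_openSubι]; exact disjoint_compl_left
    rw [map_sub, h2 _ _ hd, h2' _ _ hd, sub_self]

/-- Extension by zero outside the graph. -/
noncomputable def extSect (F : EtCoh.Ab U) (V : U.Etale) (σ : EtCoh.sect F V) :
    EtCoh.sect F ((EtCoh.bc j).obj ((EtShriek.compEtale j).obj V)) :=
  (existsUnique_extension j F V σ).choose

theorem extSect_spec (F : EtCoh.Ab U) (V : U.Etale) (σ : EtCoh.sect F V) :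
    IsExtension j F V σ (extSect j F V σ) :=
  (existsUnique_extension j F V σ).choose_spec.1

theorem extSect_unique (F : EtCoh.Ab U) (V : U.Etale) (σ : EtCoh.sect F V)
    {τ : EtCoh.sect F ((EtCoh.bc j).obj ((EtShriek.compEtale j).obj V))} (h : IsExtension j F V σ τ) :
    τ = extSect j F V σ :=
  (existsUnique_extension j F V σ).choose_spec.2 τ h

theorem extSect_add (F : EtCoh.Ab U) (V : U.Etale) (σ σ' : EtCoh.sect F V) :
    extSect j F V (σ + σ') = extSect j F V σ + extSect j F V σ' := by
  refine (extSect_unique j F V (σ + σ') ⟨?_, fun W g hg => ?_⟩).symm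
  · rw [map_add, (extSect_spec j F V σ).1, (extSect_spec j F V σ').1]
  · rw [map_add, (extSect_spec j F V σ).2 W g hg, (extSect_spec j F V σ').2 W g hg, add_zero]

theorem extSect_naturality (F : EtCoh.Ab U) {V W : U.Etale} (g : W ⟶ V) (σ : EtCoh.sect F V) :
    extSect j F W (F.obj.map g.op σ) =
      F.obj.map ((EtCoh.bc j).map ((EtShriek.compEtale j).map g)).op (extSect j F V σ) := by
  let m := (EtCoh.bc j).map ((EtShriek.compEtale j).map g)
  have hsq : graphPiece j W ≫ m = g ≫ graphPiece j V := by
    refine MorphismProperty.Over.Hom.ext (pullback.hom_ext ?_ ?_)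
    · change ((graphPiece j W).left ≫ m.left) ≫ pullback.fst (V.hom ≫ j) j =
        (g.left ≫ (graphPiece j V).left) ≫ pullback.fst (V.hom ≫ j) j
      rw [Category.assoc, Category.assoc, graphPiece_fst, Category.comp_id]
      refine (congrArg (_ ≫ ·) (EtCoh.isPullback_bc_map j ((EtShriek.compEtale j).map g)).w).trans ?_
      rw [← Category.assoc]
      refine (congrArg (· ≫ ((EtShriek.compEtale j).map g).left) (graphPiece_fst j W)).trans ?_
      exact Category.id_comp _
    · change ((graphPiece j W).left ≫ m.left) ≫ pullback.snd (V.hom ≫ j) j =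
        (g.left ≫ (graphPiece j V).left) ≫ pullback.snd (V.hom ≫ j) j
      rw [Category.assoc, Category.assoc]
      exact ((congrArg (_ ≫ ·) (MorphismProperty.Over.w m)).trans (pullback.lift_snd _ _ _)).trans
        (((congrArg (g.left ≫ ·) (pullback.lift_snd _ _ _)).trans (MorphismProperty.Over.w g)).symm)
  refine (extSect_unique j F W _ ⟨?_, fun Z k hk => ?_⟩).symm
  · change F.obj.map (graphPiece j W).op (F.obj.map m.op (extSect j F V σ)) = _
    rw [← ConcreteCategory.comp_apply, ← Functor.map_comp, ← op_comp, hsq, op_comp, Functor.map_comp,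
      ConcreteCategory.comp_apply, (extSect_spec j F V σ).1]
  · change F.obj.map k.op (F.obj.map m.op (extSect j F V σ)) = 0
    rw [← ConcreteCategory.comp_apply, ← Functor.map_comp, ← op_comp]
    refine (extSect_spec j F V σ).2 _ _ (Set.disjoint_left.2 ?_)
    rintro _ ⟨z, rfl⟩ ⟨v, hv⟩
    refine Set.disjoint_left.1 hk ⟨z, rfl⟩ ?_
    have hb : IsPullback (graphPiece j W).left g.left m.left (graphPiece j V).left := by
      refine IsPullback.of_right (h₁₂ := pullback.fst (W.hom ≫ j) j) (v₁₃ := g.left)
        (h₂₂ := pullback.fst (V.hom ≫ j) j) ?_ (congrArg (fun k : W ⟶ _ => k.left) hsq)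
        (EtCoh.isPullback_bc_map j ((EtShriek.compEtale j).map g)).flip
      refine (congrArg₂ (fun a b => IsPullback a g.left g.left b) (graphPiece_fst j W) (graphPiece_fst j V)).mpr ?_
      exact IsPullback.of_horiz_isIso ⟨(Category.id_comp g.left).trans (Category.comp_id g.left).symm⟩
    obtain ⟨q, hq, -⟩ := Scheme.Pullback.exists_preimage_pullback (f := m.left) (g := (graphPiece j V).left)
      (k.left z) v hv.symm
    exact ⟨hb.isoPullback.inv q, (congr($(hb.isoPullback_inv_fst) q)).trans hq⟩

/-- Extension of sections as a natural map to the pushed forward sheaf. -/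
noncomputable def deltaMap [EtShriek.JCont j] (F : EtCoh.Ab U) :
    F ⟶ (EtShriek.restrAlong j).obj ((EtCoh.push j).obj F) :=
  ⟨{ app := fun V => AddCommGrpCat.ofHom (AddMonoidHom.mk' (fun σ : EtCoh.sect F V.unop => extSect j F V.unop σ)
        (extSect_add j F V.unop))
     naturality := fun V W g => ConcreteCategory.hom_ext _ _ fun σ => extSect_naturality j F g.unop σ }⟩

theorem extSect_map {F G : EtCoh.Ab U} (φ : F ⟶ G) (V : U.Etale) (σ : EtCoh.sect F V) :
    φ.hom.app (op ((EtCoh.bc j).obj ((EtShriek.compEtale j).obj V))) (extSect j F V σ) =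
      extSect j G V (φ.hom.app (op V) σ) := by
  refine extSect_unique j G V _ ⟨?_, fun W g hg => ?_⟩
  · exact (NatTrans.naturality_apply φ.hom (graphPiece j V).op _).symm.trans
      (congrArg (φ.hom.app (op V)) (extSect_spec j F V σ).1)
  · refine (NatTrans.naturality_apply φ.hom g.op _).symm.trans ?_
    exact (congrArg (φ.hom.app (op W)) ((extSect_spec j F V σ).2 W g hg)).trans (map_zero _)

/-- The comparison map from extension by zero to direct image. -/
noncomputable def extToPush [EtShriek.JCont j] : EtShriek.extZero j ⟶ EtCoh.push j where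
  app F := ((EtShriek.extZeroAdj j).homEquiv F ((EtCoh.push j).obj F)).symm (deltaMap j F)
  naturality F G φ := by
    rw [← Adjunction.homEquiv_naturality_left_symm, ← Adjunction.homEquiv_naturality_right_symm]
    congr 1
    exact ObjectProperty.hom_ext _ (NatTrans.ext (funext fun V => ConcreteCategory.hom_ext _ _ fun σ =>
      (extSect_map j φ V.unop σ).symm))

variable [EtShriek.JCont j] {Ω : Type u} [Field Ω] [IsSepClosed Ω] {ξ : Spec (CommRingCat.of Ω) ⟶ X}

theorem stalk_extToPush_germ (v : Above j ξ) (F : EtCoh.Ab U) {V : U.Etale} (s : Pt v.1 V) (σ : EtCoh.sect F V) :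
    (EtCoh.stalk ξ).map ((extToPush j).app F) (extZeroStalkMap j v.2 F (germ v.1 F s σ)) =
      germ ξ ((EtCoh.push j).obj F) (ptComp j v.2 s) (extSect j F V σ) := by
  rw [extZeroStalkMap_germ]
  refine (stalk_map_germ ξ ((extToPush j).app F) (ptComp j v.2 s) _).trans (congrArg (germ ξ _ _) ?_)
  have h : (EtShriek.extZeroAdj j).unit.app F ≫ (EtShriek.restrAlong j).map ((extToPush j).app F) = deltaMap j F :=
    ((EtShriek.extZeroAdj j).homEquiv_unit _ _ _).symm.trans (Equiv.apply_symm_apply _ _)
  exact ConcreteCategory.congr_hom (congrArg (fun k => k.hom.app (op V)) h) σ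

theorem component_delta [DecidableEq (Above j ξ)] (v w : Above j ξ) (F : EtCoh.Ab U) {V : U.Etale}
    (s : Pt v.1 V) (σ : EtCoh.sect F V) :
    pushMapAt j w.2 F (germ ξ ((EtCoh.push j).obj F) (ptComp j v.2 s) (extSect j F V σ)) =
      if h : v = w then (eqToHom (congrArg (fun z : Above j ξ => (EtCoh.stalk z.1).obj F) h)) (germ v.1 F s σ)
      else 0 := by
  refine (pushMapAt_germ j w.2 F _ _).trans ?_
  by_cases h : v = w
  · subst h
    rw [dif_pos rfl, eqToHom_refl, ConcreteCategory.id_apply]
    refine Eq.trans ?_ (congrArg (germ v.1 F s) (extSect_spec j F V σ).1)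
    rw [germ_map]
    refine congrArg (fun t => germ v.1 F t (extSect j F V σ)) (Over.OverMorphism.ext (pullback.hom_ext ?_ ?_))
    · refine (pullback.lift_fst _ _ _).trans ?_
      refine Eq.trans ?_ (Category.assoc _ _ _).symm
      exact (Category.comp_id _).symm.trans (congrArg (hom v.1 s ≫ ·) (graphPiece_fst j V).symm)
    · refine (pullback.lift_snd _ _ _).trans ?_
      exact ((congrArg (hom v.1 s ≫ ·) (pullback.lift_snd _ _ _)).trans (Over.w s)).symm.trans
        (Category.assoc _ _ _).symm
  · rw [dif_neg h]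
    obtain ⟨ho, hc⟩ := graphPiece_props j V
    let t := ptUpAt j w.2 (ptComp j v.2 s)
    have hn : hom w.1 t default ∉ Set.range (graphPiece j V).left := by
      intro hmem
      let m := IsOpenImmersion.lift (graphPiece j V).left (hom w.1 t) (by
        rintro _ ⟨a, rfl⟩
        rw [default_eq a]
        exact hmem)
      have hm : m ≫ (graphPiece j V).left = hom w.1 t := IsOpenImmersion.lift_fac _ _ _
      have h1 : m = hom v.1 s := by
        have := congrArg (· ≫ pullback.fst (V.hom ≫ j) j) hm
        exact (((Category.comp_id m).symm.trans (congrArg (m ≫ ·) (graphPiece_fst j V).symm)).trans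
          (Category.assoc _ _ _).symm).trans (this.trans (pullback.lift_fst _ _ _))
      refine h (Subtype.ext ?_)
      have h2 : hom w.1 t ≫ pullback.snd (V.hom ≫ j) j = w.1 := pullback.lift_snd _ _ _
      rw [← hm, Category.assoc] at h2
      refine Eq.trans ?_ ((congrArg (m ≫ ·) (pullback.lift_snd (𝟙 V.left) V.hom (Category.id_comp _)).symm).trans h2)
      rw [h1]
      exact (Over.w s).symm
    let O : ((EtCoh.bc j).obj ((EtShriek.compEtale j).obj V)).left.Opens :=
      ⟨(Set.range (graphPiece j V).left)ᶜ, (graphPiece j V).left.isClosedEmbedding.isClosed_range.isOpen_compl⟩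
    refine (germ_eq_zero_iff w.1 F t _).2
      ⟨_, openSubι _ O, ptOpen O t hn, map_ptOpen O t hn, (extSect_spec j F V σ).2 _ _ ?_⟩
    rw [range_openSubι]
    exact disjoint_compl_left

theorem extToPush_stalk_injective (ξ : Spec (CommRingCat.of Ω) ⟶ X) (F : EtCoh.Ab U) :
    Function.Injective ((EtCoh.stalk ξ).map ((extToPush j).app F)) := by
  classical
  refine (injective_iff_map_eq_zero ((EtCoh.stalk ξ).map ((extToPush j).app F)).hom).2 fun a ha => ?_
  let S := fun v : Above j ξ => ((EtCoh.stalk v.1).obj F : AddCommGrpCat.{u + 1})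
  obtain ⟨r, hr⟩ := exists_desc (j := j) (ξ := ξ) F (M := AddCommGrpCat.of (⨁ v, S v))
    fun v => AddCommGrpCat.ofHom (DirectSum.of (fun v => (S v : Type (u + 1))) v)
  let back : (⨁ v, S v) →+ ((EtCoh.stalk ξ).obj ((EtShriek.extZero j).obj F) : AddCommGrpCat.{u + 1}) :=
    DirectSum.toAddMonoid fun v => (extZeroStalkMap j v.2 F).hom
  have hback : r ≫ AddCommGrpCat.ofHom back = 𝟙 _ := extZeroStalk_cancel F fun v => by
    rw [← Category.assoc, hr, Category.comp_id]
    refine ConcreteCategory.hom_ext _ _ fun x => ?_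
    rw [ConcreteCategory.comp_apply]
    exact DirectSum.toAddMonoid_of (fun v : Above j ξ => (extZeroStalkMap j v.2 F).hom) v x
  have hcomp : ∀ w : Above j ξ, r ≫ AddCommGrpCat.ofHom (DirectSum.component ℤ _ (fun v => (S v : Type (u + 1))) w).toAddMonoidHom =
      (EtCoh.stalk ξ).map ((extToPush j).app F) ≫ pushMapAt j w.2 F := fun w =>
    extZeroStalk_cancel F fun v => by
      rw [← Category.assoc, hr]
      refine ConcreteCategory.hom_ext _ _ fun x => ?_
      obtain ⟨V, s, σ, rfl⟩ := exists_germ_eq v.1 F x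
      rw [ConcreteCategory.comp_apply, ConcreteCategory.comp_apply, ConcreteCategory.comp_apply,
        stalk_extToPush_germ, component_delta]
      change (DirectSum.of (fun v => (S v : Type (u + 1))) v (germ v.1 F s σ)) w = _
      by_cases h : v = w
      · subst h
        rw [DirectSum.of_eq_same, dif_pos rfl, eqToHom_refl, ConcreteCategory.id_apply]
      · rw [DirectSum.of_eq_of_ne _ _ _ (Ne.symm h), dif_neg h]
  have h0 : r a = 0 := by
    refine DFinsupp.ext fun w => ?_
    refine (ConcreteCategory.congr_hom (hcomp w) a).trans ?_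
    exact (congrArg (pushMapAt j w.2 F) ha).trans (map_zero _)
  refine (ConcreteCategory.congr_hom hback a).symm.trans ?_
  exact (congrArg back h0).trans (map_zero back)

theorem exists_mono_extToPush :
    ∃ τ : EtShriek.extZero j ⟶ EtCoh.push j, ∀ F : EtCoh.Ab U, Mono (τ.app F) :=
  ⟨extToPush j, fun F => mono_of_stalks _ fun _ _ _ ξ => extToPush_stalk_injective j ξ F⟩

end Groth.Agent.EtCore45
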