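import Groth.Agent.LocConst45.AbPull
import Groth.Agent.LocConst45.AbConst
import Groth.Agent.EtCore45.PushEpi
import Mathlib.GroupTheory.PGroup

/-!
Stalks of trivialised sheaves; ranks of finite locally constant sheaves killed by a prime.
-/

set_option autoImplicit false
set_option backward.isDefEq.respectTransparency.types false
universe u

open CategoryTheory CategoryTheory.Limits AlgebraicGeometry Opposite
open Groth.Agent.Unr55.EtSh Groth.Agent.LocConst45

namespace Groth.Agent.EtCore45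

variable {X : Scheme.{u}} {F : EtCoh.Ab X} {U : X.Etale} {M : Type (u + 1)} [AddCommGroup M]
  {σ : M →+ EtCoh.sect F U}

theorem triv_germ_bijective (h : IsTriv F U σ) {Ω : Type u} [Field Ω] [IsSepClosed Ω]
    {η : Spec (CommRingCat.of Ω) ⟶ X} (t : Pt η U) :
    Function.Bijective fun m => germ η F t (σ m) := by
  refine ⟨(injective_iff_map_eq_zero ((germ η F t).comp σ)).2 fun m hm => ?_, fun s => ?_⟩
  · obtain ⟨V, g, t', -, hg⟩ := (germ_eq_zero_iff η F t (σ m)).1 hm
    exact h.inj V g m ⟨hom η t' default⟩ hg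
  · obtain ⟨W, t₁, s, rfl⟩ := exists_germ_eq η F s
    obtain ⟨⟨V, r⟩, a, b, -⟩ := IsCofiltered.toIsCofilteredOrEmpty.cone_objs
      (C := (Scheme.pointSmallEtale η).fiber.Elements) ⟨U, t⟩ ⟨W, t₁⟩
    obtain ⟨V', g, v, m, hv, hm⟩ := h.surj V a.val (F.obj.map b.val.op s) (hom η r default)
    obtain ⟨t', ht'⟩ := exists_pt_lift g r ⟨v, hv⟩
    refine ⟨m, ?_⟩
    have e1 := germ_map η F g t' (F.obj.map b.val.op s)
    rw [hm, map_comp', germ_map, ht', germ_map, germ_map, a.property, b.property] at e1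
    exact e1

theorem triv_card (h : IsTriv F U σ) {Ω : Type u} [Field Ω] [IsSepClosed Ω]
    {η : Spec (CommRingCat.of Ω) ⟶ X} (t : Pt η U) :
    Nat.card ((EtCoh.stalk η).obj F : AddCommGrpCat.{u + 1}) = Nat.card M :=
  (Nat.card_eq_of_bijective _ (triv_germ_bijective h t)).symm

theorem locTrivFin_const (M : AddCommGrpCat.{u + 1}) [Finite M] :
    LocTrivFin ((constantSheaf X.smallEtaleTopology AddCommGrpCat.{u + 1}).obj M) := fun x =>
  ⟨EtCoh.top X, x, M, inferInstance, inferInstance, constσ M _, rfl, isTriv_const M _⟩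

theorem triv_killed (h : IsTriv F U σ) [hU : Nonempty U.left] {ℓ : ℕ} (hℓ : EtCoh.KilledBy ℓ F) (m : M) :
    ℓ • m = 0 := by
  refine h.inj U (𝟙 U) _ hU ?_
  rw [map_nsmul, map_nsmul]
  exact hℓ _ _

theorem exists_pow_card {ℓ : ℕ} [hp : Fact ℓ.Prime] [Finite M] (h : ∀ m : M, ℓ • m = 0) :
    ∃ k : ℕ, Nat.card M = ℓ ^ k := by
  refine (IsPGroup.iff_card (G := Multiplicative M)).1 fun g => ⟨1, ?_⟩
  rw [pow_one]
  exact h g.toAdd

/-- The stalks have `ℓ ^ n` elements. -/
def RankN (ℓ : ℕ) (F : EtCoh.Ab X) (n : ℕ) : Prop :=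
  ∀ (Ω : Type u) [Field Ω] [IsSepClosed Ω] (η : Spec (CommRingCat.of Ω) ⟶ X),
    Nat.card ((EtCoh.stalk η).obj F : AddCommGrpCat.{u + 1}) = ℓ ^ n

theorem exists_rankN [ConnectedSpace X] {ℓ : ℕ} [hp : Fact ℓ.Prime] (hF : LocTrivFin F)
    (hℓ : EtCoh.KilledBy ℓ F) : ∃ n, RankN ℓ F n := by
  choose U u M hM hfin σ hu hσ using hF
  let O : X → Set X := fun x => Set.range (U x).hom
  have hO : ∀ x, IsOpen (O x) := fun x => by
    have : Etale (U x).hom := (U x).prop
    exact (U x).hom.isOpenMap.isOpen_range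
  have hpow : ∀ x, ∃ k, Nat.card (M x) = ℓ ^ k := fun x => by
    have : Nonempty (U x).left := ⟨u x⟩
    exact exists_pow_card (triv_killed (hσ x) hℓ)
  choose c hc using hpow
  have key : ∀ (x : X) (Ω : Type u) [Field Ω] [IsSepClosed Ω] (η : Spec (CommRingCat.of Ω) ⟶ X),
      η default ∈ O x → Nat.card ((EtCoh.stalk η).obj F : AddCommGrpCat.{u + 1}) = ℓ ^ c x := by
    intro x Ω _ _ η h
    obtain ⟨t⟩ := exists_pt (U x) η h
    rw [triv_card (hσ x) t, hc]
  have hloc : ∀ x y z, z ∈ O x → z ∈ O y → c x = c y := by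
    intro x y z hx hy
    let η := Spec.map (CommRingCat.ofHom (algebraMap (X.residueField z) (AlgebraicClosure (X.residueField z)))) ≫
      X.fromSpecResidueField z
    have hz : η default = z := X.fromSpecResidueField_apply z _
    have h1 := key x _ η (hz.symm ▸ hx)
    rw [key y _ η (hz.symm ▸ hy)] at h1
    exact (Nat.pow_right_injective hp.out.two_le h1).symm
  have hlc : IsLocallyConstant c := (IsLocallyConstant.iff_exists_open c).2 fun x =>
    ⟨O x, hO x, ⟨u x, hu x⟩, fun y hy => hloc y x y ⟨u y, hu y⟩ hy⟩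
  obtain ⟨x₀⟩ := (inferInstance : Nonempty X)
  refine ⟨c x₀, fun Ω _ _ η => ?_⟩
  rw [key (η default) Ω η ⟨u _, hu _⟩, hlc.apply_eq_of_preconnectedSpace (η default) x₀]

theorem isZero_of_rankN_zero {ℓ : ℕ} (h : RankN ℓ F 0) : IsZero F :=
  isZero_of_stalks _ fun K _ _ η => by
    have := (Nat.card_eq_one_iff_unique.1 ((h K η).trans (pow_zero ℓ))).1
    exact AddCommGrpCat.isZero_of_subsingleton _

end Groth.Agent.EtCore45
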