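import Mathlib.AlgebraicGeometry.Morphisms.Etale
import Mathlib.AlgebraicGeometry.Artinian
import Mathlib.AlgebraicGeometry.Limits
import Mathlib.RingTheory.Etale.Field
import Mathlib.RingTheory.RingHom.Etale

/-!
Schemes etale over a field.
-/

set_option autoImplicit false
set_option backward.isDefEq.respectTransparency.types false
universe u

open CategoryTheory CategoryTheory.Limits AlgebraicGeometry

namespace Groth.Agent.EtCore45

variable {k : Type u} [Field k] {U : Scheme.{u}} (φ : U ⟶ Spec (CommRingCat.of k))

theorem exists_algebra_etale [Etale φ] {W : U.Opens} (hW : IsAffineOpen W) :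
    ∃ (_ : Algebra k Γ(U, W)), Algebra.Etale k Γ(U, W) ∧
      hW.fromSpec ≫ φ = Spec.map (CommRingCat.ofHom (algebraMap k Γ(U, W))) := by
  obtain ⟨α, hα⟩ := Spec.map_surjective (hW.fromSpec ≫ φ)
  have h : Etale (Spec.map α) := by rw [hα]; infer_instance
  have h' : α.hom.Etale := HasRingHomProperty.Spec_iff.1 h
  let : Algebra k Γ(U, W) := α.hom.toAlgebra
  exact ⟨this, h', hα.symm⟩

theorem discrete_of_etale [Etale φ] : DiscreteTopology U := by
  refine discreteTopology_iff_isOpen_singleton.2 fun x => ?_
  obtain ⟨W, hW, hx, -⟩ := exists_isAffineOpen_mem_and_subset (U := ⊤) (TopologicalSpace.Opens.mem_top x)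
  obtain ⟨a, h, -⟩ := exists_algebra_etale φ hW
  have := Algebra.FormallyUnramified.finite_of_free k Γ(U, W)
  have : IsArtinianRing Γ(U, W) := isArtinian_of_tower k inferInstance
  obtain ⟨p, rfl⟩ := hW.range_fromSpec.ge hx
  have : DiscreteTopology (Spec Γ(U, W) : Scheme.{u}) := (inferInstance : DiscreteTopology (PrimeSpectrum Γ(U, W)))
  have hp : IsOpen ({p} : Set (Spec Γ(U, W))) := isOpen_discrete _
  rw [← Set.image_singleton]
  exact hW.fromSpec.isOpenEmbedding.isOpenMap _ hp

theorem etale_field_iff :
    Etale φ ↔
      ∃ (ι : Type u) (K : ι → Type u) (_ : ∀ i, Field (K i)) (_ : ∀ i, Algebra k (K i))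
        (_ : ∀ i, FiniteDimensional k (K i)) (_ : ∀ i, Algebra.IsSeparable k (K i))
        (e : (∐ fun i => Spec (CommRingCat.of (K i))) ≅ U),
        ∀ i, Sigma.ι (fun i => Spec (CommRingCat.of (K i))) i ≫ e.hom ≫ φ =
          Spec.map (CommRingCat.ofHom (algebraMap k (K i))) := by
  constructor
  · intro _
    have := discrete_of_etale φ
    let S : U → U.Opens := fun x => ⟨{x}, isOpen_discrete _⟩
    have hS : ∀ x, IsAffineOpen (S x) := fun x => IsAffineOpen.of_subsingleton Set.subsingleton_singleton
    choose alg het hfac using fun x => exists_algebra_etale φ (hS x)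
    let K : U → Type u := fun x => Γ(U, S x)
    let aK : ∀ x, Algebra k (K x) := alg
    have hfield : ∀ x, IsField (K x) := fun x => by
      have := het x
      have := Algebra.FormallyUnramified.finite_of_free k (K x)
      have : IsReduced (K x) := Algebra.FormallyUnramified.isReduced_of_field k (K x)
      have : Subsingleton (Spec Γ(U, S x) : Scheme.{u}) := ⟨fun p q => (hS x).fromSpec.isOpenEmbedding.injective
        (((hS x).range_fromSpec.le ⟨p, rfl⟩ : _ = x).trans ((hS x).range_fromSpec.le ⟨q, rfl⟩ : _ = x).symm)⟩
      have : Subsingleton (PrimeSpectrum (K x)) := this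
      have : Nonempty (PrimeSpectrum (K x)) := by
        obtain ⟨p, -⟩ := (hS x).range_fromSpec.ge (show x ∈ S x from rfl)
        exact ⟨p⟩
      have : Nontrivial (K x) := PrimeSpectrum.nonempty_iff_nontrivial.1 this
      have : IsArtinianRing (K x) := isArtinian_of_tower k inferInstance
      have : Nonempty (MaximalSpectrum (K x)) := inferInstance
      have : Subsingleton (MaximalSpectrum (K x)) := MaximalSpectrum.toPrimeSpectrum_injective.subsingleton
      have : IsLocalRing (K x) := .of_singleton_maximalSpectrum
      exact (IsArtinianRing.isField_of_isReduced_of_isLocalRing (K x))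
    let fK : ∀ x, Field (K x) := fun x => (hfield x).toField
    have hfd : ∀ x, FiniteDimensional k (K x) := fun x => by
      have := het x
      exact Algebra.FormallyUnramified.finite_of_free k (K x)
    have hsep : ∀ x, Algebra.IsSeparable k (K x) := fun x => by
      have := het x
      exact (Algebra.FormallyEtale.iff_isSeparable k (K x)).1 inferInstance
    let q : ∀ x, Spec (CommRingCat.of (K x)) ⟶ U := fun x => (hS x).fromSpec
    have hr : ∀ x, Set.range (q x) = {x} := fun x => (hS x).range_fromSpec
    have : ∀ x, IsOpenImmersion (q x) := fun x => (hS x).isOpenImmersion_fromSpec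
    have : IsOpenImmersion (Sigma.desc q) := isOpenImmersion_sigmaDesc (fun x => Spec (CommRingCat.of (K x))) q fun x y hxy => by
      change Disjoint (Set.range (q x)) (Set.range (q y))
      rw [hr, hr]; simpa using hxy
    have : Surjective (Sigma.desc q) := ⟨fun x => by
      obtain ⟨p, hp⟩ := (hr x).ge rfl
      exact ⟨Sigma.ι (fun x => Spec (CommRingCat.of (K x))) x p, by
        rw [← Scheme.Hom.comp_apply, Sigma.ι_desc, hp]⟩⟩
    have : IsIso (Sigma.desc q) := (isIso_iff_isOpenImmersion_and_surjective _).2 ⟨‹_›, ‹_›⟩
    exact ⟨U, K, fK, aK, hfd, hsep, asIso (Sigma.desc q), fun x => by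
      rw [asIso_hom, Sigma.ι_desc_assoc]; exact hfac x⟩
  · rintro ⟨ι, K, _, _, _, _, e, he⟩
    have hK : ∀ i, Etale (Spec.map (CommRingCat.ofHom (algebraMap k (K i)))) := fun i => by
      have : Algebra.FormallyEtale k (K i) := (Algebra.FormallyEtale.iff_isSeparable k (K i)).2 inferInstance
      have : Algebra.FinitePresentation k (K i) := Algebra.FinitePresentation.of_finiteType.1 inferInstance
      have : Algebra.Etale k (K i) := {}
      exact HasRingHomProperty.Spec_iff.2 (RingHom.etale_algebraMap.2 this)
    have : Etale (e.hom ≫ φ) := by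
      rw [show e.hom ≫ φ = Sigma.desc (fun i => Spec.map (CommRingCat.ofHom (algebraMap k (K i)))) from
        Sigma.hom_ext _ _ fun i => by rw [he i, Sigma.ι_desc]]
      exact IsZariskiLocalAtSource.sigmaDesc hK
    exact (MorphismProperty.cancel_left_of_respectsIso @Etale e.hom φ).1 this

end Groth.Agent.EtCore45
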