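import Groth.Agent.Big45.LanExact
import Groth.Prelude.Def_EtShriek2
import Mathlib.CategoryTheory.Limits.Constructions.Over.Connected

/-!
Extension by zero along etale morphisms is exact.
-/

set_option autoImplicit false
set_option backward.isDefEq.respectTransparency.types false
universe u

open CategoryTheory CategoryTheory.Limits AlgebraicGeometry

namespace Groth.Agent.EtCore45

variable {U X : Scheme.{u}} (j : U ⟶ X) [Etale j]

theorem preservesLimitsOfShape_compEtale (K : Type) [SmallCategory K] [FinCategory K] [IsConnected K] :
    PreservesLimitsOfShape K (EtShriek.compEtale j) := by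
  have h1 : PreservesLimitsOfShape K (Over.map j) := by
    have : PreservesLimitsOfShape K (Over.map j ⋙ Over.forget X) :=
      inferInstanceAs (PreservesLimitsOfShape K (Over.forget U))
    exact preservesLimitsOfShape_of_reflects_of_preserves (Over.map j) (Over.forget X)
  have : PreservesLimitsOfShape K (EtShriek.compEtale j ⋙ Scheme.Etale.forget X) :=
    inferInstanceAs (PreservesLimitsOfShape K (Scheme.Etale.forget U ⋙ Over.map j))
  exact preservesLimitsOfShape_of_reflects_of_preserves (EtShriek.compEtale j) (Scheme.Etale.forget X)

instance hasPseudoFilteredComma_compEtale : Big45.HasPseudoFilteredComma (EtShriek.compEtale j) := by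
  have := preservesLimitsOfShape_compEtale j WalkingCospan
  have := preservesLimitsOfShape_compEtale j WalkingParallelPair
  exact Big45.hasPseudoFilteredComma_of_preserves (EtShriek.compEtale j)

theorem preservesFiniteLimits_extZero [EtShriek.JCont j] : PreservesFiniteLimits (EtShriek.extZero j) :=
  Big45.sheafPullback_preservesFiniteLimits (EtShriek.compEtale j) U.smallEtaleTopology X.smallEtaleTopology

end Groth.Agent.EtCore45
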