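import Mathlib.CategoryTheory.Abelian.Basic
import Mathlib.Algebra.Homology.ShortComplex.Abelian
import Mathlib.Algebra.Homology.ShortComplex.ExactFunctor
import Mathlib.CategoryTheory.Abelian.Refinements

/-!
Filtrations with given successive quotients, lifted along a quotient map.
-/

set_option autoImplicit false
universe v u

open CategoryTheory CategoryTheory.Limits

namespace Groth.Agent.EtCore45

variable {C : Type u} [Category.{v} C] [Abelian C]

/-- A filtration of `E` of length `n` with quotients isomorphic to `A`. -/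
def Chain (A E : C) (n : ℕ) : Prop :=
  ∃ (G : ℕ → C) (φ : ∀ i, G i ⟶ G (i + 1)) (ψ : ∀ i, G i ⟶ E), IsZero (G 0) ∧
    (∀ i, i < n → Mono (φ i) ∧ Nonempty (cokernel (φ i) ≅ A) ∧ φ i ≫ ψ (i + 1) = ψ i) ∧
    (∀ i, i ≤ n → Mono (ψ i)) ∧ IsIso (ψ n)

theorem chain_zero (A : C) {E : C} (h : IsZero E) : Chain A E 0 :=
  ⟨fun _ => E, fun _ => 𝟙 E, fun _ => 𝟙 E, h, fun i hi => absurd hi (Nat.not_lt_zero i),
    fun _ _ => inferInstance, inferInstance⟩

theorem Chain.of_iso {A E E' : C} {n : ℕ} (h : Chain A E n) (e : E ≅ E') : Chain A E' n := by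
  obtain ⟨G, φ, ψ, h0, h1, h2, h3⟩ := h
  refine ⟨G, φ, fun i => ψ i ≫ e.hom, h0, fun i hi => ?_, fun i hi => ?_, inferInstance⟩
  · obtain ⟨a, b, c⟩ := h1 i hi
    exact ⟨a, b, by rw [reassoc_of% c]⟩
  · have := h2 i hi
    exact mono_comp _ _

theorem isIso_cokernel_map_of_pullback {P₁ P₂ B₁ B₂ : C} (a : P₁ ⟶ P₂) (b : B₁ ⟶ B₂) (q₁ : P₁ ⟶ B₁)
    (q₂ : P₂ ⟶ B₂) [Epi q₂] (sq : IsPullback a q₁ q₂ b) : IsIso (cokernel.map a b q₁ q₂ sq.w) := by
  let c := cokernel.map a b q₁ q₂ sq.w
  have : Epi c := by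
    have h : cokernel.π a ≫ c = q₂ ≫ cokernel.π b := cokernel.π_desc _ _ _
    have : Epi (cokernel.π a ≫ c) := by rw [h]; exact epi_comp _ _
    exact epi_of_epi (cokernel.π a) c
  have : Mono c := by
    refine Preadditive.mono_of_cancel_zero _ fun {T} x hx => ?_
    obtain ⟨T', r, hr, y, hy⟩ := surjective_up_to_refinements_of_epi (cokernel.π a) x
    have h0 : (y ≫ q₂) ≫ cokernel.π b = 0 := by
      rw [Category.assoc, ← cokernel.π_desc a (q₂ ≫ cokernel.π b) (by rw [← Category.assoc, sq.w, Category.assoc, cokernel.condition, comp_zero]), ← Category.assoc, ← hy, Category.assoc]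
      change r ≫ x ≫ c = 0
      rw [hx, comp_zero]
    let S : ShortComplex C := ShortComplex.mk b (cokernel.π b) (cokernel.condition b)
    have hS : S.Exact := ShortComplex.exact_of_g_is_cokernel _ (cokernelIsCokernel b)
    obtain ⟨T'', r', hr', z, hz⟩ := hS.exact_up_to_refinements (y ≫ q₂) h0
    have h2 : r' ≫ y ≫ cokernel.π a = 0 := by
      rw [← Category.assoc, ← sq.lift_fst (r' ≫ y) z (by simpa [S] using hz), Category.assoc, cokernel.condition, comp_zero]
    rw [← cancel_epi r, ← cancel_epi r', hy, h2, comp_zero, comp_zero]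
  exact isIso_of_mono_of_epi c

theorem Chain.extend {A E : C} (i : A ⟶ E) [Mono i] {n : ℕ} (h : Chain A (cokernel i) n) :
    Chain A E (n + 1) := by
  classical
  obtain ⟨G, φ, ψ, h0, h1, h2, h3⟩ := h
  let p := cokernel.π i
  let G' : ℕ → C := fun k => match k with
    | 0 => G 0
    | k + 1 => pullback (ψ k) p
  let φ' : ∀ k, G' k ⟶ G' (k + 1) := fun k => match k with
    | 0 => 0
    | k + 1 => if hk : k < n then pullback.lift (pullback.fst (ψ k) p ≫ φ k) (pullback.snd (ψ k) p)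
        (by rw [Category.assoc, (h1 k hk).2.2, pullback.condition]) else 0
  let ψ' : ∀ k, G' k ⟶ E := fun k => match k with
    | 0 => 0
    | k + 1 => pullback.snd (ψ k) p
  have hmψ : ∀ k, k ≤ n + 1 → Mono (ψ' k) := fun k hk => by
    match k, hk with
    | 0, _ => exact ⟨fun a b _ => h0.eq_of_tgt a b⟩
    | k + 1, hk =>
      have := h2 k (by omega)
      exact inferInstanceAs (Mono (pullback.snd (ψ k) p))
  refine ⟨G', φ', ψ', h0, fun k hk => ?_, hmψ, ?_⟩
  · match k, hk with
    | 0, _ =>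
      refine ⟨⟨fun a b _ => h0.eq_of_tgt a b⟩, ⟨?_⟩, by simp [φ', ψ']⟩
      refine cokernelZeroIsoTarget ≪≫ ?_
      have hs : pullback.snd (ψ 0) p ≫ p = 0 := by
        rw [← pullback.condition, h0.eq_of_tgt (pullback.fst (ψ 0) p) 0, zero_comp]
      have hS : (ShortComplex.mk i p (cokernel.condition i)).Exact :=
        ShortComplex.exact_of_g_is_cokernel _ (cokernelIsCokernel i)
      have : Mono (ShortComplex.mk i p (cokernel.condition i)).f := ‹Mono i›
      let l := hS.lift (pullback.snd (ψ 0) p) hs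
      have hl : l ≫ i = pullback.snd (ψ 0) p := hS.lift_f _ _
      let k₀ : A ⟶ pullback (ψ 0) p := pullback.lift 0 i (by rw [zero_comp, cokernel.condition])
      refine ⟨l, k₀, ?_, ?_⟩
      · apply pullback.hom_ext
        · exact h0.eq_of_tgt _ _
        · change (l ≫ k₀) ≫ pullback.snd (ψ 0) p = 𝟙 _ ≫ pullback.snd (ψ 0) p
          rw [Category.assoc, pullback.lift_snd, hl, Category.id_comp]
      · rw [← cancel_mono i, Category.assoc, hl, pullback.lift_snd, Category.id_comp]
    | k + 1, hk =>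
      have hk' : k < n := by omega
      obtain ⟨hm, ⟨e⟩, hc⟩ := h1 k hk'
      have hφ : φ' (k + 1) = pullback.lift (pullback.fst (ψ k) p ≫ φ k) (pullback.snd (ψ k) p)
          (by rw [Category.assoc, hc, pullback.condition]) := dif_pos hk'
      have hcomp : φ' (k + 1) ≫ ψ' (k + 2) = ψ' (k + 1) := by
        rw [hφ]; exact pullback.lift_snd _ _ _
      have : Mono (ψ' (k + 1)) := hmψ (k + 1) (by omega)
      refine ⟨mono_of_mono_fac hcomp, ?_, hcomp⟩
      have hfst : φ' (k + 1) ≫ pullback.fst (ψ (k + 1)) p = pullback.fst (ψ k) p ≫ φ k := by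
        rw [hφ]; exact pullback.lift_fst _ _ _
      have big : IsPullback (φ' (k + 1) ≫ ψ' (k + 2)) (pullback.fst (ψ k) p) p (φ k ≫ ψ (k + 1)) := by
        rw [hcomp, hc]
        exact (IsPullback.of_hasPullback (ψ k) p).flip
      have sq : IsPullback (φ' (k + 1)) (pullback.fst (ψ k) p) (pullback.fst (ψ (k + 1)) p) (φ k) :=
        IsPullback.of_right (h₁₂ := pullback.snd (ψ (k + 1)) p) (v₁₃ := p) (h₂₂ := ψ (k + 1)) big hfst
          (IsPullback.of_hasPullback (ψ (k + 1)) p).flip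
      have := isIso_cokernel_map_of_pullback _ _ _ _ sq
      exact ⟨asIso (cokernel.map _ _ _ _ sq.w) ≪≫ e⟩
  · exact inferInstanceAs (IsIso (pullback.snd (ψ n) p))

theorem Chain.map {D : Type*} [Category D] [Abelian D] (F : C ⥤ D) [F.Additive] [PreservesFiniteLimits F]
    [PreservesFiniteColimits F] {A E : C} {n : ℕ} (h : Chain A E n) : Chain (F.obj A) (F.obj E) n := by
  obtain ⟨G, φ, ψ, h0, h1, h2, h3⟩ := h
  refine ⟨fun i => F.obj (G i), fun i => F.map (φ i), fun i => F.map (ψ i), F.map_isZero h0,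
    fun i hi => ?_, fun i hi => ?_, inferInstance⟩
  · obtain ⟨a, ⟨e⟩, c⟩ := h1 i hi
    exact ⟨F.map_mono _, ⟨(PreservesCokernel.iso F (φ i)).symm ≪≫ F.mapIso e⟩, by rw [← F.map_comp, c]⟩
  · have := h2 i hi
    exact F.map_mono _

end Groth.Agent.EtCore45
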