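import Groth.Agent.EtCore45.FlagStep
import Groth.Agent.EtCore45.FlagChain
import Groth.Agent.EtCore45.EtalePull
import Groth.Agent.EtCore45.Stalks
import Groth.Agent.Unr55.Et.PullExact

/-!
Prime to `ℓ` finite etale covers trivialising a filtration.
-/

set_option autoImplicit false
set_option backward.isDefEq.respectTransparency.types false
universe u

open CategoryTheory CategoryTheory.Limits AlgebraicGeometry Opposite
open Groth.Agent.Unr55.EtSh Groth.Agent.LocConst45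

namespace Groth.Agent.EtCore45

variable (ℓ : ℕ) [hp : Fact ℓ.Prime]

omit hp in
theorem nsmul_id_iff {X : Scheme.{u}} (F : EtCoh.Ab X) : EtCoh.KilledBy ℓ F ↔ ∀ U : X.Etale, (ℓ • 𝟙 F : F ⟶ F).hom.app (op U) = 0 := by
  constructor
  · intro h U
    refine ConcreteCategory.hom_ext _ _ fun s => ?_
    exact h U s
  · intro h U s
    exact ConcreteCategory.congr_hom (h U) s

omit hp in
theorem killed_iff {X : Scheme.{u}} (F : EtCoh.Ab X) : EtCoh.KilledBy ℓ F ↔ ℓ • 𝟙 F = 0 := by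
  rw [nsmul_id_iff]
  exact ⟨fun h => ObjectProperty.hom_ext _ (NatTrans.ext (funext fun U => h U.unop)), fun h U => by rw [h]; rfl⟩

omit hp in
theorem killed_pull {X Y : Scheme.{u}} (f : X ⟶ Y) {F : EtCoh.Ab Y} (h : EtCoh.KilledBy ℓ F) :
    EtCoh.KilledBy ℓ ((EtCoh.pull f).obj F) := by
  rw [killed_iff] at h ⊢
  rw [← (EtCoh.pull f).map_id, ← Functor.map_nsmul, h, Functor.map_zero]

omit hp in
theorem killed_of_epi {X : Scheme.{u}} {F Q : EtCoh.Ab X} (p : F ⟶ Q) [Epi p] (h : EtCoh.KilledBy ℓ F) :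
    EtCoh.KilledBy ℓ Q := by
  rw [killed_iff] at h ⊢
  rw [← cancel_epi p, comp_zero, Preadditive.comp_nsmul, Category.comp_id, ← Category.id_comp p,
    ← Preadditive.nsmul_comp, h, zero_comp]

theorem rankN_cokernel {X : Scheme.{u}} {F : EtCoh.Ab X} (φ : EtCoh.const X (ZMod ℓ) ⟶ F) [Mono φ] {n : ℕ}
    (hn : RankN ℓ F (n + 1)) : RankN ℓ (cokernel φ) n := by
  intro Ω _ _ η
  let f := ((EtCoh.stalk η).map φ).hom
  let g := ((EtCoh.stalk η).map (cokernel.π φ)).hom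
  have hf : Function.Injective f := stalk_map_injective_of_mono φ η
  have hg : Function.Surjective g := stalk_map_surjective_of_epi η (cokernel.π φ)
  have hS : (ShortComplex.mk φ (cokernel.π φ) (cokernel.condition φ)).Exact :=
    ShortComplex.exact_of_g_is_cokernel _ (cokernelIsCokernel φ)
  have hex : g.ker = f.range := by
    have h1 := (exact_iff_stalks _).1 hS Ω η
    rw [ShortComplex.ab_exact_iff] at h1
    ext a
    refine ⟨fun ha => h1 a ha, ?_⟩
    rintro ⟨b, rfl⟩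
    exact (ConcreteCategory.congr_hom (show (EtCoh.stalk η).map φ ≫ (EtCoh.stalk η).map (cokernel.π φ) = 0 by
      rw [← Functor.map_comp, cokernel.condition, Functor.map_zero]) b :)
  have h1 : Nat.card ((EtCoh.stalk η).obj (EtCoh.const X (ZMod ℓ)) : AddCommGrpCat.{u + 1}) = ℓ := by
    rw [triv_card (isTriv_const _ (EtCoh.top X)) (mkPt η η (Category.comp_id _) : Pt η (EtCoh.top X))]
    simp
  have h2 := AddSubgroup.card_eq_card_quotient_mul_card_addSubgroup g.ker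
  rw [Nat.card_congr (QuotientAddGroup.quotientKerEquivOfSurjective g hg).toEquiv, hex,
    Nat.card_congr (AddMonoidHom.ofInjective hf).toEquiv.symm, h1, hn Ω η, pow_succ] at h2
  exact (Nat.eq_of_mul_eq_mul_right hp.out.pos h2).symm

theorem exists_flag : ∀ (n : ℕ) (S : Scheme.{u}) (F : EtCoh.Ab S), EtCoh.IsFiniteLocallyConstant F →
    EtCoh.KilledBy ℓ F → RankN ℓ F n →
    ∃ (T : Scheme.{u}) (f : T ⟶ S) (_ : IsFinite f) (_ : AlgebraicGeometry.Etale f) (d : ℕ), ℓ.Coprime d ∧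
      (∀ (Ω : Type u) [Field Ω] [IsAlgClosed Ω] (η : Spec (CommRingCat.of Ω) ⟶ S),
        Nat.card {t : Spec (CommRingCat.of Ω) ⟶ T // t ≫ f = η} = d) ∧
      Chain (EtCoh.const T (ZMod ℓ)) ((EtCoh.pull f).obj F) n := by
  intro n
  induction n with
  | zero =>
    intro S F hF hℓ hn
    refine ⟨S, 𝟙 S, inferInstance, inferInstance, 1, Nat.coprime_one_right ℓ, fun Ω _ _ η => ?_,
      chain_zero _ ((EtCoh.pull (𝟙 S)).map_isZero (isZero_of_rankN_zero hn))⟩
    have : Unique {t : Spec (CommRingCat.of Ω) ⟶ S // t ≫ 𝟙 S = η} :=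
      ⟨⟨⟨η, Category.comp_id η⟩⟩, fun t => Subtype.ext ((Category.comp_id _).symm.trans t.2)⟩
    exact Nat.card_unique
  | succ n ih =>
    intro S F hF hℓ hn
    obtain ⟨G, hG, τ, hτ⟩ := exists_rep hF
    obtain ⟨T₁, f₁, hf₁, he₁, hd₁, φ, hφ⟩ := exists_step hτ hn hℓ
    have hF₁ := isFiniteLocallyConstant_pull f₁ hF
    have hℓ₁ := killed_pull ℓ f₁ hℓ
    have hn₁ : RankN ℓ ((EtCoh.pull f₁).obj F) (n + 1) := fun Ω _ _ η => by
      rw [← hn Ω (η ≫ f₁)]
      exact Nat.card_congr ((stalkPullIso f₁ η).app F).addCommGroupIsoToAddEquiv.toEquiv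
    have hc : EtCoh.IsFiniteLocallyConstant (EtCoh.const T₁ (ZMod ℓ)) :=
      (finiteLocallyConstant_iff _).2 (locTrivFin_const (AddCommGrpCat.of (ULift.{u + 1} (ZMod ℓ))))
    obtain ⟨T, g, hg, heg, d, hd, hcard, hch⟩ := ih T₁ (cokernel φ)
      ((flc_weakSerre T₁).1 _ _ φ hc hF₁).2 (killed_of_epi ℓ (cokernel.π φ) hℓ₁) (rankN_cokernel ℓ φ hn₁)
    refine ⟨T, g ≫ f₁, inferInstance, inferInstance, (ℓ ^ (n + 1) - 1) * d, ?_, fun Ω _ _ η => ?_, ?_⟩
    · refine Nat.Coprime.mul_right ?_ hd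
      refine (Nat.Prime.coprime_iff_not_dvd hp.out).2 fun h => ?_
      have h1 : 1 ≤ ℓ ^ (n + 1) := Nat.one_le_pow _ _ hp.out.pos
      have h2 : ℓ ∣ ℓ ^ (n + 1) := dvd_pow_self ℓ n.succ_ne_zero
      have h3 := Nat.dvd_sub h2 h
      rw [Nat.sub_sub_self h1] at h3
      exact hp.out.one_lt.ne' (Nat.dvd_one.1 h3)
    · let E : {t : Spec (CommRingCat.of Ω) ⟶ T // t ≫ g ≫ f₁ = η} ≃
          Σ s : {s : Spec (CommRingCat.of Ω) ⟶ T₁ // s ≫ f₁ = η}, {t : Spec (CommRingCat.of Ω) ⟶ T // t ≫ g = s.1} :=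
        { toFun := fun t => ⟨⟨t.1 ≫ g, (Category.assoc _ _ _).trans t.2⟩, t.1, rfl⟩
          invFun := fun p => ⟨p.2.1, by rw [← Category.assoc, p.2.2, p.1.2]⟩
          left_inv := fun t => rfl
          right_inv := fun ⟨⟨s, hs⟩, t, ht⟩ => by
            change t ≫ g = s at ht
            subst ht
            rfl }
      have : Finite {s : Spec (CommRingCat.of Ω) ⟶ T₁ // s ≫ f₁ = η} := by
        refine Nat.finite_of_card_ne_zero ?_
        rw [hd₁ Ω η]
        have : 1 < ℓ ^ (n + 1) := Nat.one_lt_pow n.succ_ne_zero hp.out.one_lt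
        omega
      have : ∀ s : {s : Spec (CommRingCat.of Ω) ⟶ T₁ // s ≫ f₁ = η},
          Finite {t : Spec (CommRingCat.of Ω) ⟶ T // t ≫ g = s.1} := fun s => by
        refine Nat.finite_of_card_ne_zero ?_
        rw [hcard Ω s.1]
        intro h0
        rw [h0, Nat.coprime_zero_right] at hd
        exact hp.out.one_lt.ne' hd
      have := Fintype.ofFinite {s : Spec (CommRingCat.of Ω) ⟶ T₁ // s ≫ f₁ = η}
      rw [Nat.card_congr E, Nat.card_sigma]
      simp only [hcard, Finset.sum_const, Finset.card_univ, smul_eq_mul, ← Nat.card_eq_fintype_card, hd₁ Ω η]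
    · have := Unr55.EtSh.preservesFiniteLimits_pull g
      let P := EtCoh.pull g
      have e1 : Nonempty (cokernel (P.map φ) ≅ P.obj (cokernel φ)) := ⟨(PreservesCokernel.iso P φ).symm⟩
      obtain ⟨e1⟩ := e1
      let i : EtCoh.const T (ZMod ℓ) ⟶ P.obj ((EtCoh.pull f₁).obj F) := (EtCore.pullConst g (ZMod ℓ)).inv ≫ P.map φ
      have : Mono (P.map φ) := P.map_mono _
      have : Mono i := mono_comp _ _
      have e2 : cokernel i ≅ P.obj (cokernel φ) := cokernelEpiComp _ _ ≪≫ e1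
      exact ((hch.of_iso e2.symm).extend i).of_iso ((EtCore.pullComp g f₁).app F).symm

theorem exists_filtration (S : Scheme.{u}) [ConnectedSpace S] (F : EtCoh.Ab S)
    (hF : EtCoh.IsFiniteLocallyConstant F) (hℓ : EtCoh.KilledBy ℓ F) :
    ∃ (T : Scheme.{u}) (f : T ⟶ S) (_ : IsFinite f) (_ : AlgebraicGeometry.Etale f) (d : ℕ), ℓ.Coprime d ∧
      (∀ (Ω : Type u) [Field Ω] [IsAlgClosed Ω] (η : Spec (CommRingCat.of Ω) ⟶ S),
        Nat.card {t : Spec (CommRingCat.of Ω) ⟶ T // t ≫ f = η} = d) ∧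
      ∃ (n : ℕ) (G : ℕ → EtCoh.Ab T) (φ : ∀ i, G i ⟶ G (i + 1)),
        IsZero (G 0) ∧ Nonempty (G n ≅ (EtCoh.pull f).obj F) ∧
        ∀ i, i < n → Mono (φ i) ∧ Nonempty (cokernel (φ i) ≅ EtCoh.const T (ZMod ℓ)) := by
  obtain ⟨n, hn⟩ := exists_rankN ((finiteLocallyConstant_iff F).1 hF) hℓ
  obtain ⟨T, f, hf, he, d, hd, hcard, G, φ, ψ, h0, h1, -, h3⟩ := exists_flag ℓ n S F hF hℓ hn
  exact ⟨T, f, hf, he, d, hd, hcard, n, G, φ, h0, ⟨asIso (ψ n)⟩, fun i hi => ⟨(h1 i hi).1, (h1 i hi).2.1⟩⟩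

end Groth.Agent.EtCore45
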