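import Groth.Agent.EtCore45.IntegralUI
import Groth.Agent.SiteCoh.ExtCompare
import Groth.Prelude.Def_EtCore

/-!
Invariance of etale cohomology under universal homeomorphisms.
-/

set_option autoImplicit false
set_option backward.isDefEq.respectTransparency.types false
universe u

open CategoryTheory CategoryTheory.Limits CategoryTheory.Abelian AlgebraicGeometry

namespace Groth.Agent.EtCore45

theorem Hpull_bijective_uh {X Y : Scheme.{u}} (f : X ⟶ Y) [IsIntegralHom f] [UniversallyInjective f]
    [Surjective f] [PreservesFiniteLimits (EtCoh.pull f)] (F : EtCoh.Ab Y) (q : ℕ) :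
    Function.Bijective (EtCore.Hpull f F q) := by
  have := pull_isEquivalence_uh f
  refine SiteCoh.extTransfer_bijective (EtCoh.pull f) (EtCore.pullConst f ℤ).inv (fun G => ?_) (fun J hJ n => ?_) q F
  · exact ((Iso.homFromEquiv (EtCore.pullConst f ℤ)).bijective).comp
      ((Functor.FullyFaithful.ofFullyFaithful (EtCoh.pull f)).map_bijective _ _)
  · have : PreservesFiniteLimits (EtCoh.pull f).inv := inferInstance
    have : Injective ((EtCoh.pull f).obj J) :=
      Injective.injective_of_adjoint (EtCoh.pull f).asEquivalence.symm.toAdjunction J
    exact Ext.subsingleton_of_injective _ _ n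

end Groth.Agent.EtCore45
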