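import Groth.Agent.Unr55.Et.Unit
import Groth.Prelude.Def_PBC
import Groth.Prelude.Def_EtShriek2
import Groth.Prelude.Def_EtCore

/-!
Vanishing loci of sections and inverse images; supports.
-/

set_option autoImplicit false
set_option backward.isDefEq.respectTransparency.types false
universe u

open CategoryTheory CategoryTheory.Limits AlgebraicGeometry Opposite
open Groth.Agent.Unr55.EtSh

namespace Groth.Agent.EtCore45

variable {S T : Scheme.{u}}

theorem germ_eq_zero_iff_mem (F : EtCoh.Ab S) {Ω : Type u} [Field Ω] [IsSepClosed Ω]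
    (ξ : Spec (CommRingCat.of Ω) ⟶ S) {U : S.Etale} (t : Pt ξ U) (σ : EtCoh.sect F U) :
    germ ξ F t σ = 0 ↔ hom ξ t default ∈ vanishing F σ := by
  refine ⟨fun h => ?_, germ_eq_zero_of_mem_vanishing F ξ t σ⟩
  obtain ⟨V, g, t', h1, h2⟩ := (germ_eq_zero_iff ξ F t σ).1 h
  exact range_le_vanishing F σ g h2 ⟨hom ξ t' default, congrArg (fun q => hom ξ q default) h1⟩

/-- The support of a section is the complement of its vanishing open. -/
theorem sectSupp_eq (F : EtCoh.Ab S) (U : S.Etale) (σ : EtCoh.sect F U) :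
    EtShriek.sectSupp F U σ = ((vanishing F σ : U.left.Opens) : Set U.left)ᶜ := by
  ext x
  refine ⟨fun h hx => ?_, fun h W g hw h0 => h ?_⟩
  · obtain ⟨z, hz⟩ := (range_openSubι U (vanishing F σ)).ge hx
    exact h _ (openSubι U _) ⟨z, hz⟩ ((map_eq_zero_iff_range_le F σ _).2 (range_openSubι U _).le)
  · obtain ⟨w, rfl⟩ := hw
    exact range_le_vanishing F σ g h0 ⟨w, rfl⟩

theorem supp_eq_iUnion (F : EtCoh.Ab S) :
    EtPBC.supp F = ⋃ (U : S.Etale) (σ : EtCoh.sect F U), U.hom.base '' EtShriek.sectSupp F U σ := by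
  ext x
  simp only [Set.mem_iUnion]
  constructor
  · rintro ⟨Ω, _, _, ξ, hξ, hne⟩
    have hne' := hne
    rw [isZero_stalk_iff] at hne'
    push Not at hne'
    obtain ⟨U, t, σ, h⟩ := hne'
    refine ⟨U, σ, hom ξ t default, ?_, ?_⟩
    · rw [sectSupp_eq]
      intro hm
      obtain ⟨V, g, t', h1, h2⟩ := (germ_eq_zero_iff ξ F t σ).1 ((germ_eq_zero_iff_mem F ξ t σ).2 hm)
      exact h V g t' h1 h2
    · exact (congrArg (fun q : Spec (CommRingCat.of Ω) ⟶ S => q default) (Over.w t)).trans
        (Set.mem_singleton_iff.1 (hξ.le ⟨default, rfl⟩))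
  · rintro ⟨U, σ, y, hy, rfl⟩
    obtain ⟨K, _, _, η, t, rfl⟩ := point_over U y
    refine ⟨K, inferInstance, inferInstance, η, ?_, fun hz => ?_⟩
    · refine Set.eq_singleton_iff_unique_mem.2 ⟨⟨default, (congrArg (fun q : Spec (CommRingCat.of K) ⟶ S => q default) (Over.w t)).symm⟩, ?_⟩
      rintro _ ⟨a, rfl⟩
      rw [Subsingleton.elim a default]
      exact (congrArg (fun q : Spec (CommRingCat.of K) ⟶ S => q default) (Over.w t)).symm
    · have := AddCommGrpCat.subsingleton_of_isZero hz
      rw [sectSupp_eq] at hy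
      exact hy ((germ_eq_zero_iff_mem F η t σ).1 (Subsingleton.elim _ _))

/-- The unit kills a section exactly when the map lands in the vanishing open. -/
theorem unit_app_eq_zero_iff (f : T ⟶ S) (F : EtCoh.Ab S) (σ : EtCoh.sect F (EtCoh.top S)) :
    ((EtCoh.pullPushAdj f).unit.app F).hom.app (op (EtCoh.top S)) σ = 0 ↔
      Set.range f.base ⊆ (vanishing F σ).1 := by
  constructor
  · rintro h _ ⟨x, rfl⟩
    obtain ⟨K, _, _, η, t, ht⟩ := point_over (EtCoh.top T) x
    let s : Pt (η ≫ f) (EtCoh.top S) := mkPt _ (η ≫ f) (Category.comp_id _)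
    have h0 : germ (η ≫ f) F s σ = 0 := by
      refine (theta_bijective f η F).1 ?_
      rw [theta_germ, map_zero]
      exact (congrArg (germ η ((EtCoh.pull f).obj F) (ptUp f η s)) h).trans (map_zero _)
    have hη : η default = x := by
      have e : η = hom η t := (Over.w t).symm.trans (Category.comp_id (hom η t))
      exact (congrArg (fun q : Spec (CommRingCat.of K) ⟶ T => q default) e).trans ht
    have hm := (germ_eq_zero_iff_mem F (η ≫ f) s σ).1 h0
    change f (η default) ∈ vanishing F σ at hm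
    rwa [hη] at hm
  · intro h
    refine sect_eq_zero_of_germ ((EtCoh.pull f).obj F) _ fun K _ _ η t => ?_
    rw [← ptUp_ptDown f η t]
    refine (theta_germ f η F (ptDown f η t) σ).symm.trans ?_
    rw [(germ_eq_zero_iff_mem F (η ≫ f) (ptDown f η t) σ).2 ?_, map_zero]
    refine h ⟨η default, ?_⟩
    exact congrArg (fun q : Spec (CommRingCat.of K) ⟶ S => q default)
      ((Over.w (ptDown f η t)).symm.trans (Category.comp_id (hom (η ≫ f) (ptDown f η t))))

end Groth.Agent.EtCore45
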