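import Groth.Agent.EtCore45.AlgClosedPts
import Groth.Agent.EtCore45.Vanish
import Groth.Agent.Unr55.Et.UHEquiv
import Groth.Agent.Unr55.Et.ClosedPush
import Mathlib.AlgebraicGeometry.IdealSheaf.Subscheme

/-!
Direct images along integral universally injective morphisms.
-/

set_option autoImplicit false
set_option linter.style.haveILetI false
set_option backward.isDefEq.respectTransparency.types false
universe u

open CategoryTheory CategoryTheory.Limits AlgebraicGeometry Opposite
open Groth.Agent.Unr55.EtSh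

namespace Groth.Agent.EtCore45

variable {X Y : Scheme.{u}} (f : X ⟶ Y)

/-- Geometric points lift along integral morphisms. -/
theorem exists_above_integral [IsIntegralHom f] {Ω : Type u} [Field Ω] [IsAlgClosed Ω]
    (η : Spec (CommRingCat.of Ω) ⟶ Y) (h : η default ∈ Set.range f) : ∃ ξ, ξ ≫ f = η := by
  obtain ⟨x, hx⟩ := h
  obtain ⟨w, -, -⟩ := Scheme.Pullback.exists_preimage_pullback (f := η) (g := f) default x hx.symm
  let p := pullback.fst η f
  have hp : IsIntegralHom p := MorphismProperty.pullback_fst η f inferInstance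
  have : IsAffine (pullback η f) := isAffine_of_isAffineHom p
  obtain ⟨φ, hφ⟩ := Spec.map_surjective ((pullback η f).isoSpec.inv ≫ p)
  have hint : φ.hom.IsIntegral := by
    have h' : IsIntegralHom (Spec.map φ) := by rw [hφ]; infer_instance
    exact IsIntegralHom.SpecMap_iff.1 h'
  letI : Algebra Ω Γ(pullback η f, ⊤) := φ.hom.toAlgebra
  have : Algebra.IsIntegral Ω Γ(pullback η f, ⊤) := ⟨hint⟩
  let w' : Spec Γ(pullback η f, ⊤) := (pullback η f).isoSpec.hom w
  have : Nontrivial Γ(pullback η f, ⊤) := by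
    by_contra hc
    rw [not_nontrivial_iff_subsingleton] at hc
    exact w'.2.ne_top (Ideal.eq_top_iff_one _ |>.2 (by rw [Subsingleton.elim (1 : Γ(pullback η f, ⊤)) 0]; exact w'.asIdeal.zero_mem))
  obtain ⟨m, hm⟩ := Ideal.exists_maximal Γ(pullback η f, ⊤)
  letI := Ideal.Quotient.field m
  have : Algebra.IsAlgebraic Ω (Γ(pullback η f, ⊤) ⧸ m) := Algebra.IsIntegral.isAlgebraic
  let ψ : (Γ(pullback η f, ⊤) ⧸ m) →ₐ[Ω] Ω := IsAlgClosed.lift
  let s : Spec (CommRingCat.of Ω) ⟶ pullback η f :=
    Spec.map (CommRingCat.ofHom (ψ.toRingHom.comp (Ideal.Quotient.mk m))) ≫ (pullback η f).isoSpec.inv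
  have hs : s ≫ p = 𝟙 _ := by
    rw [Category.assoc, ← hφ, ← Spec.map_comp, ← Spec.map_id]
    congr 1
    ext r
    exact ψ.commutes r
  refine ⟨s ≫ pullback.snd η f, ?_⟩
  rw [Category.assoc, ← pullback.condition, ← Category.assoc, hs, Category.id_comp]

section Surjective

variable [IsIntegralHom f] [UniversallyInjective f] [Surjective f]

theorem pushStalkMap_bijective_uh {Ω : Type u} [Field Ω] [IsSepClosed Ω]
    (ξ : Spec (CommRingCat.of Ω) ⟶ X) (G : EtCoh.Ab X) : Function.Bijective (pushStalkMap f ξ G) := by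
  have := Unr55.EtGlue.bc_isEquivalence_of_isIntegralHom f
  refine pushStalkMap_bijective f ξ (fun U t => ?_) (openRefined_of_isEmbedding f ξ fun V => ?_) G
  · let e := (EtCoh.bc f).objObjPreimageIso U
    refine ⟨_, ptDown f ξ ((Scheme.pointSmallEtale ξ).fiber.map e.inv t), e.hom, ?_⟩
    rw [ptUp_ptDown, ← ConcreteCategory.comp_apply, ← Functor.map_comp, e.inv_hom_id,
      CategoryTheory.Functor.map_id, ConcreteCategory.id_apply]
  · exact (Unr55.EtGlue.isHomeomorph_of_isPullback (IsPullback.of_hasPullback V.hom f)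
      (Unr55.isUnivHomeo_of_universallyClosed f)).isInducing

theorem isIso_counit_uh (G : EtCoh.Ab X) : IsIso ((EtCoh.pullPushAdj f).counit.app G) :=
  isIso_of_stalks _ fun _ _ _ ξ => counit_stalk_bijective f ξ G (pushStalkMap_bijective_uh f ξ G)

theorem isIso_unit_uh (F : EtCoh.Ab Y) : IsIso ((EtCoh.pullPushAdj f).unit.app F) :=
  isIso_of_stalks_algClosed _ fun _ _ _ η => by
    obtain ⟨ξ, rfl⟩ := exists_above_integral f η (Surjective.surj _)
    exact unit_stalk_bijective f ξ F (pushStalkMap_bijective_uh f ξ _)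

/-- Inverse image along a universal homeomorphism is an equivalence. -/
theorem pull_isEquivalence_uh : (EtCoh.pull f).IsEquivalence := by
  have : ∀ G, IsIso ((EtCoh.pullPushAdj f).counit.app G) := isIso_counit_uh f
  have : ∀ F, IsIso ((EtCoh.pullPushAdj f).unit.app F) := isIso_unit_uh f
  have : IsIso (EtCoh.pullPushAdj f).counit := NatIso.isIso_of_isIso_app _
  have : IsIso (EtCoh.pullPushAdj f).unit := NatIso.isIso_of_isIso_app _
  exact (EtCoh.pullPushAdj f).toEquivalence.isEquivalence_functor

theorem push_isEquivalence_uh : (EtCoh.push f).IsEquivalence := by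
  have : ∀ G, IsIso ((EtCoh.pullPushAdj f).counit.app G) := isIso_counit_uh f
  have : ∀ F, IsIso ((EtCoh.pullPushAdj f).unit.app F) := isIso_unit_uh f
  have : IsIso (EtCoh.pullPushAdj f).counit := NatIso.isIso_of_isIso_app _
  have : IsIso (EtCoh.pullPushAdj f).unit := NatIso.isIso_of_isIso_app _
  exact (EtCoh.pullPushAdj f).toEquivalence.isEquivalence_inverse

end Surjective

theorem toImage_props [IsIntegralHom f] [UniversallyInjective f] :
    IsIntegralHom f.toImage ∧ UniversallyInjective f.toImage ∧ Surjective f.toImage := by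
  have h0 : IsIntegralHom (f.toImage ≫ f.imageι) := by rw [f.toImage_imageι]; infer_instance
  have h1 : UniversallyInjective (f.toImage ≫ f.imageι) := by rw [f.toImage_imageι]; infer_instance
  have hi : IsIntegralHom f.toImage := IsIntegralHom.of_comp f.toImage f.imageι
  refine ⟨hi, ((tfae_universallyInjective f.toImage).out 0 1).2 (fun K hK a b hab => ?_), ⟨?_⟩⟩
  · have h2 : ∀ (K : Type u) [Field K], Function.Injective (fun g : Spec (.of K) ⟶ X => g ≫ (f.toImage ≫ f.imageι)) :=
      ((tfae_universallyInjective (f.toImage ≫ f.imageι)).out 0 1).1 h1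
    refine @h2 K hK a b ?_
    exact (Category.assoc _ _ _).symm.trans ((congrArg (· ≫ f.imageι) hab).trans (Category.assoc _ _ _))
  intro z
  have hc : IsClosed (Set.range f.toImage) := f.toImage.isClosedMap.isClosed_range
  have hd : DenseRange f.toImage := Scheme.Hom.denseRange f.toImage
  exact hd.closure_range.ge.trans hc.closure_subset (Set.mem_univ z)

theorem push_preservesFiniteColimits_ui [IsIntegralHom f] [UniversallyInjective f] :
    PreservesFiniteColimits (EtCoh.push f) := by
  obtain ⟨_, _, _⟩ := toImage_props f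
  have := push_isEquivalence_uh f.toImage
  have h1 : PreservesFiniteColimits (EtCoh.push f.imageι) := preservesFiniteColimits_push_of_finite f.imageι
  have h2 : PreservesFiniteColimits (EtCoh.push f.toImage) :=
    ⟨fun J _ _ => inferInstanceAs (PreservesColimitsOfShape J (EtCoh.push f.toImage))⟩
  have h3 : PreservesFiniteColimits (EtCoh.push f.toImage ⋙ EtCoh.push f.imageι) := comp_preservesFiniteColimits _ _
  exact preservesFiniteColimits_of_natIso (EtCoh.pushComp f.imageι f.toImage ≪≫
    EtCoh.pushCongr f.toImage_imageι)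

theorem push_fullyFaithful_ui [IsIntegralHom f] [UniversallyInjective f] :
    (EtCoh.push f).Full ∧ (EtCoh.push f).Faithful := by
  obtain ⟨_, _, _⟩ := toImage_props f
  have := push_isEquivalence_uh f.toImage
  obtain ⟨_, _⟩ := push_closed_full_faithful f.imageι
  let e := EtCoh.pushComp f.imageι f.toImage ≪≫ EtCoh.pushCongr f.toImage_imageι
  exact ⟨Functor.Full.of_iso e, Functor.Faithful.of_iso e⟩

theorem isIso_counit_ui [IsIntegralHom f] [UniversallyInjective f] (F : EtCoh.Ab X) :
    IsIso ((EtCoh.pullPushAdj f).counit.app F) := by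
  obtain ⟨_, _⟩ := push_fullyFaithful_ui f
  infer_instance

omit f in
theorem supp_subset_iff {Z : Scheme.{u}} (i : Z ⟶ X) [IsClosedImmersion i] (G : EtCoh.Ab X) :
    (EtCoh.push i).essImage G ↔ EtPBC.supp G ⊆ Set.range i.base := by
  constructor
  · rintro ⟨F, ⟨e⟩⟩ x ⟨Ω, _, _, ξ, hξ, hne⟩
    by_contra hx
    refine hne (IsZero.of_iso ?_ ((EtCoh.stalk ξ).mapIso e).symm)
    refine isZero_stalk_push_of_disjoint i F ξ i.isClosedEmbedding.isClosed_range ?_
    rwa [Set.mem_singleton_iff.1 (hξ.le ⟨default, rfl⟩)]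
  · intro h
    rw [essImage_push_closed]
    intro U hU
    refine @AddCommGrpCat.isZero_of_subsingleton _ (subsingleton_of_forall_eq 0 fun σ => ?_)
    refine sect_eq_zero_of_germ G σ fun K _ _ η t => ?_
    by_contra hne
    have hmem : η default ∈ Set.range i.base := h ⟨K, inferInstance, inferInstance, η,
      Set.eq_singleton_iff_unique_mem.2 ⟨⟨default, rfl⟩, by rintro _ ⟨a, rfl⟩; rw [Subsingleton.elim a default]⟩,
      fun hz => hne ((AddCommGrpCat.subsingleton_of_isZero hz).elim _ _)⟩
    exact Set.disjoint_left.1 hU ⟨hom η t default,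
      congrArg (fun q : Spec (CommRingCat.of K) ⟶ X => q default) (Over.w t)⟩ hmem

theorem essImage_ui [IsIntegralHom f] [UniversallyInjective f] (G : EtCoh.Ab Y) :
    (EtCoh.push f).essImage G ↔ EtPBC.supp G ⊆ Set.range f.base := by
  obtain ⟨_, _, hs⟩ := toImage_props f
  have := push_isEquivalence_uh f.toImage
  let e := EtCoh.pushComp f.imageι f.toImage ≪≫ EtCoh.pushCongr f.toImage_imageι
  have hr : Set.range f.base = Set.range f.imageι.base := by
    conv_lhs => rw [← f.toImage_imageι]
    rw [Scheme.Hom.comp_base, TopCat.coe_comp, Set.range_comp, hs.surj.range_eq, Set.image_univ]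
  rw [hr, ← supp_subset_iff f.imageι G]
  constructor
  · rintro ⟨F, ⟨a⟩⟩
    exact ⟨_, ⟨e.app F ≪≫ a⟩⟩
  · rintro ⟨F, ⟨a⟩⟩
    exact ⟨(EtCoh.push f.toImage).objPreimage F, ⟨(e.app _).symm ≪≫
      (EtCoh.push f.imageι).mapIso ((EtCoh.push f.toImage).objObjPreimageIso F) ≪≫ a⟩⟩

end Groth.Agent.EtCore45
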