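import Groth.Agent.EtCore45.OpensExt
import Mathlib.RingTheory.Ideal.Maximal

/-!
Vanishing of cohomology on affine schemes with strictly henselian local rings from an injectivity in degree one.
-/

set_option autoImplicit false
set_option backward.isDefEq.respectTransparency.types false
universe u

open CategoryTheory CategoryTheory.Limits CategoryTheory.Abelian AlgebraicGeometry Opposite

namespace Groth.Agent.EtCore45.MV

variable {X : Scheme.{u}} [IsAffine X]

/-- The injectivity hypothesis, on classes out of the representing objects. -/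
def Inj1 (F : EtCoh.Ab X) : Prop :=
  ∀ (f g : Γ(X, ⊤)) (ξ : Ext (P (X.basicOpen (f + g)).ι) F 1),
    rs ((X.basicOpen_mul f (f + g)).trans_le inf_le_right) ξ = 0 →
    rs ((X.basicOpen_mul g (f + g)).trans_le inf_le_right) ξ = 0 → ξ = 0

omit [IsAffine X] in
theorem basicOpen_add_le (f g : Γ(X, ⊤)) :
    X.basicOpen (f + g) ≤ X.basicOpen f ⊔ X.basicOpen g := by
  intro x hx
  rw [Scheme.mem_basicOpen_top, map_add] at hx
  rcases IsLocalRing.isUnit_or_isUnit_of_isUnit_add hx with h | h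
  · exact Or.inl ((Scheme.mem_basicOpen_top _ _ _).2 h)
  · exact Or.inr ((Scheme.mem_basicOpen_top _ _ _).2 h)

omit [IsAffine X] in
theorem rs_cancel {U V : X.Opens} (h : U ≤ V) (h' : V ≤ U) {F : EtCoh.Ab X} {n : ℕ} (ξ : Ext (P V.ι) F n)
    (hξ : rs h ξ = 0) : ξ = 0 := by
  have e := rs_eq_zero_of_le h' h hξ
  change (Ext.mk₀ (ρ (h'.trans h))).comp ξ (zero_add n) = 0 at e
  rwa [ρ_refl, Ext.mk₀_id_comp] at e

theorem isRadical_core (hX : ∀ x : X, EtCoh.IsStrictlyHenselianLocalRing (X.presheaf.stalk x))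
    (F : EtCoh.Ab X) (q : ℕ) (h : Γ(X, ⊤))
    (hadd : ∀ (f g : Γ(X, ⊤)) (ξ : Ext (P (X.basicOpen ((f + g) * h)).ι) F (q + 1)),
      (∀ (O : X.Opens) (l : O ≤ X.basicOpen ((f + g) * h)), O ≤ X.basicOpen f → rs l ξ = 0) →
      (∀ (O : X.Opens) (l : O ≤ X.basicOpen ((f + g) * h)), O ≤ X.basicOpen g → rs l ξ = 0) → ξ = 0) :
    Subsingleton (Ext (P (X.basicOpen h).ι) F (q + 1)) := by
  refine subsingleton_of_forall_eq 0 fun ξ => ?_
  let Z : Γ(X, ⊤) → Prop := fun g => ∀ (O : X.Opens) (l : O ≤ X.basicOpen h), O ≤ X.basicOpen g → rs l ξ = 0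
  have hloc : ∀ x ∈ X.basicOpen h, ∃ g, x ∈ X.basicOpen g ∧ Z g := by
    intro x hx
    obtain ⟨O, l, hxO, hO⟩ := exists_nbhd_rs_eq_zero hX q F _ ξ x hx
    obtain ⟨g, hg, hxg⟩ := (isAffineOpen_top X).exists_basicOpen_le (⟨x, hxO⟩ : O) trivial
    exact ⟨g, hxg, fun O' l' hO' => rs_eq_zero_of_le (hO'.trans hg) l hO⟩
  let I : Ideal Γ(X, ⊤) :=
    { carrier := {g | Z g}
      zero_mem' := by
        intro O l hO
        have hO' : ∀ y, y ∉ O := fun y hy => by
          have := hO hy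
          rw [Scheme.basicOpen_zero] at this
          exact this
        have hz : IsZero (P O.ι) := by
          refine (IsZero.iff_id_eq_zero _).2 ((S_bijective O.ι _).1 ?_)
          have : IsEmpty (obj O).left := ⟨fun (z : (O : Scheme.{u})) => hO' z.1 z.2⟩
          exact (Unr55.EtSh.sect_eq_zero_of_isEmpty _ _).trans (Unr55.EtSh.sect_eq_zero_of_isEmpty _ _).symm
        rw [rs, hz.eq_of_src (ρ l) 0, Ext.mk₀_zero, Ext.zero_comp]
      add_mem' := by
        intro f g hf hg O l hO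
        have hle : O ≤ X.basicOpen ((f + g) * h) := by
          rw [X.basicOpen_mul]; exact le_inf hO l
        have hl : X.basicOpen ((f + g) * h) ≤ X.basicOpen h := (X.basicOpen_mul _ _).trans_le inf_le_right
        refine rs_eq_zero_of_le hle hl (hadd f g _ (fun O' l' hf' => ?_) (fun O' l' hg' => ?_))
        · rw [rs_rs]; exact hf O' _ hf'
        · rw [rs_rs]; exact hg O' _ hg'
      smul_mem' := by
        intro r g hg O l hO
        rw [smul_eq_mul, X.basicOpen_mul] at hO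
        exact hg O l (hO.trans inf_le_right) }
  have hmem : ∃ N, h ^ N ∈ I := by
    by_contra hc
    simp only [not_exists] at hc
    have hd : Disjoint (I : Set Γ(X, ⊤)) (Submonoid.powers h : Set Γ(X, ⊤)) :=
      Set.disjoint_right.2 (by rintro _ ⟨N, rfl⟩; exact hc N)
    obtain ⟨p, hp, hIp, hpd⟩ := Ideal.exists_le_prime_disjoint I (Submonoid.powers h) hd
    let x := (isAffineOpen_top X).fromSpec ⟨p, hp⟩
    have hiff : ∀ g, x ∈ X.basicOpen g ↔ g ∉ p := fun g => by
      have e := (isAffineOpen_top X).fromSpec_preimage_basicOpen g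
      change (⟨p, hp⟩ : PrimeSpectrum Γ(X, ⊤)) ∈ (isAffineOpen_top X).fromSpec ⁻¹ᵁ X.basicOpen g ↔ _
      rw [e]
      rfl
    obtain ⟨g, hxg, hg⟩ := hloc x ((hiff h).2 fun hh => Set.disjoint_left.1 hpd hh ⟨1, pow_one h⟩)
    exact (hiff g).1 hxg (hIp hg)
  obtain ⟨N, hN⟩ := hmem
  have hle : X.basicOpen h ≤ X.basicOpen (h ^ N) := by
    rcases Nat.eq_zero_or_pos N with rfl | hN'
    · rw [pow_zero, Scheme.basicOpen_of_isUnit _ isUnit_one]
      exact le_top
    · rw [Scheme.basicOpen_pow X h hN']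
  exact rs_cancel le_rfl le_rfl ξ (hN _ le_rfl hle)

theorem subsingleton_basicOpen (hX : ∀ x : X, EtCoh.IsStrictlyHenselianLocalRing (X.presheaf.stalk x))
    (F : EtCoh.Ab X) (h1 : Inj1 F) :
    ∀ (q : ℕ) (h : Γ(X, ⊤)), Subsingleton (Ext (P (X.basicOpen h).ι) F (q + 1)) := by
  intro q
  induction q with
  | zero =>
    intro h
    refine isRadical_core hX F 0 h fun f g ξ hf hg => ?_
    have e : f * h + g * h = (f + g) * h := (add_mul f g h).symm
    have hl : X.basicOpen (f * h + g * h) ≤ X.basicOpen ((f + g) * h) := by rw [e]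
    have hl' : X.basicOpen ((f + g) * h) ≤ X.basicOpen (f * h + g * h) := by rw [e]
    refine rs_cancel hl hl' ξ (h1 (f * h) (g * h) _ ?_ ?_)
    · rw [rs_rs]
      refine hf _ _ ?_
      rw [X.basicOpen_mul, X.basicOpen_mul]
      exact inf_le_left.trans inf_le_left
    · rw [rs_rs]
      refine hg _ _ ?_
      rw [X.basicOpen_mul, X.basicOpen_mul]
      exact inf_le_left.trans inf_le_left
  | succ q ih =>
    intro h
    refine isRadical_core hX F (q + 1) h fun f g ξ hf hg => ?_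
    let W := X.basicOpen ((f + g) * h)
    let U := X.basicOpen f ⊓ W
    let V := X.basicOpen g ⊓ W
    have hsup : W ≤ U ⊔ V := by
      intro x hx
      have hx' : x ∈ X.basicOpen (f + g) :=
        ((X.basicOpen_mul _ _).trans_le inf_le_left : W ≤ X.basicOpen (f + g)) hx
      rcases basicOpen_add_le f g hx' with h' | h'
      · exact Or.inl ⟨h', hx⟩
      · exact Or.inr ⟨h', hx⟩
    have hsup' : U ⊔ V ≤ W := sup_le inf_le_right inf_le_right
    have e : U ⊓ V = X.basicOpen (f * g * ((f + g) * h)) := by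
      simp only [U, V, W, X.basicOpen_mul]
      ac_rfl
    have hq : Subsingleton (Ext (P (U ⊓ V).ι) F (q + 1)) := by
      rw [e]; exact ih _
    refine rs_cancel hsup' hsup ξ (eq_zero_of_rs_sup hq _ ?_ ?_)
    · rw [rs_rs]; exact hf _ _ inf_le_left
    · rw [rs_rs]; exact hg _ _ inf_le_left

theorem subsingleton_H_of_inj1 (hX : ∀ x : X, EtCoh.IsStrictlyHenselianLocalRing (X.presheaf.stalk x))
    (F : EtCoh.Ab X) (h1 : Inj1 F) (q : ℕ) : Subsingleton (EtCoh.H X F (q + 1)) := by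
  refine subsingleton_of_forall_eq 0 fun ξ => ?_
  have := isIso_cMap_top (X := X)
  have hb : (⊤ : X.Opens) ≤ X.basicOpen (1 : Γ(X, ⊤)) := by
    rw [Scheme.basicOpen_of_isUnit _ isUnit_one]
  have h0 : (Ext.mk₀ (cMap (⊤ : X.Opens).ι)).comp ξ (zero_add (q + 1)) = 0 :=
    rs_cancel le_top hb _ ((subsingleton_basicOpen hX F h1 q 1).elim _ _)
  calc ξ = (Ext.mk₀ (inv (cMap (⊤ : X.Opens).ι))).comp
        ((Ext.mk₀ (cMap (⊤ : X.Opens).ι)).comp ξ (zero_add (q + 1))) (zero_add (q + 1)) := by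
        rw [Ext.mk₀_comp_mk₀_assoc, IsIso.inv_hom_id]
        exact (Ext.mk₀_id_comp ξ).symm
    _ = 0 := by rw [h0, Ext.comp_zero]

omit [IsAffine X] in
theorem inj1_of_hker (F : EtCoh.Ab X)
    (hker : ∀ (f g : Γ(X, ⊤)) (ξ : EtCoh.H ↑(X.basicOpen (f + g)) ((EtCoh.pull (X.basicOpen (f + g)).ι).obj F) 1),
      EtCore.HpullVia (X.homOfLE ((X.basicOpen_mul f (f + g)).trans_le inf_le_right)) (X.basicOpen (f + g)).ι (X.basicOpen (f * (f + g))).ι (X.homOfLE_ι ((X.basicOpen_mul f (f + g)).trans_le inf_le_right)) F 1 ξ = 0 →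
      EtCore.HpullVia (X.homOfLE ((X.basicOpen_mul g (f + g)).trans_le inf_le_right)) (X.basicOpen (f + g)).ι (X.basicOpen (g * (f + g))).ι (X.homOfLE_ι ((X.basicOpen_mul g (f + g)).trans_le inf_le_right)) F 1 ξ = 0 →
      ξ = 0) : Inj1 F := by
  intro f g ξ h1 h2
  refine (tr_bijective (X.basicOpen (f + g)).ι F 1).1 ?_
  rw [map_zero]
  refine hker f g _ ?_ ?_
  · rw [HpullVia_tr]
    exact (congrArg _ h1).trans (map_zero _)
  · rw [HpullVia_tr]
    exact (congrArg _ h2).trans (map_zero _)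

end Groth.Agent.EtCore45.MV
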