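import Groth.Agent.EtCore45.StrictLocalIso
import Groth.Agent.SepCl83.Basic
import Groth.Agent.Ind91.Lift
import Groth.Agent.LimTop61.BirationalZMT
import Mathlib.AlgebraicGeometry.FunctionField
import Mathlib.AlgebraicGeometry.Limits

/-!
Etale schemes over normal integral schemes with separably closed function field.
-/

set_option autoImplicit false
set_option linter.style.haveILetI false
set_option backward.isDefEq.respectTransparency false
universe u

open CategoryTheory CategoryTheory.Limits AlgebraicGeometry IsLocalRing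

namespace Groth.Agent.EtCore45

variable {X : Scheme.{u}} [IsIntegral X]
  (hN : ∀ x : X, IsIntegrallyClosed (X.presheaf.stalk x)) [IsSepClosed X.functionField]

include hN in
theorem strictHens_stalk_normal (x : X) :
    EtCoh.IsStrictlyHenselianLocalRing (X.presheaf.stalk x) := by
  have := hN x
  exact ⟨SepCl83.henselian (X.functionField : Type u), SepCl83.isSepClosed_residueField (X.functionField : Type u)⟩

include hN in
/-- A separated quasi-compact etale scheme decomposes into finitely many opens mapped isomorphically. -/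
theorem exists_clopen_pieces {V : Scheme.{u}} (f : V ⟶ X) [Etale f] [QuasiCompact f] [IsSeparated f] :
    ∃ (ι : Type u) (_ : Finite ι) (O : ι → V.Opens),
      (∀ y : V, ∃ k, y ∈ O k) ∧ (∀ k l, k ≠ l → Disjoint (O k) (O l)) ∧
        ∀ k, IsOpenImmersion ((O k).ι ≫ f) := by
  have := Unr55.locallyQuasiFinite_of_formallyUnramified f
  let T : Set V := f ⁻¹' {genericPoint X}
  have hT : T.Finite := f.finite_preimage_singleton _
  choose U hyU hU using fun y : V => exists_open_immersion_sh f y (strictHens_stalk_normal hN _)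
  have key : ∀ y : V, ∃ t ∈ T, t ∈ U y ∧ (∀ t' ∈ T, t' ∈ U y → t' = t) ∧ (U y : Set V) ⊆ closure {t} := by
    intro y
    let g := (U y).ι ≫ f
    have := hU y
    obtain ⟨a, ha⟩ : genericPoint X ∈ Set.range g :=
      ((genericPoint_spec X).mem_open_set_iff g.isOpenEmbedding.isOpen_range).2
        ⟨g ⟨y, hyU y⟩, trivial, ⟨_, rfl⟩⟩
    refine ⟨(U y).ι a, ha, a.2, fun t' ht' htU => ?_, fun z hz => ?_⟩
    · have : g ⟨t', htU⟩ = g a := (show g ⟨t', htU⟩ = genericPoint X from ht').trans ha.symm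
      exact congrArg Subtype.val (g.isOpenEmbedding.injective this)
    · have h1 : a ⤳ (⟨z, hz⟩ : (U y : Scheme.{u})) :=
        g.isOpenEmbedding.isInducing.specializes_iff.1 (by rw [ha]; exact genericPoint_specializes _)
      exact (h1.map (U y).ι.continuous).mem_closure
  choose tOf htT htU htuniq htcl using key
  have huniq : ∀ (y : V) (w : V), w ∈ T → y ∈ closure {w} → w = tOf y := fun y w hw hy =>
    htuniq y w hw ((specializes_iff_mem_closure.2 hy).mem_open (U y).2 (hyU y))
  let O : T → V.Opens := fun w => ⟨closure {(w : V)}, isOpen_iff_forall_mem_open.2 fun y hy =>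
    ⟨U y, by rw [huniq y w w.2 hy]; exact htcl y, (U y).2, hyU y⟩⟩
  have := hT.to_subtype
  refine ⟨T, inferInstance, O, fun y => ⟨⟨tOf y, htT y⟩, htcl y (hyU y)⟩, fun k l hkl => ?_, fun w => ?_⟩
  · refine TopologicalSpace.Opens.coe_disjoint.1 (Set.disjoint_left.2 fun y hk hl => hkl (Subtype.ext ?_))
    exact (huniq y k k.2 hk).trans (huniq y l l.2 hl).symm
  · let h := (O w).ι ≫ f
    have hloc : ∀ z : (O w : Scheme.{u}), IsOpenImmersion (((O w).ι ⁻¹ᵁ U ((O w).ι z)).ι ≫ h) := fun z => by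
      let U' := (O w).ι ⁻¹ᵁ U ((O w).ι z)
      have := hU ((O w).ι z)
      have e : U'.ι ≫ (O w).ι ≫ f = ((O w).ι ∣_ U _) ≫ (U ((O w).ι z)).ι ≫ f := by
        rw [morphismRestrict_ι_assoc]
      change IsOpenImmersion (U'.ι ≫ (O w).ι ≫ f)
      rw [e]
      infer_instance
    have : IsLocalIso h := IsLocalIso.mk fun z => ⟨_, hyU _, hloc z⟩
    have hirr : _root_.IrreducibleSpace (O w : Scheme.{u}) :=
      isIrreducible_iff_irreducibleSpace.1 (isIrreducible_singleton.closure : IsIrreducible (closure {(w : V)}))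
    have : IsReduced (O w : Scheme.{u}) := by
      refine @isReduced_of_isReduced_stalk _ fun z => ?_
      have hz : IsIso (h.stalkMap z) :=
        have := hloc z
        (LimTop61.stalkMap_isIso_comp_iff h ((O w).ι ⁻¹ᵁ U ((O w).ι z)).ι ⟨z, hyU _⟩).mp inferInstance
      exact isReduced_of_injective (inv (h.stalkMap z)).hom (ConcreteCategory.bijective_of_isIso _).1
    have : IsIntegral (O w : Scheme.{u}) := isIntegral_of_irreducibleSpace_of_isReduced _
    exact LimTop61.isOpenImmersion_of_isLocalIso h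

include hN in
/-- An affine scheme etale over a closed subscheme splits. -/
theorem exists_pieces_closed {V Z : Scheme.{u}} [IsAffine X] (i : Z ⟶ X) [IsClosedImmersion i]
    (φ : V ⟶ Z) [Etale φ] [IsAffine V] :
    ∃ (ι : Type u) (_ : Finite ι) (P : ι → V.Opens),
      (∀ y : V, ∃ k, y ∈ P k) ∧ (∀ k l, k ≠ l → Disjoint (P k) (P l)) ∧
        ∀ k, IsOpenImmersion ((P k).ι ≫ φ) := by
  obtain ⟨hZ, hi⟩ := IsClosedImmersion.isAffine_surjective_of_isAffine i
  let A : Type u := Γ(X, ⊤)
  let D : Type u := Γ(Z, ⊤)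
  let B : Type u := Γ(V, ⊤)
  let a : A →+* D := i.appTop.hom
  let b : D →+* B := φ.appTop.hom
  let I := RingHom.ker a
  let e : A ⧸ I ≃+* D := RingHom.quotientKerEquivOfSurjective hi
  letI : Algebra A B := (b.comp a).toAlgebra
  letI : Algebra (A ⧸ I) B := (b.comp e.toRingHom).toAlgebra
  have : IsScalarTower A (A ⧸ I) B := IsScalarTower.of_algebraMap_eq fun x => rfl
  have hb : b.Etale := (HasRingHomProperty.iff_of_isAffine (P := @Etale)).1 ‹Etale φ›
  have : Algebra.Etale (A ⧸ I) B := RingHom.etale_algebraMap.1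
    (RingHom.Etale.respectsIso.2 b e hb)
  obtain ⟨W, _, _, π, hW, hπ, -⟩ := Ind91.exists_etale_lift A I B
  let cW := CommRingCat.ofHom (algebraMap A W)
  let f : Spec (CommRingCat.of W) ⟶ X := Spec.map cW ≫ X.isoSpec.inv
  have : Etale (Spec.map cW) := (HasRingHomProperty.Spec_iff (P := @Etale)).2 (RingHom.etale_algebraMap.2 hW)
  let k : V ⟶ Spec (CommRingCat.of W) := V.isoSpec.hom ≫ Spec.map (CommRingCat.ofHom π.toRingHom)
  have : IsClosedImmersion k := by
    have : IsClosedImmersion (Spec.map (CommRingCat.ofHom π.toRingHom)) :=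
      IsClosedImmersion.spec_of_surjective _ hπ
    infer_instance
  have hk : k ≫ f = φ ≫ i := by
    simp only [k, f, Category.assoc]
    rw [← Spec.map_comp_assoc]
    have : cW ≫ CommRingCat.ofHom π.toRingHom = i.appTop ≫ φ.appTop :=
      CommRingCat.hom_ext (RingHom.ext fun x => π.commutes x)
    rw [this, Spec.map_comp]
    simp [Scheme.isoSpec_inv_naturality, Scheme.isoSpec_inv_naturality_assoc]
  obtain ⟨ι, hι, O, hcov, hdis, hO⟩ := exists_clopen_pieces hN f
  refine ⟨ι, hι, fun l => k ⁻¹ᵁ O l, fun y => hcov (k y), fun l m hlm => ?_, fun l => ?_⟩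
  · exact TopologicalSpace.Opens.coe_disjoint.1
      ((TopologicalSpace.Opens.coe_disjoint.2 (hdis l m hlm)).preimage _)
  · have := hO l
    have : Mono (((k ⁻¹ᵁ O l).ι ≫ φ) ≫ i) := by
      rw [Category.assoc, ← hk, ← morphismRestrict_ι_assoc k (O l)]
      exact mono_comp _ _
    have : Mono ((k ⁻¹ᵁ O l).ι ≫ φ) := mono_of_mono _ i
    exact IsOpenImmersion.of_flat_of_mono _

/-- Image open of a piece. -/
noncomputable def pieceRange {V Z : Scheme.{u}} (φ : V ⟶ Z) (P : V.Opens) [IsOpenImmersion (P.ι ≫ φ)] : Z.Opens :=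
  (P.ι ≫ φ).opensRange

include hN in
theorem exists_sigma_iso {V Z : Scheme.{u}} [IsAffine X] (i : Z ⟶ X) [IsClosedImmersion i]
    (φ : V ⟶ Z) [Etale φ] [IsAffine V] :
    ∃ (ι : Type u) (_ : Finite ι) (W : ι → Z.Opens) (e : (∐ fun k => (W k : Scheme.{u})) ≅ V),
      ∀ k, Sigma.ι (fun k => (W k : Scheme.{u})) k ≫ e.hom ≫ φ = (W k).ι := by
  obtain ⟨ι, hι, P, hcov, hdis, hP⟩ := exists_pieces_closed hN i φ
  let j := fun l => ((P l).ι ≫ φ).isoOpensRange.inv ≫ (P l).ι
  have hr : ∀ l, (j l).opensRange = P l := fun l => by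
    simp only [j, Scheme.Hom.opensRange_comp_of_isIso, Scheme.Opens.opensRange_ι]
  obtain ⟨hc⟩ := nonempty_isColimit_cofanMk_of j (by
      simp only [hr]
      exact eq_top_iff.2 fun y _ => TopologicalSpace.Opens.mem_iSup.2 (hcov y))
    (fun l m h => by simpa [Function.onFun, hr] using hdis l m h)
  refine ⟨ι, hι, fun l => pieceRange φ (P l),
    (colimit.isColimit _).coconePointUniqueUpToIso hc, fun l => ?_⟩
  rw [← Category.assoc]
  erw [(colimit.isColimit _).comp_coconePointUniqueUpToIso_hom hc ⟨l⟩]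
  exact (Category.assoc _ _ _).trans (Scheme.Hom.isoOpensRange_inv_comp _)

include hN in
theorem exists_section_finiteEtale {V Z : Scheme.{u}} [IsAffine X] (i : Z ⟶ X) [IsClosedImmersion i]
    (φ : V ⟶ Z) [Etale φ] [IsFinite φ] [Surjective φ] : ∃ s : Z ⟶ V, s ≫ φ = 𝟙 Z := by
  have : IsAffine Z := (IsClosedImmersion.isAffine_surjective_of_isAffine i).1
  have : IsAffine V := isAffine_of_isAffineHom φ
  obtain ⟨ι, _, P, hcov, hdis, hP⟩ := exists_pieces_closed hN i φ
  obtain ⟨n, ⟨en⟩⟩ := Finite.exists_equiv_fin ι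
  let R : ι → Set Z := fun l => φ '' (P l)
  have hRo : ∀ l, IsOpen (R l) := fun l => by
    have := hP l
    have e : R l = Set.range ((P l).ι ≫ φ) := by
      rw [Scheme.Hom.comp_base, TopCat.coe_comp, Set.range_comp, Scheme.Opens.range_ι]
    rw [e]
    exact ((P l).ι ≫ φ).isOpenEmbedding.isOpen_range
  have hPc : ∀ l, IsClosed ((P l : Set V)) := fun l => by
    refine ⟨isOpen_iff_forall_mem_open.2 fun y hy => ?_⟩
    obtain ⟨m, hm⟩ := hcov y
    exact ⟨P m, fun z hz hz' => Set.disjoint_left.1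
      (TopologicalSpace.Opens.coe_disjoint.2 (hdis l m (fun e => hy (e ▸ hm)))) hz' hz, (P m).2, hm⟩
  have hRc : ∀ l, IsClosed (R l) := fun l => φ.isClosedMap _ (hPc l)
  let C : ι → Set Z := fun l => R l ∩ ⋂ m ∈ {m | en m < en l}, (R m)ᶜ
  have hCo : ∀ l, IsOpen (C l) := fun l =>
    (hRo l).inter ((Set.toFinite _).isOpen_biInter fun m _ => (hRc m).isOpen_compl)
  let Y : V.Opens := ⟨⋃ l, (P l : Set V) ∩ φ ⁻¹' C l,
    isOpen_iUnion fun l => (P l).2.inter ((hCo l).preimage φ.continuous)⟩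
  have hinj : ∀ (y y' : V), y ∈ Y → y' ∈ Y → φ y = φ y' →
      ∃ l, y ∈ P l ∧ y' ∈ P l := by
    intro y y' hy hy' he
    obtain ⟨l, hl, hl'⟩ := Set.mem_iUnion.1 hy
    obtain ⟨m, hm, hm'⟩ := Set.mem_iUnion.1 hy'
    rcases lt_trichotomy (en l) (en m) with h | h | h
    · exact absurd (he ▸ hl'.1 : φ y' ∈ R l) (Set.mem_iInter₂.1 hm'.2 l h)
    · exact ⟨l, hl, en.injective h ▸ hm⟩
    · exact absurd (he.symm ▸ hm'.1 : φ y ∈ R m) (Set.mem_iInter₂.1 hl'.2 m h)
  let g := Y.ι ≫ φ
  have hg : Function.Bijective g := by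
    refine ⟨fun y y' he => Subtype.ext ?_, fun z => ?_⟩
    · obtain ⟨l, h1, h2⟩ := hinj _ _ y.2 y'.2 he
      have := hP l
      have e : (⟨y.1, h1⟩ : (P l : Scheme.{u})) = ⟨y'.1, h2⟩ := ((P l).ι ≫ φ).isOpenEmbedding.injective he
      exact congrArg (fun t : (P l : Scheme.{u}) => (P l).ι t) e
    · obtain ⟨y, rfl⟩ := φ.surjective z
      classical
      let S := Finset.univ.filter (fun q : Fin n => φ y ∈ R (en.symm q))
      have hS : S.Nonempty := by
        obtain ⟨l, hl⟩ := hcov y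
        exact ⟨en l, Finset.mem_filter.2 ⟨Finset.mem_univ _, by rw [en.symm_apply_apply]; exact ⟨y, hl, rfl⟩⟩⟩
      let l := en.symm (S.min' hS)
      obtain ⟨y', hy', he⟩ : φ y ∈ R l := (Finset.mem_filter.1 (S.min'_mem hS)).2
      refine ⟨⟨y', Set.mem_iUnion.2 ⟨l, hy', ?_⟩⟩, he⟩
      change φ y' ∈ C l
      rw [he]
      refine ⟨⟨y', hy', he⟩, Set.mem_iInter₂.2 fun m hm hmR => ?_⟩
      have h1 : S.min' hS ≤ en m :=
        S.min'_le _ (Finset.mem_filter.2 ⟨Finset.mem_univ _, by rwa [en.symm_apply_apply]⟩)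
      have h2 : en m < en (en.symm (S.min' hS)) := hm
      rw [en.apply_symm_apply] at h2
      exact absurd h2 (not_lt.2 h1)
  have hiso : ∀ y : (Y : Scheme.{u}), IsIso (g.stalkMap y) := fun y => by
    obtain ⟨l, hl, -⟩ := Set.mem_iUnion.1 y.2
    have := hP l
    have h1 : IsIso (φ.stalkMap y.1) :=
      (LimTop61.stalkMap_isIso_comp_iff φ (P l).ι ⟨y.1, hl⟩).mp inferInstance
    exact (LimTop61.stalkMap_isIso_comp_iff φ Y.ι y).mpr h1
  have : IsOpenImmersion g := IsOpenImmersion.of_isIso_stalkMap g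
    (Topology.IsOpenEmbedding.of_continuous_injective_isOpenMap g.continuous hg.1 g.isOpenMap)
  have : Surjective g := ⟨hg.2⟩
  have : IsIso g := isIso_of_isOpenImmersion_of_opensRange_eq_top g
    (TopologicalSpace.Opens.ext (Set.range_eq_univ.2 hg.2))
  exact ⟨inv g ≫ Y.ι, by rw [Category.assoc, IsIso.inv_hom_id]⟩

end Groth.Agent.EtCore45
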