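import Groth.Agent.EtCore45.ExtZeroOpen
import Groth.Agent.EtCore45.EtalePull
import Groth.Agent.Unr55.Et.ClosedPush
import Groth.Prelude.Def_W4c1etweilhu916Glue

/-!
Recollement of abelian etale sheaves along an open subscheme and its closed complement.
-/

set_option autoImplicit false
set_option backward.isDefEq.respectTransparency.types false
universe u

open CategoryTheory CategoryTheory.Limits AlgebraicGeometry Opposite
open Groth.Agent.Unr55.EtSh

namespace Groth.Agent.EtCore45

variable {X Z U : Scheme.{u}} (i : Z ⟶ X) (j : U ⟶ X)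

theorem pushStalkMap_natural {W Y : Scheme.{u}} (f : W ⟶ Y) {Ω : Type u} [Field Ω] [IsSepClosed Ω]
    (ξ : Spec (CommRingCat.of Ω) ⟶ W) {F G : EtCoh.Ab W} (ψ : F ⟶ G) :
    (EtCoh.stalk (ξ ≫ f)).map ((EtCoh.push f).map ψ) ≫ pushStalkMap f ξ G =
      pushStalkMap f ξ F ≫ (EtCoh.stalk ξ).map ψ := by
  refine ConcreteCategory.hom_ext _ _ fun a => ?_
  obtain ⟨V, s, σ, rfl⟩ := exists_germ_eq (ξ ≫ f) _ a
  rw [ConcreteCategory.comp_apply, ConcreteCategory.comp_apply]
  refine (congrArg (pushStalkMap f ξ G) (stalk_map_germ (ξ ≫ f) ((EtCoh.push f).map ψ) s σ)).trans ?_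
  refine (pushStalkMap_germ f ξ G s _).trans (Eq.trans ?_ (congrArg ((EtCoh.stalk ξ).map ψ) (pushStalkMap_germ f ξ F s σ)).symm)
  exact (stalk_map_germ ξ ψ _ σ).symm

theorem theta_natural {W Y : Scheme.{u}} (f : W ⟶ Y) {Ω : Type u} [Field Ω] [IsSepClosed Ω]
    (ξ : Spec (CommRingCat.of Ω) ⟶ W) {F G : EtCoh.Ab Y} (φ : F ⟶ G) :
    (EtCoh.stalk (ξ ≫ f)).map φ ≫ theta f ξ G = theta f ξ F ≫ (EtCoh.stalk ξ).map ((EtCoh.pull f).map φ) := by
  simp only [theta, Category.assoc]
  rw [← pushStalkMap_natural, ← Category.assoc, ← Category.assoc, ← Functor.map_comp, ← Functor.map_comp]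
  congr 2
  exact (EtCoh.pullPushAdj f).unit.naturality φ

/-- Isomorphy is detected on the open part and its complement. -/
theorem isIso_of_pulls [IsClosedImmersion i] [IsOpenImmersion j] (hZU : Set.range j = (Set.range i)ᶜ)
    {F G : EtCoh.Ab X} (φ : F ⟶ G) [IsIso ((EtCoh.pull i).map φ)] [IsIso ((EtCoh.pull j).map φ)] : IsIso φ := by
  refine isIso_of_stalks _ fun K _ _ η => ?_
  have key : ∀ {W : Scheme.{u}} (f : W ⟶ X) (v : Spec (CommRingCat.of K) ⟶ W),
      IsIso ((EtCoh.pull f).map φ) → Function.Bijective ((EtCoh.stalk (v ≫ f)).map φ) := fun f v _ => by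
    refine ((theta_bijective f v G).of_comp_iff' _).1 ?_
    rw [show ⇑(theta f v G) ∘ ⇑((EtCoh.stalk (v ≫ f)).map φ) =
      ⇑((EtCoh.stalk v).map ((EtCoh.pull f).map φ)) ∘ ⇑(theta f v F) from
        funext fun x => ConcreteCategory.congr_hom (theta_natural f v φ) x]
    exact (ConcreteCategory.bijective_of_isIso _).comp (theta_bijective f v F)
  by_cases h : η default ∈ Set.range j
  · obtain ⟨v, rfl⟩ := exists_above j η h
    exact key j v inferInstance
  · obtain ⟨v, rfl⟩ := exists_point_lift i η (by_contra fun hc => h (hZU.ge hc))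
    exact key i v inferInstance

theorem isZero_pull_push [IsClosedImmersion i] [IsOpenImmersion j] (hZU : Set.range j = (Set.range i)ᶜ)
    (A : EtCoh.Ab Z) : IsZero ((EtCoh.pull j).obj ((EtCoh.push i).obj A)) := by
  refine IsZero.of_iso ?_ ((pullRestrIso j).app _)
  rw [IsZero.iff_id_eq_zero]
  refine ObjectProperty.hom_ext _ (NatTrans.ext (funext fun V => ConcreteCategory.hom_ext _ _ fun σ => ?_))
  have := isEmpty_bc_of_disjoint i (U := (EtShriek.compEtale j).obj V.unop) (Set.disjoint_left.2 (by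
    rintro _ ⟨x, rfl⟩ hx
    exact (hZU.le ⟨V.unop.hom x, rfl⟩) hx))
  refine (@sect_eq_zero_of_isEmpty _ A ((EtCoh.bc i).obj ((EtShriek.compEtale j).obj V.unop)) this _).trans ?_
  exact (@sect_eq_zero_of_isEmpty _ A ((EtCoh.bc i).obj ((EtShriek.compEtale j).obj V.unop)) this _).symm

theorem isIso_pull_unit_closed [IsClosedImmersion i] (F : EtCoh.Ab X) :
    IsIso ((EtCoh.pull i).map ((EtCoh.pullPushAdj i).unit.app F)) := by
  have := isIso_counit_closed i ((EtCoh.pull i).obj F)
  have h : IsIso ((EtCoh.pull i).map ((EtCoh.pullPushAdj i).unit.app F) ≫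
      (EtCoh.pullPushAdj i).counit.app ((EtCoh.pull i).obj F)) := by
    exact (congrArg (fun k => IsIso k) ((EtCoh.pullPushAdj i).left_triangle_components F)).mpr inferInstance
  exact IsIso.of_isIso_comp_right _ ((EtCoh.pullPushAdj i).counit.app ((EtCoh.pull i).obj F))

theorem isIso_pull_unit_open [IsOpenImmersion j] (F : EtCoh.Ab X) :
    IsIso ((EtCoh.pull j).map ((EtCoh.pullPushAdj j).unit.app F)) := by
  have := isIso_counit_openImmersion j ((EtCoh.pull j).obj F)
  have h : IsIso ((EtCoh.pull j).map ((EtCoh.pullPushAdj j).unit.app F) ≫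
      (EtCoh.pullPushAdj j).counit.app ((EtCoh.pull j).obj F)) := by
    exact (congrArg (fun k => IsIso k) ((EtCoh.pullPushAdj j).left_triangle_components F)).mpr inferInstance
  exact IsIso.of_isIso_comp_right _ ((EtCoh.pullPushAdj j).counit.app ((EtCoh.pull j).obj F))

section Square

variable (A : EtCoh.Ab Z) (B : EtCoh.Ab U) (φ : A ⟶ (EtCoh.pull i).obj ((EtCoh.push j).obj B))

/-- The glued sheaf. -/
noncomputable abbrev glueAb : EtCoh.Ab X :=
  pullback ((EtCoh.push i).map φ) ((EtCoh.pullPushAdj i).unit.app ((EtCoh.push j).obj B))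

theorem isIso_pull_i_fst [IsClosedImmersion i] :
    IsIso ((EtCoh.pull i).map (pullback.fst ((EtCoh.push i).map φ)
      ((EtCoh.pullPushAdj i).unit.app ((EtCoh.push j).obj B)))) := by
  have := preservesFiniteLimits_pull i
  have := isIso_pull_unit_closed i ((EtCoh.push j).obj B)
  exact ((IsPullback.of_hasPullback ((EtCoh.push i).map φ)
    ((EtCoh.pullPushAdj i).unit.app ((EtCoh.push j).obj B))).map (EtCoh.pull i)).isIso_fst_of_isIso

theorem isIso_pull_j_snd [IsClosedImmersion i] [IsOpenImmersion j] (hZU : Set.range j = (Set.range i)ᶜ) :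
    IsIso ((EtCoh.pull j).map (pullback.snd ((EtCoh.push i).map φ)
      ((EtCoh.pullPushAdj i).unit.app ((EtCoh.push j).obj B)))) := by
  have := preservesFiniteLimits_pull j
  have : IsIso ((EtCoh.pull j).map ((EtCoh.push i).map φ)) :=
    ⟨0, (isZero_pull_push i j hZU _).eq_of_src _ _, (isZero_pull_push i j hZU _).eq_of_src _ _⟩
  exact ((IsPullback.of_hasPullback ((EtCoh.push i).map φ)
    ((EtCoh.pullPushAdj i).unit.app ((EtCoh.push j).obj B))).map (EtCoh.pull j)).isIso_snd_of_isIso

end Square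

/-- The comparison with the glued sheaf. -/
noncomputable def toGlue (F : EtCoh.Ab X) :
    F ⟶ glueAb i j ((EtCoh.pull i).obj F) ((EtCoh.pull j).obj F)
      ((EtCoh.pull i).map ((EtCoh.pullPushAdj j).unit.app F)) :=
  pullback.lift ((EtCoh.pullPushAdj i).unit.app F) ((EtCoh.pullPushAdj j).unit.app F)
    ((EtCoh.pullPushAdj i).unit.naturality ((EtCoh.pullPushAdj j).unit.app F)).symm

theorem isIso_toGlue [IsClosedImmersion i] [IsOpenImmersion j] (hZU : Set.range j = (Set.range i)ᶜ)
    (F : EtCoh.Ab X) : IsIso (toGlue i j F) := by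
  have hi : IsIso ((EtCoh.pull i).map (toGlue i j F)) := by
    have := isIso_pull_i_fst i j _ _ ((EtCoh.pull i).map ((EtCoh.pullPushAdj j).unit.app F))
    have h : IsIso ((EtCoh.pull i).map (toGlue i j F) ≫ (EtCoh.pull i).map (pullback.fst _ _)) := by
      rw [← Functor.map_comp, toGlue, pullback.lift_fst]
      exact isIso_pull_unit_closed i F
    exact IsIso.of_isIso_comp_right _ ((EtCoh.pull i).map (pullback.fst _ _))
  have hj : IsIso ((EtCoh.pull j).map (toGlue i j F)) := by
    have := isIso_pull_j_snd i j _ _ ((EtCoh.pull i).map ((EtCoh.pullPushAdj j).unit.app F)) hZU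
    have h : IsIso ((EtCoh.pull j).map (toGlue i j F) ≫ (EtCoh.pull j).map (pullback.snd _ _)) := by
      rw [← Functor.map_comp, toGlue, pullback.lift_snd]
      exact isIso_pull_unit_open j F
    exact IsIso.of_isIso_comp_right _ ((EtCoh.pull j).map (pullback.snd _ _))
  exact isIso_of_pulls i j hZU _

variable [IsClosedImmersion i] [IsOpenImmersion j]

theorem recoll_faithful (hZU : Set.range j = (Set.range i)ᶜ) : (EtCore.recollTriple i j).Faithful := by
  refine ⟨fun {F G} φ ψ h => ?_⟩
  have := isIso_toGlue i j hZU G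
  have h1 : (EtCoh.pull i).map φ = (EtCoh.pull i).map ψ := congrArg CommaMorphism.left h
  have h2 : (EtCoh.pull j).map φ = (EtCoh.pull j).map ψ := congrArg CommaMorphism.right h
  rw [← cancel_mono (toGlue i j G)]
  apply pullback.hom_ext
  · simp only [Category.assoc, toGlue, pullback.lift_fst]
    refine ((EtCoh.pullPushAdj i).unit.naturality φ).trans ?_
    refine Eq.trans ?_ ((EtCoh.pullPushAdj i).unit.naturality ψ).symm
    exact congrArg (fun k => (EtCoh.pullPushAdj i).unit.app F ≫ (EtCoh.push i).map k) h1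
  · simp only [Category.assoc, toGlue, pullback.lift_snd]
    refine ((EtCoh.pullPushAdj j).unit.naturality φ).trans ?_
    refine Eq.trans ?_ ((EtCoh.pullPushAdj j).unit.naturality ψ).symm
    exact congrArg (fun k => (EtCoh.pullPushAdj j).unit.app F ≫ (EtCoh.push j).map k) h2

theorem recoll_full (hZU : Set.range j = (Set.range i)ᶜ) : (EtCore.recollTriple i j).Full := by
  refine ⟨fun {F G} m => ?_⟩
  have hG := isIso_toGlue i j hZU G
  have w : m.left ≫ (EtCoh.pull i).map ((EtCoh.pullPushAdj j).unit.app G) =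
      (EtCoh.pull i).map ((EtCoh.pullPushAdj j).unit.app F) ≫ (EtCoh.pull i).map ((EtCoh.push j).map m.right) := m.w
  let p := (EtCoh.pullPushAdj i).unit.app F ≫ (EtCoh.push i).map m.left
  let q := (EtCoh.pullPushAdj j).unit.app F ≫ (EtCoh.push j).map m.right
  have hw : p ≫ (EtCoh.push i).map ((EtCoh.pull i).map ((EtCoh.pullPushAdj j).unit.app G)) =
      q ≫ (EtCoh.pullPushAdj i).unit.app ((EtCoh.push j).obj ((EtCoh.pull j).obj G)) := by
    refine Eq.trans ?_ ((EtCoh.pullPushAdj i).unit.naturality q).symm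
    refine (Category.assoc _ _ _).trans (congrArg ((EtCoh.pullPushAdj i).unit.app F ≫ ·) ?_)
    rw [← Functor.map_comp]
    refine (congrArg (EtCoh.push i).map (w.trans ?_)).trans rfl
    exact (Functor.map_comp _ _ _).symm
  obtain ⟨r, hr1, hr2⟩ : ∃ r : F ⟶ glueAb i j ((EtCoh.pull i).obj G) ((EtCoh.pull j).obj G)
      ((EtCoh.pull i).map ((EtCoh.pullPushAdj j).unit.app G)),
      r ≫ pullback.fst _ _ = p ∧ r ≫ pullback.snd _ _ = q :=
    ⟨pullback.lift p q hw, pullback.lift_fst _ _ _, pullback.lift_snd _ _ _⟩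
  let ψ : F ⟶ G := r ≫ (@asIso _ _ _ _ (toGlue i j G) hG).inv
  have e : ψ ≫ toGlue i j G = r := (Category.assoc _ _ _).trans
    ((congrArg (r ≫ ·) (@asIso _ _ _ _ (toGlue i j G) hG).inv_hom_id).trans (Category.comp_id r))
  have hl : ψ ≫ (EtCoh.pullPushAdj i).unit.app G = p :=
    (congrArg (ψ ≫ ·) (show toGlue i j G ≫ pullback.fst _ _ = (EtCoh.pullPushAdj i).unit.app G from
      pullback.lift_fst _ _ _).symm).trans ((Category.assoc _ _ _).symm.trans ((congrArg (· ≫ _) e).trans hr1))
  have hr : ψ ≫ (EtCoh.pullPushAdj j).unit.app G = q :=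
    (congrArg (ψ ≫ ·) (show toGlue i j G ≫ pullback.snd _ _ = (EtCoh.pullPushAdj j).unit.app G from
      pullback.lift_snd _ _ _).symm).trans ((Category.assoc _ _ _).symm.trans ((congrArg (· ≫ _) e).trans hr2))
  refine ⟨ψ, CommaMorphism.ext ?_ ?_⟩
  · apply ((EtCoh.pullPushAdj i).homEquiv F ((EtCoh.pull i).obj G)).injective
    refine ((EtCoh.pullPushAdj i).homEquiv_unit _ _ _).trans (Eq.trans ?_ ((EtCoh.pullPushAdj i).homEquiv_unit _ _ _).symm)
    exact ((EtCoh.pullPushAdj i).unit.naturality ψ).symm.trans hl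
  · apply ((EtCoh.pullPushAdj j).homEquiv F ((EtCoh.pull j).obj G)).injective
    refine ((EtCoh.pullPushAdj j).homEquiv_unit _ _ _).trans (Eq.trans ?_ ((EtCoh.pullPushAdj j).homEquiv_unit _ _ _).symm)
    exact ((EtCoh.pullPushAdj j).unit.naturality ψ).symm.trans hr

theorem recoll_essSurj (hZU : Set.range j = (Set.range i)ᶜ) : (EtCore.recollTriple i j).EssSurj := by
  refine ⟨fun T => ⟨glueAb i j T.left T.right T.hom, ⟨?_⟩⟩⟩
  let P := pullback.fst ((EtCoh.push i).map T.hom) ((EtCoh.pullPushAdj i).unit.app ((EtCoh.push j).obj T.right))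
  let Q := pullback.snd ((EtCoh.push i).map T.hom) ((EtCoh.pullPushAdj i).unit.app ((EtCoh.push j).obj T.right))
  have hP := isIso_pull_i_fst i j T.left T.right T.hom
  have hQ := isIso_pull_j_snd i j T.left T.right T.hom hZU
  have := isIso_counit_closed i T.left
  have := isIso_counit_openImmersion j T.right
  refine Comma.isoMk (@asIso _ _ _ _ ((EtCoh.pull i).map P) hP ≪≫ asIso ((EtCoh.pullPushAdj i).counit.app T.left))
    (@asIso _ _ _ _ ((EtCoh.pull j).map Q) hQ ≪≫ asIso ((EtCoh.pullPushAdj j).counit.app T.right)) ?_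
  have hq : (EtCoh.pullPushAdj j).unit.app _ ≫ (EtCoh.push j).map ((EtCoh.pull j).map Q ≫
      (EtCoh.pullPushAdj j).counit.app T.right) = Q := by
    exact ((EtCoh.pullPushAdj j).homEquiv_unit _ _ _).symm.trans
      (((EtCoh.pullPushAdj j).homEquiv _ _).apply_eq_iff_eq_symm_apply.2
        ((EtCoh.pullPushAdj j).homEquiv_counit _ _ _).symm)
  change ((EtCoh.pull i).map P ≫ (EtCoh.pullPushAdj i).counit.app T.left) ≫ T.hom =
    (EtCoh.pull i).map ((EtCoh.pullPushAdj j).unit.app _) ≫ (EtCoh.pull i).map ((EtCoh.push j).map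
      ((EtCoh.pull j).map Q ≫ (EtCoh.pullPushAdj j).counit.app T.right))
  refine Eq.trans ?_ (((congrArg (EtCoh.pull i).map hq).symm).trans (Functor.map_comp _ _ _))
  refine (Category.assoc _ _ _).trans ((congrArg ((EtCoh.pull i).map P ≫ ·)
    ((EtCoh.pullPushAdj i).counit.naturality T.hom).symm).trans ?_)
  refine (Category.assoc _ _ _).symm.trans ?_
  refine (congrArg (· ≫ _) ((Functor.map_comp (EtCoh.pull i) P ((EtCoh.push i).map T.hom)).symm.trans
    ((congrArg (EtCoh.pull i).map (pullback.condition :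
      P ≫ (EtCoh.push i).map T.hom = Q ≫ (EtCoh.pullPushAdj i).unit.app ((EtCoh.push j).obj T.right))).trans
      (Functor.map_comp _ _ _)))).trans ?_
  refine (Category.assoc _ _ _).trans ?_
  refine (congrArg ((EtCoh.pull i).map Q ≫ ·) ((EtCoh.pullPushAdj i).left_triangle_components _)).trans ?_
  exact Category.comp_id _

theorem recoll_isEquivalence (hZU : Set.range j = (Set.range i)ᶜ) : (EtCore.recollTriple i j).IsEquivalence :=
  have := recoll_faithful i j hZU
  have := recoll_full i j hZU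
  have := recoll_essSurj i j hZU
  { faithful := inferInstance, full := inferInstance, essSurj := inferInstance }

end Groth.Agent.EtCore45
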