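import Groth.Agent.EtCore45.ConstSect
import Groth.Agent.NormY57.Scheme
import Groth.Agent.Unr55.EtStalk
import Groth.Agent.Unr55.UnrQF
import Groth.Prelude.Def_EtCore
import Mathlib.AlgebraicGeometry.Morphisms.UniversallyOpen
import Mathlib.AlgebraicGeometry.Morphisms.Preimmersion

/-!
Direct images of constant sheaves to normal integral schemes.
-/

set_option autoImplicit false
set_option backward.isDefEq.respectTransparency.types false
universe u

open CategoryTheory CategoryTheory.Limits AlgebraicGeometry Opposite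
open Groth.Agent.Unr55.EtSh Groth.Agent.LocConst45

namespace Groth.Agent.EtCore45

variable {X : Scheme.{u}}

theorem eq_of_specializes_over_generic [IrreducibleSpace X] {W : Scheme.{u}} (f : W ⟶ X) [Etale f]
    {a b : W} (hb : f b = genericPoint X) (h : a ⤳ b) : a = b := by
  have := Unr55.locallyQuasiFinite_of_formallyUnramified f
  have ha : f a = genericPoint X := by
    have h1 : f a ⤳ genericPoint X := hb ▸ h.map f.continuous
    exact (h1.antisymm (genericPoint_specializes _)).eq
  obtain ⟨V, hV, hVb⟩ := isDiscrete_iff_forall_mem_exists_isOpen.1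
    (f.isDiscrete_preimage_singleton (genericPoint X)) b hb
  have : a ∈ V ∩ f ⁻¹' {genericPoint X} := ⟨h.mem_open hV (hVb.ge rfl).1, ha⟩
  exact hVb.le this

theorem exists_generalization_over_generic [IrreducibleSpace X] {W : Scheme.{u}} (f : W ⟶ X) [Etale f]
    (w : W) : ∃ a, f a = genericPoint X ∧ a ⤳ w := by
  obtain ⟨a, ha, he⟩ := Flat.generalizingMap f (genericPoint_specializes (f w))
  exact ⟨a, he, ha⟩

theorem locIrr_etale_normal [IsIntegral X] (hN : ∀ x : X, IsIntegrallyClosed (X.presheaf.stalk x))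
    {W : Scheme.{u}} (f : W ⟶ X) [Etale f] : LocIrr W := by
  intro w
  obtain ⟨_, ⟨U₀, hU, rfl⟩, hwU, -⟩ :=
    X.isBasis_affineOpens.exists_subset_of_mem_open (Set.mem_univ (f w)) isOpen_univ
  let U : X.Opens := U₀
  obtain ⟨_, ⟨W₁, hW₀, rfl⟩, hw₀, hsub⟩ :=
    W.isBasis_affineOpens.exists_subset_of_mem_open (show w ∈ f ⁻¹ᵁ U from hwU) (f ⁻¹ᵁ U).2
  let W₀ : W.Opens := W₁
  let g := W₀.ι ≫ f
  have hlqf := Unr55.locallyQuasiFinite_of_formallyUnramified g
  have hη : genericPoint X ∈ U :=
    ((genericPoint_spec X).mem_open_set_iff U.2).2 ⟨f w, trivial, hwU⟩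
  have hr : Set.range g ⊆ Set.range U.ι := by
    rintro _ ⟨z, rfl⟩
    rw [Scheme.Opens.range_ι]
    exact hsub z.2
  let g' := IsOpenImmersion.lift U.ι g hr
  have : IsAffine (W₀ : Scheme.{u}) := hW₀
  have : IsAffine (U : Scheme.{u}) := hU
  have hg' : g' ≫ U.ι = g := IsOpenImmersion.lift_fac _ _ _
  have : Etale (g' ≫ U.ι) := hg' ▸ inferInstance
  have : Etale g' := MorphismProperty.of_postcomp @Etale (W' := @Etale) g' U.ι inferInstance this
  have := Unr55.locallyQuasiFinite_of_formallyUnramified g'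
  have hfin : (g ⁻¹' {genericPoint X}).Finite := by
    refine (g'.finite_preimage_singleton (⟨genericPoint X, hη⟩ : (U : Scheme.{u}))).subset fun z hz => ?_
    apply U.ι.isOpenEmbedding.injective
    rw [← Scheme.Hom.comp_apply, hg']
    exact hz
  have hnorm : Pi1.IsNormalScheme (W₀ : Scheme.{u}) := fun z =>
    (Unr55.isNormalDomain_stalk_iff_of_etale g z).2 ⟨inferInstance, hN _⟩
  have hmax : ∀ a, g a = genericPoint X → Norm57.IsMax' a := fun a ha b hb =>
    eq_of_specializes_over_generic g ha hb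
  let w₀ : (W₀ : Scheme.{u}) := ⟨w, hw₀⟩
  obtain ⟨a, ha, haw⟩ := exists_generalization_over_generic g w₀
  have ho : IsOpen (closure ({a} : Set (W₀ : Scheme.{u}))) := by
    have e : (closure ({a} : Set (W₀ : Scheme.{u})))ᶜ = ⋃ b ∈ (g ⁻¹' {genericPoint X}) \ {a}, closure {b} := by
      ext z
      simp only [Set.mem_compl_iff, Set.mem_iUnion, exists_prop]
      constructor
      · intro hz
        obtain ⟨b, hb, hbz⟩ := exists_generalization_over_generic g z
        exact ⟨b, ⟨hb, fun (hba : b = a) => hz (hba ▸ specializes_iff_mem_closure.1 hbz)⟩,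
          specializes_iff_mem_closure.1 hbz⟩
      · rintro ⟨b, ⟨hb, hba⟩, hbz⟩ hz
        exact hba (NormY57.eq_of_isMax' hnorm (hmax b hb) (hmax a ha)
          (specializes_iff_mem_closure.2 hbz) (specializes_iff_mem_closure.2 hz))
    rw [← isClosed_compl_iff, e]
    exact (hfin.subset Set.sdiff_subset).isClosed_biUnion fun b _ => isClosed_closure
  let N : W.Opens := W₀.ι ''ᵁ ⟨closure {a}, ho⟩
  refine ⟨N, ⟨w₀, specializes_iff_mem_closure.1 haw, rfl⟩, ?_⟩
  exact isIrreducible_iff_irreducibleSpace.1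
    (isIrreducible_singleton.closure.image W₀.ι W₀.ι.continuous.continuousOn)

/-- The adjunction unit on constant sections. -/
theorem unit_constσ {U : Scheme.{u}} (f : U ⟶ X) (M : AddCommGrpCat.{u + 1}) (W : X.Etale) (m : M) :
    ((EtCore.pullConstIso f).app M).hom.hom.app (op ((EtCoh.bc f).obj W))
        (((EtCoh.pullPushAdj f).unit.app (cst M)).hom.app (op W) (constσ M W m)) =
      constσ M ((EtCoh.bc f).obj W) m := by
  let adj1 := ((EtCore.constAdj X).comp (EtCoh.pullPushAdj f)).ofNatIsoRight (EtCore.pushGsecIso f)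
  let e := ((EtCore.pullConstIso f).app M).hom
  have h := ConcreteCategory.congr_hom (Adjunction.unit_leftAdjointUniq_hom_app adj1 (EtCore.constAdj U) M) m
  let z := e.hom.app (op ((EtCoh.bc f).obj (EtCoh.top X)))
    (((EtCoh.pullPushAdj f).unit.app (cst M)).hom.app (op (EtCoh.top X)) (constσ M (EtCoh.top X) m))
  have h1 : (cst (X := U) M).obj.map (EtCore.bcTopIso f).inv.op z = constσ M (EtCoh.top U) m :=
    ((NatTrans.naturality_apply e.hom (EtCore.bcTopIso f).inv.op _).symm.trans h : _)
  have htop : z = constσ M ((EtCoh.bc f).obj (EtCoh.top X)) m := by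
    have h2 := congrArg ((cst (X := U) M).obj.map (EtCore.bcTopIso f).hom.op) h1
    rw [← map_comp', Iso.hom_inv_id, constσ_map] at h2
    simpa using h2
  let d := (EtCore.topIsTerminal X).from W
  rw [← constσ_map M d m, ← constσ_map M ((EtCoh.bc f).map d) m, ← htop]
  refine (congrArg (e.hom.app _) (NatTrans.naturality_apply ((EtCoh.pullPushAdj f).unit.app (cst M)).hom d.op _)).trans ?_
  exact NatTrans.naturality_apply e.hom ((EtCoh.bc f).map d).op _

/-- The unit at a constant sheaf is an isomorphism when base change keeps irreducibility. -/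
theorem isIso_unit_cst {U : Scheme.{u}} (f : U ⟶ X)
    (hX : ∀ W : X.Etale, LocIrr W.left)
    (hf : ∀ W : X.Etale, IrreducibleSpace W.left → IrreducibleSpace ((EtCoh.bc f).obj W).left)
    (M : AddCommGrpCat.{u + 1}) : IsIso ((EtCoh.pullPushAdj f).unit.app (cst M)) := by
  let φ := (EtCoh.pullPushAdj f).unit.app (cst M) ≫ (EtCoh.push f).map ((EtCore.pullConstIso f).app M).hom
  suffices IsIso φ from IsIso.of_isIso_comp_right _ ((EtCoh.push f).map ((EtCore.pullConstIso f).app M).hom)
  have key : ∀ W : X.Etale, IrreducibleSpace W.left → Function.Bijective (φ.hom.app (op W)) := by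
    intro W hW
    have := hf W hW
    have b₁ : Function.Bijective (constσ (X := X) M W) :=
      ⟨constσ_injective M W, constσ_surjective_of_irreducible M W⟩
    have b₂ : Function.Bijective (constσ (X := U) M ((EtCoh.bc f).obj W)) :=
      ⟨constσ_injective M _, constσ_surjective_of_irreducible M _⟩
    refine (Function.Bijective.of_comp_iff _ b₁).1 ?_
    have e : ⇑(φ.hom.app (op W)) ∘ ⇑(constσ (X := X) M W) = ⇑(constσ (X := U) M ((EtCoh.bc f).obj W)) :=
      funext fun m => unit_constσ f M W m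
    rw [e]
    exact b₂
  refine (Sheaf.isLocallyBijective_iff_isIso φ).1 ⟨⟨fun {W} a b hab => mem_topology fun x => ?_⟩,
    ⟨fun {W} s => mem_topology fun x => ?_⟩⟩
  · obtain ⟨N, hxN, hN⟩ := hX W.unop x
    refine ⟨openSub W.unop N, openSubι W.unop N, ⟨x, hxN⟩, (key _ hN).1 ?_, rfl⟩
    rw [NatTrans.naturality_apply, NatTrans.naturality_apply, hab]
  · obtain ⟨N, hxN, hN⟩ := hX W x
    obtain ⟨t, ht⟩ := (key _ hN).2 (((EtCoh.push f).obj (cst M)).obj.map (openSubι W N).op s)
    exact ⟨openSub W N, openSubι W N, ⟨x, hxN⟩, ⟨t, ht⟩, rfl⟩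

theorem irreducibleSpace_bc {U : Scheme.{u}} (f : U ⟶ X) [IsPreimmersion f] (W : X.Etale)
    (h : IsIrreducible (W.hom ⁻¹' Set.range f)) : IrreducibleSpace ((EtCoh.bc f).obj W).left := by
  let p : pullback W.hom f ⟶ W.left := pullback.fst W.hom f
  have : IsPreimmersion p := MorphismProperty.pullback_fst W.hom f ‹_›
  rw [← Scheme.Pullback.range_fst] at h
  have h1 : _root_.IrreducibleSpace (pullback W.hom f : Scheme.{u}) := by
    have : Nonempty (pullback W.hom f : Scheme.{u}) := Set.range_nonempty_iff_nonempty.1 h.nonempty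
    refine (irreducibleSpace_def _).2 ⟨Set.univ_nonempty, ?_⟩
    rintro u v hu hv ⟨a, -, ha⟩ ⟨b, -, hb⟩
    obtain ⟨u', hu', rfl⟩ := p.isEmbedding.isInducing.isOpen_iff.1 hu
    obtain ⟨v', hv', rfl⟩ := p.isEmbedding.isInducing.isOpen_iff.1 hv
    obtain ⟨_, ⟨c, rfl⟩, hc⟩ := h.2 u' v' hu' hv' ⟨p a, ⟨a, rfl⟩, ha⟩ ⟨p b, ⟨b, rfl⟩, hb⟩
    exact ⟨c, trivial, hc⟩
  exact h1

theorem isIso_unit_open [IsIntegral X] (hN : ∀ x : X, IsIntegrallyClosed (X.presheaf.stalk x))
    (U : X.Opens) (hU : (U : Set X).Nonempty) (M : AddCommGrpCat.{u + 1}) :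
    IsIso ((EtCoh.pullPushAdj U.ι).unit.app (cst M)) := by
  refine isIso_unit_cst U.ι (fun W => have : Etale W.hom := W.prop; locIrr_etale_normal hN W.hom)
    (fun W hW => irreducibleSpace_bc U.ι W ?_) M
  have : Etale W.hom := W.prop
  rw [Scheme.Opens.range_ι]
  obtain ⟨w⟩ := (inferInstance : Nonempty W.left)
  obtain ⟨a, ha, -⟩ := exists_generalization_over_generic (X := X) W.hom w
  refine ⟨⟨a, ?_⟩, ?_⟩
  · change W.hom a ∈ U
    rw [ha]
    exact ((genericPoint_spec X).mem_open_set_iff U.2).2 ⟨hU.some, trivial, hU.some_mem⟩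
  · exact (PreirreducibleSpace.isPreirreducible_univ (X := W.left)).open_subset
      (U.2.preimage W.hom.continuous) (Set.subset_univ _)

theorem isIso_unit_generic [IsIntegral X] (hN : ∀ x : X, IsIntegrallyClosed (X.presheaf.stalk x))
    (M : AddCommGrpCat.{u + 1}) :
    IsIso ((EtCoh.pullPushAdj (X.fromSpecStalk (genericPoint X))).unit.app (cst M)) := by
  refine isIso_unit_cst _ (fun W => have : Etale W.hom := W.prop; locIrr_etale_normal hN W.hom)
    (fun W hW => irreducibleSpace_bc _ W ?_) M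
  have : Etale W.hom := W.prop
  have hr : Set.range (X.fromSpecStalk (genericPoint X)) = {genericPoint X} := by
    rw [Scheme.range_fromSpecStalk]
    ext y
    exact ⟨fun h => (h.antisymm (genericPoint_specializes y)).eq, fun h => h ▸ specializes_rfl⟩
  rw [hr]
  obtain ⟨w⟩ := (inferInstance : Nonempty W.left)
  obtain ⟨a, ha, -⟩ := exists_generalization_over_generic (X := X) W.hom w
  refine ⟨⟨a, ha⟩, Set.Subsingleton.isPreirreducible fun p hp q hq => ?_⟩
  have key : ∀ b, W.hom b = genericPoint X → @genericPoint W.left _ _ hW = b := fun b hb =>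
    eq_of_specializes_over_generic (X := X) W.hom hb (@genericPoint_specializes W.left _ _ hW b)
  exact (key p hp).symm.trans (key q hq)

end Groth.Agent.EtCore45
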