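import Groth.Agent.LocConst45.AbConst
import Groth.Agent.EtCore45.PushEpi

/-!
Sections of constant sheaves on irreducible and locally irreducible etale schemes.
-/

set_option autoImplicit false
set_option backward.isDefEq.respectTransparency.types false
universe u

open CategoryTheory CategoryTheory.Limits AlgebraicGeometry Opposite
open Groth.Agent.Unr55.EtSh Groth.Agent.LocConst45

namespace Groth.Agent.EtCore45

variable {X : Scheme.{u}} (M : AddCommGrpCat.{u + 1})

theorem oiι {S : Scheme.{u}} (U' : S.Opens) : IsOpenImmersion U'.ι := inferInstance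

/-- The constant sheaf. -/
noncomputable abbrev cst : EtCoh.Ab X := (constantSheaf X.smallEtaleTopology AddCommGrpCat.{u + 1}).obj M

theorem constσ_injective (W : X.Etale) [hne : Nonempty W.left] :
    Function.Injective (constσ (X := X) M W) := by
  refine (injective_iff_map_eq_zero _).2 fun m hm => (isTriv_const M W).inj W (𝟙 W) m hne ?_
  simp [hm]

theorem constσ_eq_of_meet {W V V' : X.Etale} (g : V ⟶ W) (g' : V' ⟶ W) {m m' : M}
    (s : EtCoh.sect (cst (X := X) M) W)
    (h : (cst (X := X) M).obj.map g.op s = constσ M V m)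
    (h' : (cst (X := X) M).obj.map g'.op s = constσ M V' m')
    (v : V.left) (v' : V'.left) (e : g.left v = g'.left v') : m = m' := by
  have : Etale g.left := etale_left g
  have : Etale g'.left := etale_left g'
  have : Etale V.hom := V.prop
  let P : X.Etale := Scheme.Etale.mk (pullback.fst g.left g'.left ≫ V.hom)
  let p : P ⟶ V := MorphismProperty.Over.homMk (pullback.fst g.left g'.left) rfl trivial
  let q : P ⟶ V' := MorphismProperty.Over.homMk (pullback.snd g.left g'.left) (by
    change pullback.snd g.left g'.left ≫ V'.hom = pullback.fst g.left g'.left ≫ V.hom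
    have e1 : g.left ≫ W.hom = V.hom := MorphismProperty.Over.w g
    have e2 : g'.left ≫ W.hom = V'.hom := MorphismProperty.Over.w g'
    rw [← e1, ← e2, pullback.condition_assoc]) trivial
  have hpq : p ≫ g = q ≫ g' := MorphismProperty.Over.Hom.ext pullback.condition
  obtain ⟨x, -, -⟩ := Scheme.Pullback.exists_preimage_pullback (f := g.left) (g := g'.left) v v' e
  have : Nonempty P.left := ⟨x⟩
  refine constσ_injective (X := X) M P ?_
  have h1 : (cst (X := X) M).obj.map (p ≫ g).op s = constσ M P m := by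
    rw [map_comp', h, constσ_map]
  have h2 : (cst (X := X) M).obj.map (q ≫ g').op s = constσ M P m' := by
    rw [map_comp', h', constσ_map]
  rw [← h1, ← h2, hpq]

theorem constσ_surjective_of_irreducible (W : X.Etale) [IrreducibleSpace W.left] :
    Function.Surjective (constσ (X := X) M W) := by
  intro s
  choose V g v m hv hm using (isTriv_const M W).surj W (𝟙 W) s
  have hm' : ∀ x, (cst (X := X) M).obj.map (g x).op s = constσ M (V x) (m x) := fun x => by
    rw [hm x, constσ_map]
  have hmeq : ∀ x y, m x = m y := fun x y => by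
    have := etale_left (g x)
    have := etale_left (g y)
    have hx : IsOpen (Set.range (g x).left) := (g x).left.isOpenMap.isOpen_range
    have hy : IsOpen (Set.range (g y).left) := (g y).left.isOpenMap.isOpen_range
    obtain ⟨z, ⟨a, ha⟩, ⟨b, hb⟩⟩ := nonempty_preirreducible_inter hx hy ⟨x, v x, hv x⟩ ⟨y, v y, hv y⟩
    exact constσ_eq_of_meet M (g x) (g y) s (hm' x) (hm' y) a b (ha.trans hb.symm)
  obtain ⟨x₀⟩ := (inferInstance : Nonempty W.left)
  refine ⟨m x₀, ?_⟩
  have hS : Sieve.ofArrows _ g ∈ X.smallEtaleTopology W := mem_topology fun x =>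
    ⟨V x, g x, v x, Sieve.ofArrows_mk _ _ x, hv x⟩
  refine (isSheafFor_forget (cst M) hS).isSeparatedFor.ext fun Z f hf => ?_
  obtain ⟨x, a, rfl⟩ := (Sieve.mem_ofArrows_iff _ _ _).1 hf
  change (cst (X := X) M).obj.map (a ≫ g x).op _ = (cst (X := X) M).obj.map (a ≫ g x).op _
  rw [map_comp', map_comp', hm', constσ_map, hmeq x₀ x]

/-- Every point has an irreducible open neighbourhood. -/
def LocIrr (S : Scheme.{u}) : Prop :=
  ∀ x : S, ∃ N : S.Opens, x ∈ N ∧ IrreducibleSpace N

/-- On locally irreducible schemes sections of the constant sheaf extend from opens. -/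
theorem exists_extension (U : X.Etale) (hU : LocIrr U.left) (O : U.left.Opens)
    (s : EtCoh.sect (cst (X := X) M) (openSub U O)) :
    ∃ t : EtCoh.sect (cst (X := X) M) U, (cst (X := X) M).obj.map (openSubι U O).op t = s := by
  classical
  choose N hxN hN using hU
  have hm : ∀ x, ∃ m : M, ∀ (_ : ((N x : Set U.left) ∩ O).Nonempty) (Z : X.Etale) (a : Z ⟶ openSub U O),
      Set.range (a ≫ openSubι U O).left ⊆ N x → (cst (X := X) M).obj.map a.op s = constσ M Z m := by
    intro x
    by_cases hne : ((N x : Set U.left) ∩ O).Nonempty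
    · let N' : (openSub U O).left.Opens := O.ι ⁻¹ᵁ N x
      have hirr : IrreducibleSpace (openSub (openSub U O) N').left := by
        have h1 : IsPreirreducible (N x : Set U.left) :=
          (isIrreducible_iff_irreducibleSpace.2 (hN x)).2
        have h2 : IsPreirreducible (O.ι ⁻¹' (N x : Set U.left)) := h1.preimage O.ι.isOpenEmbedding
        refine isIrreducible_iff_irreducibleSpace.1 ⟨?_, h2⟩
        obtain ⟨z, hzN, hzO⟩ := hne
        exact ⟨⟨z, hzO⟩, hzN⟩
      obtain ⟨m, hm⟩ := constσ_surjective_of_irreducible M (openSub (openSub U O) N')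
        ((cst (X := X) M).obj.map (openSubι (openSub U O) N').op s)
      refine ⟨m, fun _ Z a ha => ?_⟩
      have hr : Set.range a.left ⊆ Set.range N'.ι := by
        rintro _ ⟨z, rfl⟩
        rw [Scheme.Opens.range_ι]
        exact ha ⟨z, rfl⟩
      let l : Z ⟶ openSub (openSub U O) N' := MorphismProperty.Over.homMk (@IsOpenImmersion.lift _ _ _ N'.ι a.left (oiι N') hr)
        (by
          change @IsOpenImmersion.lift _ _ _ N'.ι a.left (oiι N') hr ≫ N'.ι ≫ (openSub U O).hom = Z.hom
          rw [← Category.assoc, @IsOpenImmersion.lift_fac _ _ _ _ _ (oiι _) hr]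
          exact MorphismProperty.Over.w a) trivial
      have hl : l ≫ openSubι (openSub U O) N' = a :=
        MorphismProperty.Over.Hom.ext (@IsOpenImmersion.lift_fac _ _ _ N'.ι a.left (oiι N') hr :)
      rw [← hl, map_comp', ← hm, constσ_map]
    · exact ⟨0, fun h => absurd h hne⟩
  choose m hm using hm
  let m' : U.left → M := fun x => if ((N x : Set U.left) ∩ O).Nonempty then m x else 0
  have hcompat : ∀ x y, ((N x : Set U.left) ∩ N y).Nonempty → m' x = m' y := by
    intro x y hxy
    have key : ∀ a b, ((N a : Set U.left) ∩ N b).Nonempty → ((N a : Set U.left) ∩ O).Nonempty →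
        ((N a : Set U.left) ∩ (N b ∩ O)).Nonempty := fun a b h1 h2 =>
      (isIrreducible_iff_irreducibleSpace.2 (hN a)).2 _ _ (N b).2 O.2 h1 h2
    have hiff : ((N x : Set U.left) ∩ O).Nonempty ↔ ((N y : Set U.left) ∩ O).Nonempty := by
      constructor <;> intro h
      · obtain ⟨z, -, hz1, hz2⟩ := key x y hxy h
        exact ⟨z, hz1, hz2⟩
      · obtain ⟨z, -, hz1, hz2⟩ := key y x (by rwa [Set.inter_comm]) h
        exact ⟨z, hz1, hz2⟩
    simp only [m']
    by_cases h : ((N x : Set U.left) ∩ O).Nonempty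
    · rw [if_pos h, if_pos (hiff.1 h)]
      obtain ⟨z, hz, hzy, hzO⟩ := key x y hxy h
      let T : (openSub U O).left.Opens := O.ι ⁻¹ᵁ (N x ⊓ N y)
      let a := openSubι (openSub U O) T
      have : Nonempty (openSub (openSub U O) T).left := ⟨⟨⟨z, hzO⟩, hz, hzy⟩⟩
      refine constσ_injective (X := X) M (openSub (openSub U O) T) ?_
      rw [← hm x h _ a (by rintro _ ⟨w, rfl⟩; exact w.2.1), ← hm y (hiff.1 h) _ a (by rintro _ ⟨w, rfl⟩; exact w.2.2)]
    · rw [if_neg h, if_neg (fun h' => h (hiff.2 h'))]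
  have hS : Sieve.ofArrows _ (fun x => openSubι U (N x)) ∈ X.smallEtaleTopology U := mem_topology fun x =>
    ⟨_, openSubι U (N x), ⟨x, hxN x⟩, Sieve.ofArrows_mk _ _ x, rfl⟩
  have hF := isSheafFor_forget (cst (X := X) M) hS
  rw [Sieve.ofArrows, ← Presieve.isSheafFor_iff_generate, Presieve.isSheafFor_arrows_iff] at hF
  obtain ⟨t, ht, -⟩ := hF (fun x => constσ M (openSub U (N x)) (m' x)) fun x y Z ga gb h => by
    change (cst (X := X) M).obj.map ga.op _ = (cst (X := X) M).obj.map gb.op _
    rw [constσ_map, constσ_map]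
    rcases isEmpty_or_nonempty Z.left with hZ | ⟨⟨z⟩⟩
    · exact @Subsingleton.elim _ ⟨fun a b => (sect_eq_zero_of_isEmpty _ a).trans (sect_eq_zero_of_isEmpty _ b).symm⟩ _ _
    · rw [hcompat x y ⟨(ga ≫ openSubι U (N x)).left z, (N x).range_ι.le ⟨ga.left z, rfl⟩,
        by rw [h]; exact (N y).range_ι.le ⟨gb.left z, rfl⟩⟩]
  refine ⟨t, ?_⟩
  have hS' : Sieve.ofArrows _ (fun x : U.left => openSubι (openSub U O) (O.ι ⁻¹ᵁ N x)) ∈
      X.smallEtaleTopology (openSub U O) := mem_topology fun z =>
    ⟨_, openSubι (openSub U O) (O.ι ⁻¹ᵁ N (O.ι z)), ⟨z, hxN _⟩, Sieve.ofArrows_mk _ _ (O.ι z), rfl⟩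
  refine (isSheafFor_forget (cst M) hS').isSeparatedFor.ext fun Z f hf => ?_
  obtain ⟨x, a, rfl⟩ := (Sieve.mem_ofArrows_iff _ _ _).1 hf
  let f' := a ≫ openSubι (openSub U O) (O.ι ⁻¹ᵁ N x)
  change (cst (X := X) M).obj.map f'.op _ = (cst (X := X) M).obj.map f'.op _
  rcases isEmpty_or_nonempty Z.left with hZ | ⟨⟨z⟩⟩
  · exact (sect_eq_zero_of_isEmpty _ _).trans (sect_eq_zero_of_isEmpty _ _).symm
  have hr : Set.range (f' ≫ openSubι U O).left ⊆ Set.range (N x).ι := by
    rintro _ ⟨w, rfl⟩
    rw [Scheme.Opens.range_ι]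
    exact (a.left w).2
  let l : Z ⟶ openSub U (N x) := MorphismProperty.Over.homMk (@IsOpenImmersion.lift _ _ _ (N x).ι (f' ≫ openSubι U O).left (oiι (N x)) hr)
    (by
      change @IsOpenImmersion.lift _ _ _ (N x).ι (f' ≫ openSubι U O).left (oiι (N x)) hr ≫ (N x).ι ≫ U.hom = Z.hom
      rw [← Category.assoc, @IsOpenImmersion.lift_fac _ _ _ _ _ (oiι _) hr]
      exact MorphismProperty.Over.w (f' ≫ openSubι U O)) trivial
  have hl : l ≫ openSubι U (N x) = f' ≫ openSubι U O :=
    MorphismProperty.Over.Hom.ext (@IsOpenImmersion.lift_fac _ _ _ (N x).ι _ (oiι (N x)) hr :)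
  have hne : ((N x : Set U.left) ∩ O).Nonempty :=
    ⟨(f' ≫ openSubι U O).left z, (N x).range_ι.le (hr ⟨z, rfl⟩), O.range_ι.le ⟨f'.left z, rfl⟩⟩
  rw [← map_comp', ← hl, map_comp']
  refine (congrArg ((cst (X := X) M).obj.map l.op) (ht x)).trans ?_
  rw [constσ_map, hm x hne Z f' (hr.trans (N x).range_ι.le)]
  simp only [m', if_pos hne]

end Groth.Agent.EtCore45
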