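import Groth.Agent.Unr55.Et.Unit
import Groth.Agent.Unr55.Et.FinitePush

/-!
The base change map on stalks.
-/

set_option autoImplicit false
set_option backward.isDefEq.respectTransparency.types false
universe u

open CategoryTheory CategoryTheory.Limits AlgebraicGeometry Opposite
open Groth.Agent.Unr55.EtSh

namespace Groth.Agent.EtCore45

variable {X Y X' Y' : Scheme.{u}} (f : X ⟶ Y) (g : Y' ⟶ Y) (f' : X' ⟶ Y') (g' : X' ⟶ X)
  (w : g' ≫ f = f' ≫ g)

/-- Comparison of iterated base changes. -/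
noncomputable def bcCmp (V : Y.Etale) :
    (EtCoh.bc f').obj ((EtCoh.bc g).obj V) ⟶ (EtCoh.bc g').obj ((EtCoh.bc f).obj V) :=
  (MorphismProperty.Over.pullbackComp (P := EtCoh.etaleMP) (Q := ⊤) f' g).inv.app V ≫
    (MorphismProperty.Over.pullbackCongr (P := EtCoh.etaleMP) (Q := ⊤) w).inv.app V ≫
    (MorphismProperty.Over.pullbackComp (P := EtCoh.etaleMP) (Q := ⊤) g' f).hom.app V

theorem bcCmp_fst (V : Y.Etale) :
    (bcCmp f g f' g' w V).left ≫ pullback.fst (pullback.snd V.hom f) g' ≫ pullback.fst V.hom f =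
      pullback.fst (pullback.snd V.hom g) f' ≫ pullback.fst V.hom g := by
  have e1 := MorphismProperty.Over.pullbackComp_left_fst_fst (P := EtCoh.etaleMP) (Q := ⊤) g' f V
  have e2 := MorphismProperty.Over.pullbackComp_left_fst_fst (P := EtCoh.etaleMP) (Q := ⊤) f' g V
  have e3 := MorphismProperty.Over.pullbackCongr_hom_app_left_fst (P := EtCoh.etaleMP) (Q := ⊤) w V
  have e2' : ((MorphismProperty.Over.pullbackComp (P := EtCoh.etaleMP) (Q := ⊤) f' g).inv.app V).left ≫
      pullback.fst V.hom (f' ≫ g) = pullback.fst (pullback.snd V.hom g) f' ≫ pullback.fst V.hom g := by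
    rw [← e2, ← Category.assoc]
    erw [← MorphismProperty.Comma.comp_left, Iso.inv_hom_id_app]
    exact Category.id_comp _
  have e3' : ((MorphismProperty.Over.pullbackCongr (P := EtCoh.etaleMP) (Q := ⊤) w).inv.app V).left ≫
      pullback.fst V.hom (g' ≫ f) = pullback.fst V.hom (f' ≫ g) := by
    rw [← e3, ← Category.assoc]
    erw [← MorphismProperty.Comma.comp_left, Iso.inv_hom_id_app]
    exact Category.id_comp _
  simp only [bcCmp, MorphismProperty.Comma.comp_left, Category.assoc]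
  exact ((congrArg (fun q => _ ≫ _ ≫ q) e1).trans (congrArg (fun q => _ ≫ q) e3')).trans e2'

theorem unit_bc0_app (F : EtCoh.Ab X) (V : Y.Etale) (σ : EtCoh.sect F ((EtCoh.bc f).obj V)) :
    (EtCoh.baseChange0 f g f' g' w F).hom.app (op ((EtCoh.bc g).obj V))
        (((EtCoh.pullPushAdj g).unit.app ((EtCoh.push f).obj F)).hom.app (op V) σ) =
      ((EtCoh.pull g').obj F).obj.map (bcCmp f g f' g' w V).op
        (((EtCoh.pullPushAdj g').unit.app F).hom.app (op ((EtCoh.bc f).obj V)) σ) := by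
  have h : (EtCoh.pullPushAdj g).unit.app ((EtCoh.push f).obj F) ≫
      (EtCoh.push g).map (EtCoh.baseChange0 f g f' g' w F) =
        ((EtCoh.push f).map ((EtCoh.pullPushAdj g').unit.app F) ≫ (EtCoh.pushComp f g').hom.app _ ≫
          (EtCoh.pushCongr w).hom.app _ ≫ (EtCoh.pushComp g f').inv.app _) :=
    ((EtCoh.pullPushAdj g).homEquiv_unit _ _ _).symm.trans (Equiv.apply_symm_apply _ _)
  refine (ConcreteCategory.congr_hom (congrArg (fun k => k.hom.app (op V)) h) σ).trans ?_
  simp only [bcCmp, EtCoh.pushComp, EtCoh.pushCongr, op_comp, Functor.map_comp]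
  rfl

/-- The base change map commutes with the maps to the stalks at points above. -/
theorem pushMapAt_bc0 (F : EtCoh.Ab X) {Ω : Type u} [Field Ω] [IsSepClosed Ω]
    (η : Spec (CommRingCat.of Ω) ⟶ Y') (ξ' : Spec (CommRingCat.of Ω) ⟶ X') (h' : ξ' ≫ f' = η)
    (h : (ξ' ≫ g') ≫ f = η ≫ g)
    (a : ((EtCoh.stalk (η ≫ g)).obj ((EtCoh.push f).obj F) : AddCommGrpCat.{u + 1})) :
    pushMapAt f' h' ((EtCoh.pull g').obj F)
        ((EtCoh.stalk η).map (EtCoh.baseChange0 f g f' g' w F) (theta g η ((EtCoh.push f).obj F) a)) =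
      theta g' ξ' F (pushMapAt f h F a) := by
  obtain ⟨V, s, σ, rfl⟩ := exists_germ_eq (η ≫ g) ((EtCoh.push f).obj F) a
  rw [theta_germ, stalk_map_germ, pushMapAt_germ, pushMapAt_germ, theta_germ, unit_bc0_app, germ_map]
  congr 1
  refine congrArg (fun p => germ ξ' ((EtCoh.pull g').obj F) p) (hom_ext _ ?_)
  refine pullback.hom_ext (pullback.hom_ext ?_ ?_) ?_
  · change ((hom ξ' _ ≫ (bcCmp f g f' g' w V).left) ≫ pullback.fst _ g') ≫ pullback.fst V.hom f = _
    rw [Category.assoc, Category.assoc]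
    refine (congrArg (fun q => hom ξ' _ ≫ q) (bcCmp_fst f g f' g' w V)).trans ?_
    erw [pullback.lift_fst_assoc, pullback.lift_fst, pullback.lift_fst, pullback.lift_fst]
  · change ((hom ξ' _ ≫ (bcCmp f g f' g' w V).left) ≫ pullback.fst _ g') ≫ pullback.snd V.hom f = _
    rw [Category.assoc]
    erw [pullback.condition]
    erw [pullback.lift_fst, pullback.lift_snd]
    refine (Category.assoc _ _ _).symm.trans (congrArg (· ≫ g') ?_)
    refine (Category.assoc _ _ _).trans ?_
    erw [Over.w (bcCmp f g f' g' w V).hom, pullback.lift_snd]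
  · change (hom ξ' _ ≫ (bcCmp f g f' g' w V).left) ≫ pullback.snd _ g' = _
    rw [Category.assoc]
    erw [Over.w (bcCmp f g f' g' w V).hom, pullback.lift_snd, pullback.lift_snd]

end Groth.Agent.EtCore45
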