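import Groth.Agent.EtCore45.MVExt

/-!
The Mayer-Vietoris sequence of etale cohomology.
-/

set_option autoImplicit false
set_option backward.isDefEq.respectTransparency.types false
universe u

open CategoryTheory CategoryTheory.Limits CategoryTheory.Abelian AlgebraicGeometry Opposite
open Groth.Agent.Unr55.EtSh

namespace Groth.Agent.EtCore45.MV

/-- An open subscheme as an object of the small etale site. -/
noncomputable abbrev obj {X : Scheme.{u}} (U : X.Opens) : X.Etale :=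
  (EtShriek.compEtale U.ι).obj (EtCoh.top (U : Scheme.{u}))

theorem mono_cMap {U X : Scheme.{u}} (j : U ⟶ X) [IsOpenImmersion j] [Etale j] : Mono (cMap j) := by
  have e : cMap j = (EtShriek.extZero j).map ((EtCore.pullConst j ℤ).inv ≫ (pullRestrIso j).hom.app _) ≫
      (EtShriek.extZeroAdj j).counit.app _ := by
    refine ((shAdj j).homEquiv _ _).injective ?_
    rw [cMap, Equiv.apply_symm_apply, shAdj, Adjunction.homEquiv_ofNatIsoRight_apply]
    erw [Adjunction.homEquiv_unit]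
    simp
  have h1 : Mono ((EtShriek.extZeroAdj j).counit.app (EtCoh.const X ℤ)) := mono_of_stalks _ fun K _ _ ξ => by
    by_cases h : ξ default ∈ Set.range j
    · exact (counit_extZero_stalk_bijective j ξ h _).1
    · exact fun a b _ => (AddCommGrpCat.subsingleton_of_isZero
        (isZero_extZero_stalk (j := j) (ξ := ξ) _ (isEmpty_above j ξ h))).elim a b
  rw [e]
  exact mono_comp _ _

theorem exists_biprod_class {C : Type*} [Category C] [Abelian C] [HasExt.{u + 1} C] {A B F : C} {n : ℕ}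
    (a : Ext A F n) (b : Ext B F n) :
    ∃ x : Ext (A ⊞ B) F n, (Ext.mk₀ biprod.inl).comp x (zero_add n) = a ∧
      (Ext.mk₀ biprod.inr).comp x (zero_add n) = b :=
  ⟨(Ext.mk₀ biprod.fst).comp a (zero_add n) + (Ext.mk₀ biprod.snd).comp b (zero_add n), by simp, by simp⟩

variable {X : Scheme.{u}} (U V : X.Opens)

theorem instOI (U' : X.Opens) : IsOpenImmersion U'.ι := inferInstance

/-- The inclusion as a morphism of the small etale site. -/
noncomputable def objHom {U' V' : X.Opens} (h : U' ≤ V') : obj U' ⟶ obj V' :=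
  MorphismProperty.Over.homMk (X.homOfLE h) (by
    change X.homOfLE h ≫ (𝟙 _ ≫ V'.ι) = 𝟙 _ ≫ U'.ι
    rw [Category.id_comp, Category.id_comp, X.homOfLE_ι]) trivial

/-- The map to the base. -/
noncomputable def objTop (U' : X.Opens) : obj U' ⟶ EtCoh.top X := (EtCore.topIsTerminal X).from _

variable (hUV : U ⊔ V = ⊤)

include hUV in
theorem cover_mem : Sieve.ofArrows _ (fun b : Bool => objTop (if b then U else V)) ∈
    X.smallEtaleTopology (EtCoh.top X) := mem_topology fun x => by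
  have hx : (x : X) ∈ ((U ⊔ V : X.Opens) : Set X) := hUV ▸ trivial
  have key : ∀ (b : Bool) (hb : (x : X) ∈ (if b then U else V)),
      ∃ (Z : X.Etale) (g : Z ⟶ EtCoh.top X) (v : Z.left),
        Sieve.ofArrows _ (fun b : Bool => objTop (if b then U else V)) g ∧ g.left v = x := by
    intro b hb
    let v : ((if b then U else V : X.Opens) : Scheme.{u}) := ⟨x, hb⟩
    refine ⟨_, objTop _, v, Sieve.ofArrows_mk _ _ b, ?_⟩
    have := MorphismProperty.Over.w (objTop (if b then U else V))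
    exact congrArg (fun k : _ ⟶ X => k.base v)
      (((Category.comp_id _).symm.trans this).trans (Category.id_comp _))
  rcases hx with hx | hx
  · exact key true hx
  · exact key false hx

include hUV in
theorem exists_glue (A : EtCoh.Ab X) (α : EtCoh.sect A (obj U)) (β : EtCoh.sect A (obj V))
    (h : A.obj.map (objHom (inf_le_left : U ⊓ V ≤ U)).op α = A.obj.map (objHom (inf_le_right : U ⊓ V ≤ V)).op β) :
    ∃! s : EtCoh.sect A (EtCoh.top X), A.obj.map (objTop U).op s = α ∧ A.obj.map (objTop V).op s = β := by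
  have hF := isSheafFor_forget A (cover_mem U V hUV)
  rw [Sieve.ofArrows, ← Presieve.isSheafFor_iff_generate, Presieve.isSheafFor_arrows_iff] at hF
  let σ : ∀ b : Bool, EtCoh.sect A (obj (if b then U else V)) := fun b => match b with
    | true => α
    | false => β
  have : ∀ U' : X.Opens, ∀ Z : X.Etale, Subsingleton (Z ⟶ obj U') := fun U' Z => subsingleton_hom_compTop U'.ι Z
  have cross : ∀ (Z : X.Etale) (ga : Z ⟶ obj U) (gb : Z ⟶ obj V),
      A.obj.map ga.op α = A.obj.map gb.op β := by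
    intro Z ga gb
    have ha := MorphismProperty.Over.w ga
    have hb := MorphismProperty.Over.w gb
    have e : ∀ U' : X.Opens, (obj U').hom = U'.ι := fun U' => Category.id_comp _
    rw [e] at ha hb
    have hr : Set.range Z.hom ⊆ Set.range (U ⊓ V).ι := by
      rintro _ ⟨z, rfl⟩
      rw [Scheme.Opens.range_ι]
      exact ⟨(congrArg (fun k : Z.left ⟶ X => k z) ha) ▸ (U.range_ι.le ⟨_, rfl⟩),
        (congrArg (fun k : Z.left ⟶ X => k z) hb) ▸ (V.range_ι.le ⟨_, rfl⟩)⟩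
    have := instOI (U ⊓ V)
    let l : Z ⟶ obj (U ⊓ V) := MorphismProperty.Over.homMk (@IsOpenImmersion.lift _ _ _ (U ⊓ V).ι Z.hom (instOI _) hr)
      (by rw [e]; exact @IsOpenImmersion.lift_fac _ _ _ _ _ (instOI _) hr) trivial
    rw [Subsingleton.elim ga (l ≫ objHom inf_le_left), Subsingleton.elim gb (l ≫ objHom inf_le_right),
      ← map_map, ← map_map, h]
  obtain ⟨s, hs, hu⟩ := hF σ fun a b Z ga gb _ => by
    match a, b, ga, gb with
    | true, true, ga, gb => rw [Subsingleton.elim ga gb]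
    | false, false, ga, gb => rw [Subsingleton.elim ga gb]
    | true, false, ga, gb => exact cross Z ga gb
    | false, true, ga, gb => exact (cross Z gb ga).symm
  exact ⟨s, ⟨hs true, hs false⟩, fun t ht => hu t fun b => by cases b <;> [exact ht.2; exact ht.1]⟩

/-- `P_{U ∩ V} → P_U`. -/
noncomputable abbrev aU : P (U ⊓ V).ι ⟶ P U.ι :=
  aMap U.ι (X.homOfLE inf_le_left) (U ⊓ V).ι (X.homOfLE_ι inf_le_left)

/-- `P_{U ∩ V} → P_V`. -/
noncomputable abbrev aV : P (U ⊓ V).ι ⟶ P V.ι :=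
  aMap V.ι (X.homOfLE inf_le_right) (U ⊓ V).ι (X.homOfLE_ι inf_le_right)

theorem aU_cMap : aU U V ≫ cMap U.ι = cMap (U ⊓ V).ι := by
  apply (S_bijective (U ⊓ V).ι _).1
  have h : cMap (U ⊓ V).ι = cMap (U ⊓ V).ι ≫ 𝟙 _ := (Category.comp_id _).symm
  simp only [S_aMap _ _ _ _ _ (objHom inf_le_left), S_cMap U.ι (𝟙 _) (objTop U) |> fun e => (Category.comp_id (cMap U.ι)) ▸ e]
  rw [h, S_cMap _ _ (objTop _), map_map]
  exact congrArg (fun k => (EtCoh.const X ℤ).obj.map (Quiver.Hom.op k) _) ((EtCore.topIsTerminal X).hom_ext _ _)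

theorem aV_cMap : aV U V ≫ cMap V.ι = cMap (U ⊓ V).ι := by
  apply (S_bijective (U ⊓ V).ι _).1
  have h : cMap (U ⊓ V).ι = cMap (U ⊓ V).ι ≫ 𝟙 _ := (Category.comp_id _).symm
  simp only [S_aMap _ _ _ _ _ (objHom inf_le_right), S_cMap V.ι (𝟙 _) (objTop V) |> fun e => (Category.comp_id (cMap V.ι)) ▸ e]
  rw [h, S_cMap _ _ (objTop _), map_map]
  exact congrArg (fun k => (EtCoh.const X ℤ).obj.map (Quiver.Hom.op k) _) ((EtCore.topIsTerminal X).hom_ext _ _)

/-- The short complex `P_{U ∩ V} → P_U ⊕ P_V → ℤ_X`. -/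
noncomputable def seq : ShortComplex (EtCoh.Ab X) :=
  ShortComplex.mk (biprod.lift (aU U V) (-aV U V)) (biprod.desc (cMap U.ι) (cMap V.ι))
    (by rw [biprod.lift_desc, Preadditive.neg_comp, aU_cMap, aV_cMap, add_neg_cancel])

include hUV in
theorem existsUnique_desc {A : EtCoh.Ab X} (α : P U.ι ⟶ A) (β : P V.ι ⟶ A) (h : aU U V ≫ α = aV U V ≫ β) :
    ∃! φ : EtCoh.const X ℤ ⟶ A, cMap U.ι ≫ φ = α ∧ cMap V.ι ≫ φ = β := by
  have h' := congrArg (S (U ⊓ V).ι) h
  rw [S_aMap _ _ _ _ _ (objHom inf_le_left), S_aMap _ _ _ _ _ (objHom inf_le_right)] at h'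
  obtain ⟨s, ⟨hs₁, hs₂⟩, hu⟩ := exists_glue U V hUV A _ _ h'
  obtain ⟨φ, rfl⟩ := (oneSect_bijective A).2 s
  refine ⟨φ, ⟨(S_bijective U.ι A).1 ((S_cMap _ φ (objTop U)).trans hs₁),
    (S_bijective V.ι A).1 ((S_cMap _ φ (objTop V)).trans hs₂)⟩, fun ψ hψ => (oneSect_bijective A).1 ?_⟩
  exact hu _ ⟨(S_cMap _ ψ (objTop U)).symm.trans (congrArg (S U.ι) hψ.1),
    (S_cMap _ ψ (objTop V)).symm.trans (congrArg (S V.ι) hψ.2)⟩

include hUV in
theorem seq_shortExact : (seq U V).ShortExact := by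
  have hm : Mono (seq U V).f := by
    have h1 := mono_cMap (U ⊓ V).ι
    rw [← aU_cMap] at h1
    have h2 : Mono (aU U V) := @mono_of_mono _ _ _ _ _ (aU U V) (cMap U.ι) h1
    exact @mono_of_mono_fac _ _ _ _ _ _ _ _ h2 (biprod.lift_fst (aU U V) (-aV U V))
  have he : Epi (seq U V).g := by
    refine Preadditive.epi_of_cancel_zero _ fun {A} φ hφ => ?_
    have h1 : cMap U.ι ≫ φ = 0 := by
      have := congrArg (fun k => biprod.inl ≫ k) hφ
      simpa [seq] using this.trans comp_zero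
    have h2 : cMap V.ι ≫ φ = 0 := by
      have := congrArg (fun k => biprod.inr ≫ k) hφ
      simpa [seq] using this.trans comp_zero
    exact (existsUnique_desc U V hUV 0 0 (by simp)).unique ⟨h1, h2⟩ ⟨comp_zero, comp_zero⟩
  refine ShortComplex.ShortExact.mk' ?_ hm he
  refine ShortComplex.exact_of_g_is_cokernel _ (CokernelCofork.IsColimit.ofπ' _ _ fun {A} k hk => ?_)
  have hk' : aU U V ≫ (biprod.inl ≫ k) = aV U V ≫ (biprod.inr ≫ k) := by
    change biprod.lift (aU U V) (-aV U V) ≫ k = 0 at hk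
    rw [biprod.lift_eq, Preadditive.add_comp] at hk
    simp only [Category.assoc, Preadditive.neg_comp, ← sub_eq_add_neg, sub_eq_zero] at hk
    exact hk
  refine ⟨(existsUnique_desc U V hUV _ _ hk').choose, ?_⟩
  obtain ⟨h1, h2⟩ := (existsUnique_desc U V hUV _ _ hk').choose_spec.1
  exact biprod.hom_ext' _ _ (by simpa [seq] using h1) (by simpa [seq] using h2)

include hUV in
theorem mayerVietoris (F : EtCoh.Ab X)
    [PreservesFiniteLimits (EtCoh.pull U.ι)] [PreservesFiniteLimits (EtCoh.pull V.ι)]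
    [PreservesFiniteLimits (EtCoh.pull (X.homOfLE (inf_le_left : U ⊓ V ≤ U)))]
    [PreservesFiniteLimits (EtCoh.pull (X.homOfLE (inf_le_right : U ⊓ V ≤ V)))] :
    ∃ δ : ∀ n : ℕ, EtCoh.H ↑(U ⊓ V) ((EtCoh.pull (U ⊓ V).ι).obj F) n →+ EtCoh.H X F (n + 1),
      (AddMonoidHom.prod (EtCore.Hpull U.ι F 0) (EtCore.Hpull V.ι F 0)).ker = ⊥ ∧
      (∀ n : ℕ, (AddMonoidHom.prod (EtCore.Hpull U.ι F (n + 1)) (EtCore.Hpull V.ι F (n + 1))).ker = (δ n).range) ∧
      (∀ n : ℕ, (((EtCore.HpullVia (X.homOfLE (inf_le_left : U ⊓ V ≤ U)) U.ι (U ⊓ V).ι (X.homOfLE_ι inf_le_left) F n)).comp (AddMonoidHom.fst _ _) - ((EtCore.HpullVia (X.homOfLE (inf_le_right : U ⊓ V ≤ V)) V.ι (U ⊓ V).ι (X.homOfLE_ι inf_le_right) F n)).comp (AddMonoidHom.snd _ _)).ker =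
        (AddMonoidHom.prod (EtCore.Hpull U.ι F n) (EtCore.Hpull V.ι F n)).range) ∧
      (∀ n : ℕ, (δ n).ker = (((EtCore.HpullVia (X.homOfLE (inf_le_left : U ⊓ V ≤ U)) U.ι (U ⊓ V).ι (X.homOfLE_ι inf_le_left) F n)).comp (AddMonoidHom.fst _ _) - ((EtCore.HpullVia (X.homOfLE (inf_le_right : U ⊓ V ≤ V)) V.ι (U ⊓ V).ι (X.homOfLE_ι inf_le_right) F n)).comp (AddMonoidHom.snd _ _)).range) := by
  have hS := seq_shortExact U V hUV
  let T := fun n => AddEquiv.ofBijective (tr (U ⊓ V).ι F n) (tr_bijective _ F n)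
  let δ : ∀ n : ℕ, EtCoh.H ↑(U ⊓ V) ((EtCoh.pull (U ⊓ V).ι).obj F) n →+ EtCoh.H X F (n + 1) := fun n =>
    (hS.extClass.precomp F (Nat.add_comm 1 n)).comp (T n).symm.toAddMonoidHom
  let res := fun (n : ℕ) (e : EtCoh.H X F n) => (Ext.mk₀ (seq U V).g).comp e (zero_add n)
  have hU : ∀ n e, tr U.ι F n ((Ext.mk₀ biprod.inl).comp (res n e) (zero_add n)) = EtCore.Hpull U.ι F n e := by
    intro n e
    rw [← tr_cMap]
    exact congrArg (tr U.ι F n) ((Ext.mk₀_comp_mk₀_assoc _ _ _).trans (by simp [seq]))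
  have hV : ∀ n e, tr V.ι F n ((Ext.mk₀ biprod.inr).comp (res n e) (zero_add n)) = EtCore.Hpull V.ι F n e := by
    intro n e
    rw [← tr_cMap]
    exact congrArg (tr V.ι F n) ((Ext.mk₀_comp_mk₀_assoc _ _ _).trans (by simp [seq]))
  have hres : ∀ n e, EtCore.Hpull U.ι F n e = 0 → EtCore.Hpull V.ι F n e = 0 → res n e = 0 := by
    intro n e h1 h2
    rw [← hU] at h1
    rw [← hV] at h2
    refine Ext.biprod_ext ?_ ?_
    · exact ((tr_bijective U.ι F n).1 (h1.trans (map_zero _).symm)).trans (Ext.comp_zero _ _ _ _ _).symm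
    · exact ((tr_bijective V.ι F n).1 (h2.trans (map_zero _).symm)).trans (Ext.comp_zero _ _ _ _ _).symm
  let d := fun n : ℕ => ((EtCore.HpullVia (X.homOfLE (inf_le_left : U ⊓ V ≤ U)) U.ι (U ⊓ V).ι (X.homOfLE_ι inf_le_left) F n)).comp (AddMonoidHom.fst _ _) - ((EtCore.HpullVia (X.homOfLE (inf_le_right : U ⊓ V ≤ V)) V.ι (U ⊓ V).ι (X.homOfLE_ι inf_le_right) F n)).comp (AddMonoidHom.snd _ _)
  have hd : ∀ n (x : Ext (seq U V).X₂ F n),
      d n (tr U.ι F n ((Ext.mk₀ biprod.inl).comp x (zero_add n)), tr V.ι F n ((Ext.mk₀ biprod.inr).comp x (zero_add n))) =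
        tr (U ⊓ V).ι F n ((Ext.mk₀ (seq U V).f).comp x (zero_add n)) := by
    intro n x
    change EtCore.HpullVia _ _ _ _ F n (tr U.ι F n _) - EtCore.HpullVia _ _ _ _ F n (tr V.ι F n _) = _
    rw [HpullVia_tr, HpullVia_tr, ← map_sub, Ext.mk₀_comp_mk₀_assoc, Ext.mk₀_comp_mk₀_assoc, sub_eq_add_neg,
      ← Ext.neg_comp, ← Ext.add_comp, ← Ext.mk₀_neg, ← Ext.mk₀_add, ← Preadditive.neg_comp]
    simp [seq, biprod.lift_eq]
  have hsurj : ∀ n (p : EtCoh.H ↑U ((EtCoh.pull U.ι).obj F) n × EtCoh.H ↑V ((EtCoh.pull V.ι).obj F) n),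
      ∃ x : Ext (seq U V).X₂ F n, (tr U.ι F n ((Ext.mk₀ biprod.inl).comp x (zero_add n)),
        tr V.ι F n ((Ext.mk₀ biprod.inr).comp x (zero_add n))) = p := by
    intro n p
    obtain ⟨a, ha⟩ := (tr_bijective U.ι F n).2 p.1
    obtain ⟨b, hb⟩ := (tr_bijective V.ι F n).2 p.2
    obtain ⟨x, hx1, hx2⟩ := exists_biprod_class a b
    exact ⟨x, Prod.ext ((congrArg (tr U.ι F n) hx1).trans ha) ((congrArg (tr V.ι F n) hx2).trans hb)⟩
  refine ⟨δ, ?_, fun n => ?_, fun n => ?_, fun n => ?_⟩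
  · refine (AddSubgroup.eq_bot_iff_forall _).2 fun e he => ?_
    obtain ⟨h1, h2⟩ := Prod.ext_iff.1 (AddMonoidHom.mem_ker.1 he)
    have h := hres 0 e h1 h2
    obtain ⟨φ, rfl⟩ := (Ext.mk₀_bijective _ F).2 e
    rw [show res 0 (Ext.mk₀ φ) = Ext.mk₀ ((seq U V).g ≫ φ) from Ext.mk₀_comp_mk₀ _ _] at h
    have := hS.epi_g
    rw [(cancel_epi (seq U V).g).1 (((Ext.mk₀_bijective _ F).1 (h.trans (Ext.mk₀_zero _ _).symm)).trans comp_zero.symm)]
    exact Ext.mk₀_zero _ _
  · ext e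
    constructor
    · intro he
      obtain ⟨h1, h2⟩ := Prod.ext_iff.1 (AddMonoidHom.mem_ker.1 he)
      obtain ⟨x, hx⟩ := Ext.contravariant_sequence_exact₃ hS F e (hres _ e h1 h2) (Nat.add_comm 1 n)
      exact ⟨T n x, (congrArg (fun z => hS.extClass.comp z (Nat.add_comm 1 n)) ((T n).symm_apply_apply x)).trans hx⟩
    · rintro ⟨y, rfl⟩
      have h0 : res (n + 1) (δ n y) = 0 := by
        change (Ext.mk₀ (seq U V).g).comp (hS.extClass.comp ((T n).symm y) (Nat.add_comm 1 n)) (zero_add (n + 1)) = 0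
        rw [← Ext.comp_assoc _ _ _ (zero_add 1) (Nat.add_comm 1 n) (by omega), hS.comp_extClass, Ext.zero_comp]
      exact AddMonoidHom.mem_ker.2 (Prod.ext ((hU _ _).symm.trans (by rw [h0]; exact (congrArg _ (Ext.comp_zero _ _ _ _ _)).trans (map_zero _)))
        ((hV _ _).symm.trans (by rw [h0]; exact (congrArg _ (Ext.comp_zero _ _ _ _ _)).trans (map_zero _))))
  · ext p
    constructor
    · intro hp
      obtain ⟨x, rfl⟩ := hsurj n p
      have h0 : (Ext.mk₀ (seq U V).f).comp x (zero_add n) = 0 :=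
        (tr_bijective (U ⊓ V).ι F n).1 (((hd n x).symm.trans (AddMonoidHom.mem_ker.1 hp)).trans (map_zero _).symm)
      obtain ⟨e, rfl⟩ := Ext.contravariant_sequence_exact₂ hS F x h0
      exact ⟨e, Prod.ext (hU n e).symm (hV n e).symm⟩
    · rintro ⟨e, rfl⟩
      refine AddMonoidHom.mem_ker.2 ?_
      change d n (EtCore.Hpull U.ι F n e, EtCore.Hpull V.ι F n e) = 0
      rw [← hU, ← hV, hd, Ext.mk₀_comp_mk₀_assoc, (seq U V).zero, Ext.mk₀_zero, Ext.zero_comp]
      exact map_zero _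
  · ext y
    constructor
    · intro hy
      obtain ⟨x, hx⟩ := Ext.contravariant_sequence_exact₁ hS F ((T n).symm y) (Nat.add_comm 1 n)
        (AddMonoidHom.mem_ker.1 hy)
      exact ⟨_, (hd n x).trans ((congrArg (tr _ F n) hx).trans ((T n).apply_symm_apply y))⟩
    · rintro ⟨p, rfl⟩
      obtain ⟨x, rfl⟩ := hsurj n p
      refine AddMonoidHom.mem_ker.2 ?_
      change hS.extClass.comp ((T n).symm (d n _)) (Nat.add_comm 1 n) = 0
      rw [hd]
      rw [show (T n).symm (tr (U ⊓ V).ι F n ((Ext.mk₀ (seq U V).f).comp x (zero_add n))) = _ from (T n).symm_apply_apply _]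
      exact hS.extClass_comp_assoc x

end Groth.Agent.EtCore45.MV
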