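import Groth.Agent.SchBasics.Spread
import Mathlib.AlgebraicGeometry.Morphisms.FormallyUnramified
import Mathlib.AlgebraicGeometry.Morphisms.Etale
import Mathlib.AlgebraicGeometry.ResidueField
import Mathlib.FieldTheory.IsAlgClosed.Basic
import Mathlib.RingTheory.Unramified.LocalRing

/-!
Etale morphisms to absolutely flat schemes with algebraically closed residue fields have local sections.
-/

set_option autoImplicit false
set_option backward.isDefEq.respectTransparency.types false
universe u

open CategoryTheory AlgebraicGeometry IsLocalRing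

namespace Groth.Agent.EtCore45

theorem algebraMap_bijective_of_formallyUnramified {R S : Type u} [CommRing R] [CommRing S] [Algebra R S]
    [IsLocalRing R] [IsLocalRing S] [IsLocalHom (algebraMap R S)] [Algebra.EssFiniteType R S]
    [Algebra.FormallyUnramified R S] (hR : IsField R) (hcl : IsAlgClosed (ResidueField R)) :
    Function.Bijective (algebraMap R S) := by
  have hm : maximalIdeal S = ⊥ := by
    rw [← Algebra.FormallyUnramified.map_maximalIdeal (R := R) (S := S),
      IsLocalRing.isField_iff_maximalIdeal_eq.1 hR, Ideal.map_bot]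
  have hb : Function.Bijective (algebraMap (ResidueField R) (ResidueField S)) :=
    IsAlgClosed.algebraMap_bijective_of_isIntegral
  have hR' : Function.Bijective (residue R) :=
    ⟨by rw [RingHom.injective_iff_ker_eq_bot, ker_residue, IsLocalRing.isField_iff_maximalIdeal_eq.1 hR],
      residue_surjective⟩
  have hS' : Function.Bijective (residue S) :=
    ⟨by rw [RingHom.injective_iff_ker_eq_bot, ker_residue, hm], residue_surjective⟩
  refine (Function.Bijective.of_comp_iff' hS' _).1 ?_
  exact hb.comp hR'

theorem exists_section_of_absFlat (X Y : Scheme.{u}) (hX : ∀ x : X, IsField (X.presheaf.stalk x))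
    (hX' : ∀ x : X, IsAlgClosed (X.residueField x)) (f : Y ⟶ X) [Etale f] (y : Y) :
    ∃ (V : X.Opens) (s : (V : Scheme.{u}) ⟶ Y), f.base y ∈ V ∧ s ≫ f = V.ι ∧ y ∈ Set.range s.base := by
  have : IsIso (f.stalkMap y) := by
    rw [ConcreteCategory.isIso_iff_bijective]
    algebraize [(f.stalkMap y).hom]
    have : IsLocalHom (algebraMap (X.presheaf.stalk (f y)) (Y.presheaf.stalk y)) :=
      inferInstanceAs (IsLocalHom (f.stalkMap y).hom)
    have : Algebra.EssFiniteType (X.presheaf.stalk (f y)) (Y.presheaf.stalk y) := by
      rw [← RingHom.essFiniteType_algebraMap, RingHom.algebraMap_toAlgebra]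
      exact LocallyOfFiniteType.stalkMap f y
    have : Algebra.FormallyUnramified (X.presheaf.stalk (f y)) (Y.presheaf.stalk y) := by
      rw [← RingHom.formallyUnramified_algebraMap, RingHom.algebraMap_toAlgebra]
      exact FormallyUnramified.stalkMap f y
    exact algebraMap_bijective_of_formallyUnramified (hX (f y)) (hX' (f y))
  obtain ⟨V, hV, s, hs, hsf⟩ := SchBasics.spread_out (𝟙 X) f (x := f y) (y := y) rfl (inv (f.stalkMap y))
    (by rw [IsIso.hom_inv_id]; simp)
  refine ⟨V, s, hV, hsf.trans (Category.comp_id _), ?_⟩
  have h := congr($hs (closedPoint _))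
  rw [Scheme.Hom.comp_apply, Scheme.Hom.comp_apply] at h
  have e : Spec.map (inv (f.stalkMap y)) (closedPoint _) = closedPoint _ :=
    comap_closedPoint (inv (f.stalkMap y)).hom
  rw [e, Scheme.fromSpecStalk_closedPoint] at h
  exact ⟨_, h.symm⟩

end Groth.Agent.EtCore45
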