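import Mathlib.AlgebraicGeometry.ResidueField
import Mathlib.AlgebraicGeometry.Limits
import Mathlib.AlgebraicGeometry.Morphisms.QuasiCompact
import Mathlib.AlgebraicGeometry.Morphisms.QuasiSeparated
import Mathlib.FieldTheory.Isaacs
import Mathlib.FieldTheory.IsAlgClosed.AlgebraicClosure
import Mathlib.RingTheory.Polynomial.ScaleRoots
import Mathlib.RingTheory.LocalRing.ResidueField.Ideal
import Mathlib.AlgebraicGeometry.Morphisms.UniversallyClosed

/-!
A quasi-compact surjection from an affine scheme all of whose residue fields are algebraic closures.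
-/

set_option autoImplicit false
set_option backward.isDefEq.respectTransparency.types false
universe u

open CategoryTheory CategoryTheory.Limits AlgebraicGeometry Polynomial

namespace Groth.Agent.EtCore45

variable (A : Type u) [CommRing A]

/-- The monic polynomials. -/
abbrev Monics : Type u := {p : A[X] // p.Monic ∧ p.natDegree ≠ 0}

/-- The ideal adjoining a root of every monic polynomial. -/
noncomputable abbrev rootIdeal : Ideal (MvPolynomial (Monics A) A) :=
  Ideal.span (Set.range fun p : Monics A => aeval (MvPolynomial.X p : MvPolynomial (Monics A) A) p.1)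

/-- A root of every monic polynomial adjoined. -/
abbrev RootAlg : Type u := MvPolynomial (Monics A) A ⧸ rootIdeal A

theorem rootAlg_root (p : Monics A) :
    aeval (Ideal.Quotient.mkₐ A (rootIdeal A) (MvPolynomial.X p)) p.1 = 0 := by
  rw [aeval_algHom_apply, Ideal.Quotient.mkₐ_eq_mk, Ideal.Quotient.eq_zero_iff_mem]
  exact Ideal.subset_span ⟨p, rfl⟩

theorem rootAlg_isIntegral : Algebra.IsIntegral A (RootAlg A) := by
  refine ⟨fun b => ?_⟩
  obtain ⟨b, rfl⟩ := Ideal.Quotient.mkₐ_surjective A (rootIdeal A) b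
  induction b using MvPolynomial.induction_on with
  | C a => exact (AlgHom.commutes (Ideal.Quotient.mkₐ A (rootIdeal A)) a).symm ▸ isIntegral_algebraMap
  | add p q hp hq => rw [map_add]; exact hp.add hq
  | mul_X p i hp => rw [map_mul]; exact hp.mul ⟨i.1, i.2.1, rootAlg_root A i⟩

theorem rootAlg_surjective :
    Function.Surjective (PrimeSpectrum.comap (algebraMap A (RootAlg A))) := by
  classical
  intro p
  let L := AlgebraicClosure p.asIdeal.ResidueField
  let a : A →+* L := (algebraMap p.asIdeal.ResidueField L).comp (algebraMap A p.asIdeal.ResidueField)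
  have hr : ∀ q : Monics A, ∃ x : L, q.1.eval₂ a x = 0 := fun q => by
    obtain ⟨x, hx⟩ := IsAlgClosed.exists_root (q.1.map a) (by
      rw [degree_eq_natDegree (q.2.1.map a).ne_zero, q.2.1.natDegree_map]
      exact_mod_cast q.2.2)
    exact ⟨x, by rw [eval₂_eq_eval_map]; exact hx⟩
  choose x hx using hr
  let φ : MvPolynomial (Monics A) A →+* L := MvPolynomial.eval₂Hom a x
  have hφ : ∀ y ∈ rootIdeal A, φ y = 0 := fun y hy => by
    refine (RingHom.mem_ker).1 ((Ideal.span_le.2 ?_) hy)
    rintro _ ⟨q, rfl⟩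
    change φ (aeval (MvPolynomial.X q : MvPolynomial (Monics A) A) q.1) = 0
    rw [aeval_def, hom_eval₂]
    have e : φ.comp (algebraMap A (MvPolynomial (Monics A) A)) = a := RingHom.ext fun r => MvPolynomial.eval₂_C _ _ r
    rw [e, show φ (MvPolynomial.X q) = x q from MvPolynomial.eval₂_X _ _ _]
    exact hx q
  let ψ : RootAlg A →+* L := Ideal.Quotient.lift _ φ hφ
  refine ⟨⟨RingHom.ker ψ, RingHom.ker_isPrime _⟩, PrimeSpectrum.ext ?_⟩
  ext r
  change ψ (algebraMap A (RootAlg A) r) = 0 ↔ r ∈ p.asIdeal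
  rw [show ψ (algebraMap A (RootAlg A) r) = a r from MvPolynomial.eval₂_C _ _ r]
  rw [RingHom.comp_apply, map_eq_zero, Ideal.algebraMap_residueField_eq_zero]

variable {A}

/-- An algebraic extension with roots of all monic polynomials over a generating subring. -/
theorem isAlgClosed_of_roots {K L : Type u} [Field K] [Field L] [Algebra K L] [Algebra.IsAlgebraic K L]
    (a : A →+* K) (ha : ∀ x : K, ∃ r s : A, a s ≠ 0 ∧ x = a r / a s)
    (h : ∀ p : A[X], p.Monic → p.natDegree ≠ 0 → ∃ y : L, p.eval₂ ((algebraMap K L).comp a) y = 0) :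
    IsAlgClosed L := by
  classical
  suffices IsAlgClosure K L from IsAlgClosure.isAlgClosed K
  refine IsAlgClosure.of_exists_root fun p hp hirr => ?_
  choose r s hs he using fun i : ℕ => ha (p.coeff i)
  let d : A := ∏ i ∈ Finset.range p.natDegree, s i
  have hd : a d ≠ 0 := by rw [map_prod, Finset.prod_ne_zero_iff]; exact fun i _ => hs i
  let q : K[X] := p.scaleRoots (a d)
  have hq : q ∈ Polynomial.lifts a := by
    rw [lifts_iff_coeff_lifts]
    intro i
    rw [Set.mem_range, coeff_scaleRoots]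
    rcases lt_or_ge i p.natDegree with hi | hi
    · obtain ⟨k, hk⟩ := Nat.exists_eq_add_one.2 (Nat.sub_pos_of_lt hi)
      refine ⟨r i * (∏ j ∈ (Finset.range p.natDegree).erase i, s j) * d ^ k, ?_⟩
      have e : a d = a (s i) * a (∏ j ∈ (Finset.range p.natDegree).erase i, s j) := by
        rw [← map_mul]
        exact congrArg a (Finset.mul_prod_erase _ _ (Finset.mem_range.2 hi)).symm
      rw [hk, pow_succ, map_mul, map_mul, map_pow, he i]
      conv_rhs => arg 2; arg 2; rw [e]
      field_simp [hs i]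
    · rcases hi.lt_or_eq with hi | hi
      · exact ⟨0, by rw [map_zero, coeff_eq_zero_of_natDegree_lt hi, zero_mul]⟩
      · exact ⟨1, by rw [map_one, ← hi, Nat.sub_self, pow_zero, mul_one, hp.coeff_natDegree]⟩
  obtain ⟨P, hP, hPdeg, hPm⟩ := lifts_and_degree_eq_and_monic hq ((monic_scaleRoots_iff _).2 hp)
  have hn : P.natDegree ≠ 0 := by
    rw [natDegree_eq_of_degree_eq hPdeg, natDegree_scaleRoots]
    exact hirr.natDegree_pos.ne'
  obtain ⟨y, hy⟩ := h P hPm hn
  rw [← eval₂_map, hP] at hy
  have hd' : algebraMap K L (a d) ≠ 0 := (_root_.map_ne_zero _).2 hd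
  refine ⟨y / algebraMap K L (a d), ?_⟩
  have e := scaleRoots_eval₂_mul (p := p) (algebraMap K L) (y / algebraMap K L (a d)) (a d)
  rw [mul_div_cancel₀ _ hd', hy] at e
  rw [aeval_def]
  exact (mul_eq_zero.1 e.symm).resolve_left (pow_ne_zero _ hd')

/-- Evaluation of global functions at a point of an affine spectrum. -/
noncomputable def evalAt (R : CommRingCat.{u}) (x : Spec R) : R ⟶ (Spec R).residueField x :=
  (Scheme.ΓSpecIso R).inv ≫ (Spec R).presheaf.germ ⊤ x trivial ≫ (Spec R).residue x

theorem evalAt_fraction (R : CommRingCat.{u}) (x : Spec R) (z : (Spec R).residueField x) :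
    ∃ r s : R, evalAt R x s ≠ 0 ∧ z = evalAt R x r / evalAt R x s := by
  have e : evalAt R x = CommRingCat.ofHom (algebraMap R x.asIdeal.ResidueField) ≫ (Scheme.Spec.residueFieldIso R x).inv :=
    (Scheme.Spec.algebraMap_residueFieldIso_inv R x).symm
  obtain ⟨r, s, hs, hz⟩ := IsFractionRing.div_surjective (R ⧸ x.asIdeal) ((Scheme.Spec.residueFieldIso R x).hom z)
  obtain ⟨r, rfl⟩ := Ideal.Quotient.mk_surjective r
  obtain ⟨s, rfl⟩ := Ideal.Quotient.mk_surjective s
  have k : ∀ t : R, evalAt R x t = (Scheme.Spec.residueFieldIso R x).inv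
      (algebraMap (R ⧸ x.asIdeal) x.asIdeal.ResidueField (Ideal.Quotient.mk _ t)) := fun t => by
    rw [e]; rfl
  refine ⟨r, s, ?_, ?_⟩
  · rw [k]
    exact (map_ne_zero_iff _ (ConcreteCategory.bijective_of_isIso (Scheme.Spec.residueFieldIso R x).inv).1).2
      (IsFractionRing.to_map_ne_zero_of_mem_nonZeroDivisors hs)
  · rw [k, k, ← map_div₀ (Scheme.Spec.residueFieldIso R x).inv.hom, hz]
    exact (ConcreteCategory.congr_hom (Scheme.Spec.residueFieldIso R x).hom_inv_id z).symm

theorem evalAt_naturality {R S : CommRingCat.{u}} (g : R ⟶ S) (x : Spec S) :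
    evalAt R (Spec.map g x) ≫ (Spec.map g).residueFieldMap x = g ≫ evalAt S x := by
  simp only [evalAt, Category.assoc, Scheme.residue_residueFieldMap]
  rw [Scheme.Hom.germ_stalkMap_assoc]
  exact (Scheme.ΓSpecIso_inv_naturality_assoc g _).symm

theorem residueField_rootAlg (R : CommRingCat.{u})
    (x : Spec (CommRingCat.of (RootAlg R))) :
    IsAlgClosed ((Spec (CommRingCat.of (RootAlg R))).residueField x) ∧
      ((Spec.map (CommRingCat.ofHom (algebraMap R (RootAlg R)))).residueFieldMap x).hom.IsIntegral := by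
  let g : R ⟶ CommRingCat.of (RootAlg R) := CommRingCat.ofHom (algebraMap R (RootAlg R))
  let K := (Spec R).residueField (Spec.map g x)
  let L := (Spec (CommRingCat.of (RootAlg R))).residueField x
  algebraize [((Spec.map g).residueFieldMap x).hom]
  have hn : ∀ t : R, algebraMap K L (evalAt R (Spec.map g x) t) = evalAt _ x (g t) := fun t =>
    ConcreteCategory.congr_hom (evalAt_naturality g x) t
  have hint : ∀ b : RootAlg R, IsIntegral K (evalAt (CommRingCat.of (RootAlg R)) x b : L) := fun b => by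
    obtain ⟨p, hp, hp0⟩ := (rootAlg_isIntegral R).isIntegral b
    refine ⟨p.map (evalAt R (Spec.map g x)).hom, hp.map _, ?_⟩
    rw [eval₂_map]
    have hc : (algebraMap K L).comp (evalAt R (Spec.map g x)).hom =
        (evalAt (CommRingCat.of (RootAlg R)) x).hom.comp g.hom := RingHom.ext hn
    rw [hc, ← hom_eval₂]
    exact (congrArg _ hp0).trans (map_zero _)
  have halg : Algebra.IsAlgebraic K L := ⟨fun z => by
    obtain ⟨r, s, -, rfl⟩ := evalAt_fraction _ x z
    rw [div_eq_mul_inv]
    exact ((hint r).isAlgebraic).mul (hint s).isAlgebraic.inv⟩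
  refine ⟨isAlgClosed_of_roots (K := K) (L := L) (evalAt R (Spec.map g x)).hom
    (evalAt_fraction R _) fun p hp hd => ⟨evalAt (CommRingCat.of (RootAlg R)) x
      (Ideal.Quotient.mkₐ R (rootIdeal R) (MvPolynomial.X ⟨p, hp, hd⟩)), ?_⟩,
    fun z => ((halg.isAlgebraic z).isIntegral)⟩
  have hc : (algebraMap K L).comp (evalAt R (Spec.map g x)).hom =
      (evalAt (CommRingCat.of (RootAlg R)) x).hom.comp g.hom := RingHom.ext hn
  rw [hc, ← hom_eval₂]
  exact (congrArg _ (rootAlg_root R ⟨p, hp, hd⟩)).trans (map_zero _)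

theorem residueFieldMap_bijective_sigma {ι : Type u} {U : ι → Scheme.{u}} {X : Scheme.{u}} (j : ∀ i, U i ⟶ X)
    [∀ i, IsOpenImmersion (j i)] (z : (∐ U : Scheme.{u})) :
    Function.Bijective ((Sigma.desc j).residueFieldMap z) := by
  obtain ⟨i, x, rfl⟩ := Scheme.IsLocallyDirected.ι_jointly_surjective (Discrete.functor U) z
  have hb : ∀ {S T : Scheme.{u}} (k : S ⟶ T) [IsOpenImmersion k] (s : S),
      IsIso (k.residueFieldMap s) := fun k _ s => inferInstance
  have h1 := hb (Sigma.ι U i.as) x
  have h2 : IsIso ((Sigma.ι U i.as ≫ Sigma.desc j).residueFieldMap x) := by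
    rw [Sigma.ι_desc]
    exact hb _ _
  rw [Scheme.residueFieldMap_comp] at h2
  have h3 : IsIso ((Sigma.desc j).residueFieldMap ((Sigma.ι U i.as) x)) :=
    @IsIso.of_isIso_comp_right _ _ _ _ _ _ _ h1 h2
  exact ConcreteCategory.bijective_of_isIso ((Sigma.desc j).residueFieldMap ((Sigma.ι U i.as) x))

theorem exists_algClosure_cover (X : Scheme.{u}) [CompactSpace X] [QuasiSeparatedSpace X] :
    ∃ (X' : Scheme.{u}) (f : X' ⟶ X), IsAffine X' ∧ QuasiCompact f ∧ Surjective f ∧
      ∀ x' : X', IsAlgClosed (X'.residueField x') ∧ (f.residueFieldMap x').hom.IsIntegral := by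
  let 𝒰 := X.affineCover.finiteSubcover
  have : Finite 𝒰.I₀ := inferInstance
  have : ∀ i, IsAffine (𝒰.X i) := fun i => by dsimp [𝒰]; infer_instance
  let Z : Scheme.{u} := ∐ 𝒰.X
  let p : Z ⟶ X := Sigma.desc 𝒰.f
  have hp : Surjective p := ⟨fun x => by
    obtain ⟨i, y, rfl⟩ := 𝒰.exists_eq x
    exact ⟨(Sigma.ι 𝒰.X i) y, by rw [← Scheme.Hom.comp_apply, Sigma.ι_desc]⟩⟩
  let R : CommRingCat.{u} := Γ(Z, ⊤)
  let g : Spec (CommRingCat.of (RootAlg R)) ⟶ Spec R := Spec.map (CommRingCat.ofHom (algebraMap R (RootAlg R)))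
  have : Surjective g := ⟨rootAlg_surjective R⟩
  refine ⟨_, g ≫ Z.isoSpec.inv ≫ p, inferInstance, ?_, inferInstance, fun x' => ?_⟩
  · have : QuasiCompact ((g ≫ Z.isoSpec.inv ≫ p) ≫ terminal.from X) := by
      rw [terminal.comp_from]; infer_instance
    exact QuasiCompact.of_comp _ (terminal.from X)
  obtain ⟨h1, h2⟩ := residueField_rootAlg R x'
  refine ⟨h1, ?_⟩
  have h3 := residueFieldMap_bijective_sigma 𝒰.f (Z.isoSpec.inv (g x'))
  have h4 := ConcreteCategory.bijective_of_isIso (Z.isoSpec.inv.residueFieldMap (g x'))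
  rw [Scheme.residueFieldMap_comp, Scheme.residueFieldMap_comp]
  exact RingHom.IsIntegral.trans _ _ (RingHom.isIntegral_of_surjective _ (h4.2.comp h3.2)) h2

end Groth.Agent.EtCore45
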