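import Groth.Agent.EtCore45.SheafCrit
import Groth.Agent.Unr55.Et.Open
import Groth.Prelude.Def_BigSite

/-!
Condition (C) and closedness give almost cocontinuity of base change.
-/

set_option autoImplicit false
set_option backward.isDefEq.respectTransparency.types false
universe u

open CategoryTheory CategoryTheory.Limits AlgebraicGeometry Opposite
open Groth.Agent.Unr55.EtSh

namespace Groth.Agent.EtCore45

variable {X Y : Scheme.{u}}

theorem bc_isAlmostCocontinuous (f : X ⟶ Y)
    (hC : ∀ (V : Scheme.{u}) (v : V ⟶ Y) [Etale v], BigSite.PropC (pullback.snd f v))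
    (hcl : ∀ (V : Scheme.{u}) (v : V ⟶ Y) [Etale v], IsClosedMap (pullback.snd f v).base) :
    BigSite.IsAlmostCocontinuous (EtCoh.bc f) Y.smallEtaleTopology X.smallEtaleTopology := by
  intro U R hR
  have : Etale U.hom := U.prop
  let q : ((EtCoh.bc f).obj U).left ⟶ U.left := pullback.fst U.hom f
  let R' : Sieve U :=
    { arrows := fun V k => IsEmpty ((EtCoh.bc f).obj V).left ∨ R ((EtCoh.bc f).map k)
      downward_closed := fun {V W k} hk l => by
        rcases hk with hk | hk
        · exact .inl ⟨fun p => hk.false (((EtCoh.bc f).map l).left p)⟩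
        · exact .inr (by rw [Functor.map_comp]; exact R.downward_closed hk _) }
  refine ⟨R', mem_topology fun x => ?_, fun V k hk => hk.imp_left fun h => ?_⟩
  swap
  · exact (mem_et _).2 fun p => h.elim p
  by_cases hx : x ∈ Set.range q
  · obtain ⟨p, rfl⟩ := hx
    obtain ⟨Z, g, z, hg, hge, rfl⟩ := (mem_et R).1 hR p
    let e := pullbackSymmetry U.hom f
    have : Etale (g.left ≫ e.hom) := inferInstance
    obtain ⟨V₀, v₀, hv₀, h, hh, hs⟩ := hC U.left U.hom Z.left (g.left ≫ e.hom)
    let V' : Y.Etale := Scheme.Etale.mk (v₀ ≫ U.hom)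
    let k : V' ⟶ U := MorphismProperty.Over.homMk v₀ rfl trivial
    obtain ⟨w, hw⟩ := hs.surj z
    refine ⟨V', k, pullback.snd (pullback.snd f U.hom) v₀ w, .inr ?_, ?_⟩
    · have hb : IsPullback ((EtCoh.bc f).map k).left (pullback.fst V'.hom f) q v₀ := EtCoh.isPullback_bc_map f k
      have hb' : IsPullback (((EtCoh.bc f).map k).left ≫ e.hom) (pullback.fst V'.hom f)
          (pullback.snd f U.hom) v₀ :=
        hb.of_iso (Iso.refl _) e (Iso.refl _) (Iso.refl _) (by simp) (by simp) (by rw [Iso.refl_hom, Category.comp_id]; exact (pullbackSymmetry_hom_comp_snd U.hom f).symm) (by simp)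
      let m : ((EtCoh.bc f).obj V').left ⟶ Z.left := hb'.isoPullback.hom ≫ h
      have hm : m ≫ g.left = ((EtCoh.bc f).map k).left := by
        exact (cancel_mono e.hom).1 ((Category.assoc _ _ _).trans (((Category.assoc _ _ _).trans
          (congrArg (hb'.isoPullback.hom ≫ ·) hh)).trans hb'.isoPullback_hom_fst))
      let m' : (EtCoh.bc f).obj V' ⟶ Z := MorphismProperty.Over.homMk m (by
        rw [← MorphismProperty.Over.w g, ← Category.assoc, hm, MorphismProperty.Over.w]) trivial
      have : m' ≫ g = (EtCoh.bc f).map k := MorphismProperty.Over.Hom.ext hm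
      rw [← this]
      exact R.downward_closed hg _
    · have e1 : pullback.snd f U.hom (pullback.fst (pullback.snd f U.hom) v₀ w) =
          v₀ (pullback.snd (pullback.snd f U.hom) v₀ w) := by
        rw [← Scheme.Hom.comp_apply, pullback.condition, Scheme.Hom.comp_apply]
      refine e1.symm.trans ?_
      rw [← hh, Scheme.Hom.comp_apply, hw, ← Scheme.Hom.comp_apply, Category.assoc]
      exact (congrArg (fun m => m z) (show g.left ≫ e.hom ≫ pullback.snd f U.hom = g.left ≫ q from
        congrArg (g.left ≫ ·) (pullbackSymmetry_hom_comp_snd U.hom f))).trans rfl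
  · have hc : IsClosed (Set.range q) := by
      have h1 := (hcl U.left U.hom).isClosed_range
      have h2 : Set.range q = Set.range (pullback.snd f U.hom) := by
        have : q = (pullbackSymmetry U.hom f).hom ≫ pullback.snd f U.hom :=
          (pullbackSymmetry_hom_comp_snd _ _).symm
        rw [this]
        exact Function.Surjective.range_comp (pullbackSymmetry U.hom f).hom.surjective (pullback.snd f U.hom)
      rw [h2]; exact h1
    let O : U.left.Opens := ⟨(Set.range q)ᶜ, hc.isOpen_compl⟩
    obtain ⟨o, ho⟩ := O.range_ι.ge (show x ∈ O from hx)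
    refine ⟨openSub U O, openSubι U O, o, .inl ⟨fun p => ?_⟩, ho⟩
    have e1 := (EtCoh.isPullback_bc_map f (openSubι U O)).w
    have h2 : O.ι (pullback.fst (openSub U O).hom f p) ∈ O := O.range_ι.le ⟨_, rfl⟩
    exact h2 ⟨_, congr($e1 p)⟩

end Groth.Agent.EtCore45
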