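import Groth.Agent.RD97.LES
import Mathlib.Algebra.Homology.HomologySequenceLemmas
import Mathlib.Algebra.Homology.HomologicalComplexAbelian
import Mathlib.Algebra.Homology.ShortComplex.ExactFunctor

/-!
Cohomology of an exact functor to complexes, acyclic on injectives, is the derived functor of its zeroth one.
-/

set_option autoImplicit false
set_option backward.isDefEq.respectTransparency.types false

universe v u v' u'

open CategoryTheory CategoryTheory.Limits

namespace Groth.Agent.EtCore45

variable {A : Type u} [Category.{v} A] [Abelian A] {B : Type u'} [Category.{v'} B] [Abelian B]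
  (K : A ⥤ CochainComplex B ℕ) [K.Additive]
  (hK : ∀ S : ShortComplex A, S.ShortExact → (S.map K).ShortExact)

/-- The delta-functor of cohomology. -/
noncomputable def deltaOfComplex : DeltaF.CohDeltaFunctor A B ℕ where
  F n := K ⋙ HomologicalComplex.homologyFunctor B (ComplexShape.up ℕ) n
  additive _ := inferInstance
  δ S hS n₀ n₁ h := (hK S hS).δ n₀ n₁ h
  δ_natural {S S'} hS hS' φ n₀ n₁ h :=
    (HomologicalComplex.HomologySequence.δ_naturality (K.mapShortComplex.map φ)
      (hK S hS) (hK S' hS') n₀ n₁ h).symm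
  exact₂ S hS n := (hK S hS).homology_exact₂ n
  comp_δ S hS n₀ n₁ h := (hK S hS).comp_δ n₀ n₁ h
  exact₃ S hS n₀ n₁ h := (hK S hS).homology_exact₃ n₀ n₁ h
  δ_comp S hS n₀ n₁ h := (hK S hS).δ_comp n₀ n₁ h
  exact₁ S hS n₀ n₁ h := (hK S hS).homology_exact₁ n₀ n₁ h

include hK in
/-- Degree zero cohomology is left exact. -/
theorem preservesFiniteLimits_zero :
    PreservesFiniteLimits (K ⋙ HomologicalComplex.homologyFunctor B (ComplexShape.up ℕ) 0) := by
  refine ((Functor.preservesFiniteLimits_tfae _).out 0 3).1 fun S hS => ?_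
  refine ⟨(hK S hS).homology_exact₂ 0, ?_⟩
  have := (hK S hS).mono_f
  have h1 : Mono ((K.map S.f).f 0) := inferInstanceAs (Mono ((S.map K).f.f 0))
  have h2 : Mono (HomologicalComplex.cyclesMap (K.map S.f) 0) := by
    exact mono_of_mono_fac (HomologicalComplex.cyclesMap_i (K.map S.f) 0)
  have e : HomologicalComplex.homologyMap (K.map S.f) 0 =
      inv ((K.obj S.X₁).homologyπ 0) ≫ HomologicalComplex.cyclesMap (K.map S.f) 0 ≫ (K.obj S.X₂).homologyπ 0 := by
    rw [IsIso.eq_inv_comp, HomologicalComplex.homologyπ_naturality]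
  change Mono (HomologicalComplex.homologyMap (K.map S.f) 0)
  rw [e]
  infer_instance

include hK in
/-- Cohomology of `K` is the derived functor of its zeroth cohomology. -/
theorem nonempty_iso_rightDerived [HasInjectiveResolutions A]
    [(K ⋙ HomologicalComplex.homologyFunctor B (ComplexShape.up ℕ) 0).Additive]
    (hinj : ∀ (I : A), Injective I → ∀ n : ℕ, IsZero ((K.obj I).homology (n + 1))) (p : ℕ) :
    Nonempty (K ⋙ HomologicalComplex.homologyFunctor B (ComplexShape.up ℕ) p ≅
      (K ⋙ HomologicalComplex.homologyFunctor B (ComplexShape.up ℕ) 0).rightDerived p) := by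
  have := preservesFiniteLimits_zero K hK
  obtain ⟨Δ⟩ := RD97.nonempty_derivedLES (K ⋙ HomologicalComplex.homologyFunctor B (ComplexShape.up ℕ) 0)
  have hT : (deltaOfComplex K hK).IsUniversal :=
    DeltaF50.isUniversal_of_isEffaceable (fun n X =>
      ⟨(injectiveResolution X).cocomplex.X 0, RD97.aug (injectiveResolution X), inferInstance,
        (hinj _ inferInstance n).eq_of_tgt _ _⟩)
  obtain ⟨φ, -, -⟩ := DeltaF50.existsUnique_iso_of_isUniversal (RD97.isUniversal _ Δ) hT
    (K ⋙ HomologicalComplex.homologyFunctor B (ComplexShape.up ℕ) 0).rightDerivedZeroIsoSelf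
  exact ⟨{ hom := φ.inv.app p
           inv := φ.hom.app p
           hom_inv_id := (DeltaF.CohDeltaFunctor.comp_app φ.inv φ.hom p).symm.trans
             (congrArg (fun q => DeltaF.CohDeltaFunctor.Hom.app q p) φ.inv_hom_id)
           inv_hom_id := (DeltaF.CohDeltaFunctor.comp_app φ.hom φ.inv p).symm.trans
             (congrArg (fun q => DeltaF.CohDeltaFunctor.Hom.app q p) φ.hom_inv_id) }⟩

end Groth.Agent.EtCore45
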