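import Groth.Agent.EtCore45.CechInjGen
import Groth.Agent.EtCore45.DerivedOfComplex
import Mathlib.CategoryTheory.Preadditive.Injective.Resolution
import Mathlib.CategoryTheory.Abelian.Injective.Resolution

/-!
Cech cohomology of presheaves as a derived functor.
-/

set_option autoImplicit false
set_option backward.isDefEq.respectTransparency false
set_option backward.isDefEq.respectTransparency.types false

universe w v u

open CategoryTheory CategoryTheory.Limits Opposite
open Groth.Agent.Fib44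

namespace Groth.Agent.EtCore45

variable {C : Type u} [Category.{v} C] {U : C} [HasFiniteProducts (Over U)] {ι : Type w} (Uf : ι → Over U)

/-- Presheaves to their Cech complexes. -/
noncomputable abbrev cechK : (Cᵒᵖ ⥤ AddCommGrpCat.{w}) ⥤ CochainComplex AddCommGrpCat.{w} ℕ :=
  (Functor.whiskeringLeft (Over U)ᵒᵖ Cᵒᵖ AddCommGrpCat.{w}).obj (Over.forget U).op ⋙ cechComplexFunctor Uf

lemma cechK_map_apply {P Q : Cᵒᵖ ⥤ AddCommGrpCat.{w}} (α : P ⟶ Q) (n : ℕ)
    (x : ((cechK Uf).obj P).X n) (a : Fin (n + 1) → ι) :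
    Cech.equiv Uf ((Over.forget U).op ⋙ Q) n (((cechK Uf).map α).f n x) a =
      α.app (op (∏ᶜ (Uf ∘ a)).left) (Cech.equiv Uf ((Over.forget U).op ⋙ P) n x a) := by
  rw [Cech.equiv_apply, Cech.equiv_apply]
  exact ConcreteCategory.congr_hom (Pi.map_π (f := fun a : Fin (n + 1) → ι => P.obj (op (∏ᶜ (Uf ∘ a)).left))
    (g := fun a : Fin (n + 1) → ι => Q.obj (op (∏ᶜ (Uf ∘ a)).left))
    (fun a => α.app (op (∏ᶜ (Uf ∘ a)).left)) a) x

instance cechK_additive : (cechK (C := C) Uf).Additive where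
  map_add {P Q α β} := by
    refine HomologicalComplex.hom_ext _ _ fun n => ConcreteCategory.hom_ext _ _ fun x => ?_
    refine (Cech.equiv Uf ((Over.forget U).op ⋙ Q) n).injective (funext fun a => ?_)
    refine (cechK_map_apply Uf (α + β) n x a).trans ?_
    refine Eq.trans ?_ (congrFun (map_add (Cech.equiv Uf ((Over.forget U).op ⋙ Q) n) _ _) a).symm
    exact congrArg₂ (· + ·) (cechK_map_apply Uf α n x a).symm (cechK_map_apply Uf β n x a).symm

theorem cechK_shortExact (S : ShortComplex (Cᵒᵖ ⥤ AddCommGrpCat.{w})) (hS : S.ShortExact) :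
    (S.map (cechK Uf)).ShortExact := by
  refine HomologicalComplex.shortExact_of_degreewise_shortExact _ fun n => ?_
  have hV : ∀ V, (S.map ((evaluation Cᵒᵖ AddCommGrpCat.{w}).obj V)).ShortExact := fun V =>
    hS.map_of_exact _
  refine ShortComplex.ShortExact.mk' ?_ ?_ ?_
  · rw [ShortComplex.ab_exact_iff]
    intro x hx
    have h : ∀ a, ∃ y, S.f.app _ y = Cech.equiv Uf ((Over.forget U).op ⋙ S.X₂) n x a := fun a =>
      (ShortComplex.ab_exact_iff _).1 (hV _).exact _
        ((cechK_map_apply Uf S.g n x a).symm.trans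
          ((congrFun (congrArg (Cech.equiv Uf ((Over.forget U).op ⋙ S.X₃) n) hx) a).trans (congrFun (map_zero _) a)))
    choose y hy using h
    refine ⟨(Cech.equiv Uf ((Over.forget U).op ⋙ S.X₁) n).symm y, ?_⟩
    refine (Cech.equiv Uf ((Over.forget U).op ⋙ S.X₂) n).injective (funext fun a => ?_)
    refine (cechK_map_apply Uf S.f n _ a).trans ?_
    rw [AddEquiv.apply_symm_apply]
    exact hy a
  · refine (AddCommGrpCat.mono_iff_injective _).2 fun x x' e => ?_
    refine (Cech.equiv Uf ((Over.forget U).op ⋙ S.X₁) n).injective (funext fun a => ?_)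
    refine (AddCommGrpCat.mono_iff_injective _).1 (hV (op (∏ᶜ (Uf ∘ a)).left)).mono_f ?_
    exact (cechK_map_apply Uf S.f n x a).symm.trans
      ((congrArg (fun z => Cech.equiv Uf ((Over.forget U).op ⋙ S.X₂) n z a) e).trans (cechK_map_apply Uf S.f n x' a))
  · refine (AddCommGrpCat.epi_iff_surjective _).2 fun z => ?_
    have h : ∀ a, ∃ y, S.g.app _ y = Cech.equiv Uf ((Over.forget U).op ⋙ S.X₃) n z a := fun a =>
      (AddCommGrpCat.epi_iff_surjective _).1 (hV (op (∏ᶜ (Uf ∘ a)).left)).epi_g _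
    choose y hy using h
    refine ⟨(Cech.equiv Uf ((Over.forget U).op ⋙ S.X₂) n).symm y, ?_⟩
    refine (Cech.equiv Uf ((Over.forget U).op ⋙ S.X₃) n).injective (funext fun a => ?_)
    refine (cechK_map_apply Uf S.g n _ a).trans ?_
    rw [AddEquiv.apply_symm_apply]
    exact hy a

theorem isZero_cechH_injective [LocallySmall.{w} C] (I : Cᵒᵖ ⥤ AddCommGrpCat.{w}) [Injective I] (p : ℕ) :
    IsZero (EtCech.cechH Uf I (p + 1)) :=
  CechInj.acyclic Uf I p

theorem nonempty_cechH_iso_rightDerived [LocallySmall.{w} C] [(EtCech.cechHFunctor (C := C) Uf 0).Additive]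
    [HasInjectiveResolutions (Cᵒᵖ ⥤ AddCommGrpCat.{w})] (p : ℕ) :
    Nonempty (EtCech.cechHFunctor (C := C) Uf p ≅ (EtCech.cechHFunctor (C := C) Uf 0).rightDerived p) := by
  have : (cechK Uf ⋙ HomologicalComplex.homologyFunctor AddCommGrpCat.{w} (ComplexShape.up ℕ) 0).Additive :=
    inferInstance
  obtain ⟨e⟩ := nonempty_iso_rightDerived (cechK Uf) (cechK_shortExact Uf)
    (fun I hI n => @isZero_cechH_injective C _ U _ ι Uf _ I hI n) p
  exact ⟨e⟩

end Groth.Agent.EtCore45
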