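import Groth.Prelude.Def_EtCech
import Groth.Agent.Fib44.CechExplicit

/-!
Injective presheaves on locally small categories have trivial higher Cech cohomology.
-/

set_option autoImplicit false
set_option linter.unusedVariables false
set_option linter.unusedSectionVars false

universe w v u

open CategoryTheory CategoryTheory.Limits Opposite

open Groth.Agent.Fib44

namespace Groth.Agent.EtCore45.CechInj

variable {C : Type u} [Category.{v} C] [LocallySmall.{w} C] {U : C} {ι : Type w} (Y : ι → Over U)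

/-- An arrow to a member of the family. -/
abbrev Pt (V : C) : Type w := Σ i : ι, Shrink.{w} (V ⟶ (Y i).left)

/-- The arrow of a point. -/
noncomputable abbrev Pt.arr {V : C} (p : Pt Y V) : V ⟶ (Y p.1).left := (equivShrink _).symm p.2

/-- A point from an arrow. -/
noncomputable abbrev mkP {V : C} (i : ι) (g : V ⟶ (Y i).left) : Pt Y V := ⟨i, equivShrink _ g⟩

theorem arr_mkP {V : C} (i : ι) (g : V ⟶ (Y i).left) : Pt.arr Y (mkP Y i g) = g :=
  (equivShrink _).symm_apply_apply g

/-- The composite with the structure map. -/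
noncomputable abbrev base {V : C} (p : Pt Y V) : V ⟶ U := Pt.arr Y p ≫ (Y p.1).hom

/-- Tuples of arrows over the base. -/
def N (n : ℕ) (V : C) : Type w :=
  {x : Fin (n + 1) → Pt Y V // ∀ k, base Y (x k) = base Y (x 0)}

/-- The presheaf of tuples. -/
noncomputable def NF (n : ℕ) : Cᵒᵖ ⥤ Type w where
  obj V := N Y n V.unop
  map g := ↾fun x => ⟨fun k => mkP Y (x.1 k).1 (g.unop ≫ Pt.arr Y (x.1 k)), fun k => by
    simp only [base, arr_mkP, Category.assoc]
    exact congrArg (g.unop ≫ ·) (x.2 k)⟩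
  map_id V := by
    ext x
    refine Subtype.ext (funext fun k => Sigma.ext rfl (heq_of_eq ?_))
    exact (congrArg (equivShrink _) (Category.id_comp _)).trans ((equivShrink _).apply_symm_apply _)
  map_comp g g' := by
    ext x
    refine Subtype.ext (funext fun k => Sigma.ext rfl (heq_of_eq ?_))
    refine congrArg (equivShrink _) ?_
    exact (Category.assoc _ _ _).trans (congrArg (g'.unop ≫ ·) (arr_mkP Y _ _).symm)

/-- Omitting an entry. -/
def omit' {n : ℕ} {V : C} (j : Fin (n + 2)) (x : N Y (n + 1) V) : N Y n V :=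
  ⟨x.1 ∘ j.succAbove, fun k => (x.2 _).trans (x.2 _).symm⟩

/-- Omitting an entry, as a map of presheaves. -/
def omitF (n : ℕ) (j : Fin (n + 2)) : NF Y (n + 1) ⟶ NF Y n where
  app V := ↾fun x => omit' Y j x
  naturality V W g := rfl

/-- The free abelian presheaves. -/
noncomputable abbrev Z (n : ℕ) : Cᵒᵖ ⥤ AddCommGrpCat.{w} := NF Y n ⋙ AddCommGrpCat.free.{w}

/-- The differential. -/
noncomputable def dZ (n : ℕ) : Z Y (n + 1) ⟶ Z Y n :=
  ∑ j : Fin (n + 2), (-1 : ℤ) ^ (j : ℕ) • Functor.whiskerRight (omitF Y n j) AddCommGrpCat.free.{w}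

/-- The differential over an object. -/
noncomputable def dV (n : ℕ) (V : C) :
    FreeAbelianGroup (N Y (n + 1) V) →+ FreeAbelianGroup (N Y n V) :=
  FreeAbelianGroup.lift fun x => ∑ j : Fin (n + 2), (-1 : ℤ) ^ (j : ℕ) • FreeAbelianGroup.of (omit' Y j x)

theorem dV_of (n : ℕ) (V : C) (x : N Y (n + 1) V) :
    dV Y n V (FreeAbelianGroup.of x) =
      ∑ j : Fin (n + 2), (-1 : ℤ) ^ (j : ℕ) • FreeAbelianGroup.of (omit' Y j x) :=
  FreeAbelianGroup.lift_apply_of _ _

set_option backward.isDefEq.respectTransparency false in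
set_option backward.isDefEq.respectTransparency.types false in
theorem dZ_app (n : ℕ) (V : Cᵒᵖ) :
    (dZ Y n).app V = AddCommGrpCat.ofHom (X := FreeAbelianGroup (N Y (n + 1) V.unop))
      (Y := FreeAbelianGroup (N Y n V.unop)) (dV Y n V.unop) := by
  refine AddCommGrpCat.hom_ext (FreeAbelianGroup.lift_ext _ _ ?_)
  intro x
  let ev : (Z Y (n + 1) ⟶ Z Y n) →+ (Z Y n).obj V :=
    AddMonoidHom.mk' (fun α => α.app V (FreeAbelianGroup.of x : FreeAbelianGroup ((NF Y (n + 1)).obj V)))
      (fun _ _ => rfl)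
  refine Eq.trans ((map_sum ev _ _).trans (Finset.sum_congr rfl fun j _ => ?_)) (dV_of Y n V.unop x).symm
  rw [map_zsmul]
  refine congrArg _ ?_
  exact FreeAbelianGroup.map_of_apply _

/-- A chosen point over a given arrow to the base. -/
noncomputable def pick {V : C} (s : V ⟶ U) (h : ∃ p : Pt Y V, base Y p = s) : Pt Y V := h.choose

/-- The cone. -/
noncomputable def cone {n : ℕ} {V : C} (x : N Y n V) : N Y (n + 1) V :=
  ⟨Fin.cases (pick Y (base Y (x.1 0)) ⟨_, rfl⟩) x.1, fun k => by
    have h : base Y (pick Y (base Y (x.1 0)) ⟨_, rfl⟩) = base Y (x.1 0) :=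
      (⟨_, rfl⟩ : ∃ p : Pt Y V, base Y p = base Y (x.1 0)).choose_spec
    induction k using Fin.cases with
    | zero => rfl
    | succ k => exact (x.2 k).trans h.symm⟩

theorem omit_zero_cone {n : ℕ} {V : C} (x : N Y n V) : omit' Y 0 (cone Y x) = x :=
  Subtype.ext (funext fun k => by
    change Fin.cases (motive := fun _ => Pt Y V) (pick Y (base Y (x.1 0)) ⟨_, rfl⟩) x.1 ((0 : Fin (n + 2)).succAbove k) = _
    rw [Fin.succAbove_zero, Fin.cases_succ])

theorem omit_succ_cone {n : ℕ} {V : C} (x : N Y (n + 1) V) (i : Fin (n + 2)) :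
    omit' Y i.succ (cone Y x) = cone Y (omit' Y i x) := by
  have h : base Y ((omit' Y i x).1 0) = base Y (x.1 0) := x.2 _
  refine Subtype.ext (funext fun k => ?_)
  induction k using Fin.cases with
  | zero =>
    change Fin.cases (motive := fun _ => Pt Y V) (pick Y (base Y (x.1 0)) ⟨_, rfl⟩) x.1 (i.succ.succAbove 0) = pick Y _ _
    rw [Fin.succ_succAbove_zero, Fin.cases_zero]
    congr 1
    exact h.symm
  | succ k =>
    change Fin.cases (motive := fun _ => Pt Y V) (pick Y (base Y (x.1 0)) ⟨_, rfl⟩) x.1 (i.succ.succAbove k.succ) = x.1 (i.succAbove k)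
    rw [Fin.succ_succAbove_succ, Fin.cases_succ]

/-- The homotopy. -/
noncomputable def hV (n : ℕ) (V : C) :
    FreeAbelianGroup (N Y n V) →+ FreeAbelianGroup (N Y (n + 1) V) :=
  FreeAbelianGroup.map (fun x => cone Y x)

theorem hV_of (n : ℕ) (V : C) (x : N Y n V) :
    hV Y n V (FreeAbelianGroup.of x) = FreeAbelianGroup.of (cone Y x) :=
  FreeAbelianGroup.map_of_apply _

set_option backward.isDefEq.respectTransparency false in
set_option backward.isDefEq.respectTransparency.types false in
theorem homotopy (n : ℕ) (V : C) :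
    (dV Y (n + 1) V).comp (hV Y (n + 1) V) + (hV Y n V).comp (dV Y n V) = AddMonoidHom.id _ := by
  refine FreeAbelianGroup.lift_ext _ _ fun x => ?_
  simp only [AddMonoidHom.add_apply, AddMonoidHom.comp_apply, AddMonoidHom.id_apply, hV_of, dV_of,
    map_sum, map_zsmul]
  rw [Fin.sum_univ_succ]
  simp only [Fin.val_zero, pow_zero, one_smul, omit_zero_cone, Fin.val_succ, omit_succ_cone,
    pow_succ, mul_neg, mul_one, neg_smul, Finset.sum_neg_distrib]
  abel

set_option backward.isDefEq.respectTransparency false in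
set_option backward.isDefEq.respectTransparency.types false in
/-- A morphism vanishing on boundaries factors through the differential after an injective. -/
theorem exists_factor (n : ℕ) {I : Cᵒᵖ ⥤ AddCommGrpCat.{w}} [Injective I] (φ : Z Y (n + 1) ⟶ I)
    (h : dZ Y (n + 1) ≫ φ = 0) : ∃ y : Z Y n ⟶ I, dZ Y n ≫ y = φ := by
  have h0 : kernel.ι (dZ Y n) ≫ φ = 0 := by
    ext V k
    let z : FreeAbelianGroup (N Y (n + 1) V.unop) := (kernel.ι (dZ Y n)).app V k
    have hz : dV Y n V.unop z = 0 :=
      (ConcreteCategory.congr_hom (dZ_app Y n V) z).symm.trans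
        (ConcreteCategory.congr_hom (NatTrans.congr_app (kernel.condition (dZ Y n)) V) k)
    have hz' : z = dV Y (n + 1) V.unop (hV Y (n + 1) V.unop z) := by
      have := DFunLike.congr_fun (homotopy Y n V.unop) z
      simp only [AddMonoidHom.add_apply, AddMonoidHom.comp_apply, AddMonoidHom.id_apply, hz,
        map_zero, add_zero] at this
      exact this.symm
    change φ.app V z = 0
    rw [hz']
    refine (congrArg (φ.app V) (ConcreteCategory.congr_hom (dZ_app Y (n + 1) V) _).symm).trans ?_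
    exact ConcreteCategory.congr_hom (NatTrans.congr_app h V) _
  have hE : (ShortComplex.mk (kernel.ι (dZ Y n)) (dZ Y n) (kernel.condition _)).Exact :=
    ShortComplex.exact_of_f_is_kernel _ (kernelIsKernel _)
  exact ⟨hE.descToInjective φ h0, hE.comp_descToInjective φ h0⟩

variable [HasFiniteProducts (Over U)] (P : Cᵒᵖ ⥤ AddCommGrpCat.{w})

/-- The induced map into the fibre product. -/
noncomputable def liftN {n : ℕ} {V : C} (x : N Y n V) :
    Over.mk (base Y (x.1 0)) ⟶ ∏ᶜ (Y ∘ fun k => (x.1 k).1) :=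
  Pi.lift fun k => Over.homMk (Pt.arr Y (x.1 k)) (x.2 k)

set_option backward.isDefEq.respectTransparency false in
set_option backward.isDefEq.respectTransparency.types false in
theorem liftN_eq {n : ℕ} {V : C} (a : Fin (n + 1) → ι) (g : V ⟶ (∏ᶜ (Y ∘ a)).left)
    (m : ∀ k, V ⟶ (Y (a k)).left) (hm : ∀ k, g ≫ (Pi.π (Y ∘ a) k).left = m k)
    (h : ∀ k, base Y (mkP Y (a k) (m k)) = base Y (mkP Y (a 0) (m 0))) :
    (liftN Y (⟨fun k => mkP Y (a k) (m k), h⟩ : N Y n V)).left = g := by
  have hg : g ≫ (∏ᶜ (Y ∘ a)).hom = base Y (mkP Y (a 0) (m 0)) := by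
    rw [base, arr_mkP, ← hm 0, Category.assoc]
    exact congrArg (g ≫ ·) (Over.w (Pi.π (Y ∘ a) 0)).symm
  have e : liftN Y (⟨fun k => mkP Y (a k) (m k), h⟩ : N Y n V) = Over.homMk g hg := by
    refine Pi.hom_ext _ _ fun k => Over.OverMorphism.ext ?_
    show (liftN Y _ ≫ _).left = _
    refine Eq.trans (congrArg CommaMorphism.left (Pi.lift_π _ k)) ?_
    exact (arr_mkP Y _ _).trans (hm k).symm
  exact congrArg CommaMorphism.left e

set_option backward.isDefEq.respectTransparency false in
set_option backward.isDefEq.respectTransparency.types false in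
theorem liftN_eq' {n : ℕ} {V : C} (x : N Y n V) (g : V ⟶ (∏ᶜ (Y ∘ fun k => (x.1 k).1)).left)
    (hm : ∀ k, g ≫ (Pi.π (Y ∘ fun k => (x.1 k).1) k).left = Pt.arr Y (x.1 k)) :
    (liftN Y x).left = g := by
  have hg : g ≫ (∏ᶜ (Y ∘ fun k => (x.1 k).1)).hom = base Y (x.1 0) := by
    rw [base, ← hm 0, Category.assoc]
    exact congrArg (g ≫ ·) (Over.w (Pi.π (Y ∘ fun k => (x.1 k).1) 0)).symm
  have e : liftN Y x = Over.homMk g hg := by
    refine Pi.hom_ext _ _ fun k => Over.OverMorphism.ext ?_
    show (liftN Y _ ≫ _).left = _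
    refine Eq.trans (congrArg CommaMorphism.left (Pi.lift_π _ k)) ?_
    exact (hm k).symm
  exact congrArg CommaMorphism.left e

variable {P}

set_option backward.isDefEq.respectTransparency false in
set_option backward.isDefEq.respectTransparency.types false in
/-- The morphism on tuples given by a cochain. -/
noncomputable def toPsh (n : ℕ) (f : Cech.Coch Y ((Over.forget U).op ⋙ P) n) :
    NF Y n ⟶ P ⋙ forget AddCommGrpCat.{w} where
  app V := ↾fun x => P.map (liftN Y (V := V.unop) x).left.op (f fun k => (x.1 k).1)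
  naturality V W g := by
    ext x
    have hlx : (liftN Y ((NF Y n).map g x : N Y n W.unop)).left = g.unop ≫ (liftN Y x).left :=
      liftN_eq Y (fun k => (x.1 k).1) _ _ (fun k => (Category.assoc _ _ _).trans
        (congrArg (g.unop ≫ ·) ((Over.comp_left _ _ _ _ _).symm.trans
          (congrArg CommaMorphism.left (Pi.lift_π _ k))))) _
    change P.map (liftN Y ((NF Y n).map g x : N Y n W.unop)).left.op _ = P.map g (P.map _ _)
    rw [hlx]
    exact ConcreteCategory.congr_hom (P.map_comp (liftN Y (V := V.unop) x).left.op g) _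

/-- The morphism out of the free presheaf given by a cochain. -/
noncomputable def toZ (n : ℕ) (f : Cech.Coch Y ((Over.forget U).op ⋙ P) n) : Z Y n ⟶ P :=
  ((AddCommGrpCat.adj.whiskerRight Cᵒᵖ).homEquiv _ P).symm (toPsh Y n f)

theorem homEquiv_free {G : Cᵒᵖ ⥤ Type w} {P : Cᵒᵖ ⥤ AddCommGrpCat.{w}}
    (φ : G ⋙ AddCommGrpCat.free.{w} ⟶ P) (V : Cᵒᵖ) (x : G.obj V) :
    ((AddCommGrpCat.adj.whiskerRight Cᵒᵖ).homEquiv G P φ).app V x =
      φ.app V (FreeAbelianGroup.of x : FreeAbelianGroup (G.obj V)) :=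
  rfl

theorem toZ_of (n : ℕ) (f : Cech.Coch Y ((Over.forget U).op ⋙ P) n) (V : Cᵒᵖ) (x : N Y n V.unop) :
    (toZ Y n f).app V (FreeAbelianGroup.of x : FreeAbelianGroup ((NF Y n).obj V)) =
      P.map (liftN Y x).left.op (f fun k => (x.1 k).1) := by
  have e : (AddCommGrpCat.adj.whiskerRight Cᵒᵖ).homEquiv (NF Y n) P (toZ Y n f) = toPsh Y n f :=
    Equiv.apply_symm_apply _ _
  refine (homEquiv_free (toZ Y n f) V x).symm.trans ?_
  rw [e]
  rfl

set_option backward.isDefEq.respectTransparency false in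
set_option backward.isDefEq.respectTransparency.types false in
theorem app_dZ_of (n : ℕ) (α : Z Y n ⟶ P) (V : Cᵒᵖ) (x : N Y (n + 1) V.unop) :
    (dZ Y n ≫ α).app V (FreeAbelianGroup.of x : FreeAbelianGroup ((NF Y (n + 1)).obj V)) =
      ∑ j : Fin (n + 2), (-1 : ℤ) ^ (j : ℕ) •
        α.app V (FreeAbelianGroup.of (omit' Y j x) : FreeAbelianGroup ((NF Y n).obj V)) := by
  change α.app V ((dZ Y n).app V _) = _
  let g : FreeAbelianGroup (N Y n V.unop) →+ P.obj V := (α.app V).hom
  refine (congrArg g ((ConcreteCategory.congr_hom (dZ_app Y n V) _).trans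
    (dV_of Y n V.unop x))).trans ?_
  rw [map_sum]
  refine Finset.sum_congr rfl fun j _ => ?_
  rw [map_zsmul]
  rfl

set_option backward.isDefEq.respectTransparency false in
set_option backward.isDefEq.respectTransparency.types false in
theorem liftN_omit {n : ℕ} {V : C} (x : N Y (n + 1) V) (j : Fin (n + 2)) :
    (liftN Y (omit' Y j x)).left =
      (liftN Y x).left ≫ (Cech.face Y (fun k => (x.1 k).1) j.succAbove).left := by
  refine liftN_eq' Y (omit' Y j x) _ (fun k => ?_)
  refine (Category.assoc _ _ _).trans ?_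
  refine (congrArg (fun q => (liftN Y x).left ≫ q)
    ((Over.comp_left _ _ _ _ _).symm.trans (congrArg CommaMorphism.left (Pi.lift_π _ k)))).trans ?_
  refine (Over.comp_left _ _ _ _ _).symm.trans ?_
  unfold liftN
  erw [Pi.lift_π]
  rfl

set_option backward.isDefEq.respectTransparency false in
set_option backward.isDefEq.respectTransparency.types false in
theorem dZ_toZ (n : ℕ) (f : Cech.Coch Y ((Over.forget U).op ⋙ P) n)
    (hf : ∀ a : Fin (n + 2) → ι, ∑ j : Fin (n + 2), (-1 : ℤ) ^ (j : ℕ) •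
      ((Over.forget U).op ⋙ P).map (Cech.face Y a j.succAbove).op (f (a ∘ j.succAbove)) = 0) :
    dZ Y n ≫ toZ Y n f = 0 := by
  refine ((AddCommGrpCat.adj.whiskerRight Cᵒᵖ).homEquiv _ P).injective ?_
  ext V x
  change (dZ Y n ≫ toZ Y n f).app V (FreeAbelianGroup.of x : FreeAbelianGroup ((NF Y (n + 1)).obj V)) = 0
  refine (app_dZ_of Y n _ V x).trans ?_
  have h := congrArg (fun z => P.map (liftN Y (V := V.unop) x).left.op z) (hf fun k => (x.1 k).1)
  simp only [map_sum, map_zsmul, map_zero] at h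
  refine Eq.trans (Finset.sum_congr rfl fun j _ => congrArg _ ?_) h
  refine (toZ_of Y n f V (omit' Y j x)).trans ?_
  rw [liftN_omit Y (V := V.unop) x j]
  exact ConcreteCategory.congr_hom
    (P.map_comp (Cech.face Y (fun k => (x.1 k).1) j.succAbove).left.op (liftN Y (V := V.unop) x).left.op) _

/-- The tautological tuple. -/
noncomputable def canon {n : ℕ} (a : Fin (n + 1) → ι) : N Y n (∏ᶜ (Y ∘ a)).left :=
  ⟨fun k => mkP Y (a k) (Pi.π (Y ∘ a) k).left, fun k => by
    simp only [base, arr_mkP]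
    exact (Over.w (Pi.π (Y ∘ a) k)).trans (Over.w (Pi.π (Y ∘ a) 0)).symm⟩

set_option backward.isDefEq.respectTransparency false in
set_option backward.isDefEq.respectTransparency.types false in
theorem liftN_canon {n : ℕ} (a : Fin (n + 1) → ι) :
    (liftN Y (canon Y a)).left = 𝟙 (∏ᶜ (Y ∘ a)).left :=
  liftN_eq Y a _ _ (fun k => Category.id_comp _) _

set_option backward.isDefEq.respectTransparency false in
set_option backward.isDefEq.respectTransparency.types false in
theorem omit_canon {n : ℕ} (a : Fin (n + 2) → ι) (j : Fin (n + 2)) :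
    omit' Y j (canon Y a) =
      (NF Y n).map (Cech.face Y a j.succAbove).left.op (canon Y (a ∘ j.succAbove)) :=
  Subtype.ext (funext fun k => Sigma.ext rfl (heq_of_eq
    (congrArg (equivShrink _) (((congrArg CommaMorphism.left (Pi.lift_π _ k)).symm.trans (Over.comp_left _ _ _ _ _)).trans
      (congrArg (_ ≫ ·) (arr_mkP Y _ _).symm)))))

set_option backward.isDefEq.respectTransparency false in
set_option backward.isDefEq.respectTransparency.types false in
theorem acyclic (I : Cᵒᵖ ⥤ AddCommGrpCat.{w}) [Injective I] (p : ℕ) :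
    IsZero (((cechComplexFunctor Y).obj ((Over.forget U).op ⋙ I)).homology (p + 1)) := by
  rw [Cech.isZero_homology_succ_iff]
  intro f hf
  obtain ⟨y, hy⟩ := exists_factor Y p (toZ Y (p + 1) f) (dZ_toZ Y (p + 1) f hf)
  let y' : NF Y p ⟶ I ⋙ forget AddCommGrpCat.{w} := (AddCommGrpCat.adj.whiskerRight Cᵒᵖ).homEquiv _ I y
  refine ⟨fun a => y'.app (op (∏ᶜ (Y ∘ a)).left) (canon Y a), fun a => ?_⟩
  have h := (app_dZ_of Y p y (op (∏ᶜ (Y ∘ a)).left) (canon Y a)).symm.trans
    ((ConcreteCategory.congr_hom (NatTrans.congr_app hy (op (∏ᶜ (Y ∘ a)).left)) _).trans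
      (toZ_of Y (p + 1) f (op (∏ᶜ (Y ∘ a)).left) (canon Y a)))
  erw [liftN_canon, CategoryTheory.Functor.map_id] at h
  refine Eq.trans (Finset.sum_congr rfl fun j _ => congrArg _ ?_) h
  refine (NatTrans.naturality_apply y' (Cech.face Y a j.succAbove).left.op
    (canon Y (a ∘ j.succAbove))).symm.trans ?_
  exact congrArg (y'.app _) (omit_canon Y a j).symm

end Groth.Agent.EtCore45.CechInj
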