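import Groth.Agent.GalCoh84.Devissage
import Mathlib.GroupTheory.OrderOfElement

/-!
Constant sheaves of finite groups are torsion.
-/

set_option autoImplicit false
universe u

open CategoryTheory CategoryTheory.Limits AlgebraicGeometry Opposite

namespace Groth.Agent.EtCore45

/-- The order of a finite group kills its constant sheaf. -/
theorem card_nsmul_id_const (X : Scheme.{u}) (M : Type) [AddCommGroup M] [Finite M] :
    Nat.card M • 𝟙 (EtCoh.const X M) = 0 := by
  let A := AddCommGrpCat.of (ULift.{u + 1} M)
  have h : Nat.card M • 𝟙 A = 0 := by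
    refine ConcreteCategory.hom_ext _ _ fun a => ULift.ext _ _ ?_
    show Nat.card M • a.down = 0
    exact card_nsmul_eq_zero'
  have : (constantSheaf X.smallEtaleTopology AddCommGrpCat.{u + 1}).Additive := by
    have : (EtCore.gsec X).Additive := ⟨fun {_ _ _ _} => rfl⟩
    exact (EtCore.constAdj X).left_adjoint_additive
  show Nat.card M • 𝟙 ((constantSheaf X.smallEtaleTopology AddCommGrpCat.{u + 1}).obj A) = 0
  rw [← CategoryTheory.Functor.map_id, ← Functor.map_nsmul, h, Functor.map_zero]

/-- The constant sheaf of a finite group is torsion. -/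
theorem isTorsion_const (X : Scheme.{u}) (M : Type) [AddCommGroup M] [Finite M] :
    EtCoh.IsTorsion (EtCoh.const X M) :=
  GalCoh84.isTorsion_of_nsmul_id Nat.card_pos (card_nsmul_id_const X M)

end Groth.Agent.EtCore45
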