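import Groth.Agent.EtCore45.CompEtale
import Groth.Agent.EtCore45.Stalks
import Groth.Agent.Unr55.Et.Open

/-!
Stalks of restrictions and of extensions by zero along etale morphisms.
-/

set_option autoImplicit false
set_option backward.isDefEq.respectTransparency.types false
universe u

open CategoryTheory CategoryTheory.Limits AlgebraicGeometry Opposite
open Groth.Agent.Unr55.EtSh

namespace Groth.Agent.EtCore45

variable {U X : Scheme.{u}} (j : U ⟶ X) [Etale j] [EtShriek.JCont j] {Ω : Type u} [Field Ω] [IsSepClosed Ω]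
  {ξ : Spec (CommRingCat.of Ω) ⟶ X} {v : Spec (CommRingCat.of Ω) ⟶ U}

/-- A neighbourhood of a point upstairs as a neighbourhood of its image. -/
noncomputable def ptComp (h : v ≫ j = ξ) {V : U.Etale} (s : Pt v V) : Pt ξ ((EtShriek.compEtale j).obj V) :=
  mkPt _ (hom v s) ((Category.assoc _ _ _).symm.trans ((congrArg (· ≫ j) (Over.w s)).trans h))

/-- The comparison map from the stalk of a restriction. -/
noncomputable def restrStalkMap (h : v ≫ j = ξ) (G : EtCoh.Ab X) :
    (EtCoh.stalk v).obj ((EtShriek.restrAlong j).obj G) ⟶ (EtCoh.stalk ξ).obj G :=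
  (Scheme.pointSmallEtale v).presheafFiberDesc (P := ((EtShriek.restrAlong j).obj G).obj)
    (fun V s => (Scheme.pointSmallEtale ξ).toPresheafFiber ((EtShriek.compEtale j).obj V) (ptComp j h s) G.obj)
    (fun V W g s => by
      refine ((Scheme.pointSmallEtale ξ).toPresheafFiber_w ((EtShriek.compEtale j).map g) (ptComp j h s) G.obj).trans ?_
      rfl)

theorem restrStalkMap_germ (h : v ≫ j = ξ) (G : EtCoh.Ab X) {V : U.Etale} (s : Pt v V)
    (σ : EtCoh.sect G ((EtShriek.compEtale j).obj V)) :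
    restrStalkMap j h G (germ v ((EtShriek.restrAlong j).obj G) s σ) = germ ξ G (ptComp j h s) σ :=
  ConcreteCategory.congr_hom ((Scheme.pointSmallEtale v).toPresheafFiber_presheafFiberDesc
    (P := ((EtShriek.restrAlong j).obj G).obj) (fun V s =>
      (Scheme.pointSmallEtale ξ).toPresheafFiber ((EtShriek.compEtale j).obj V) (ptComp j h s) G.obj) _ V s) σ

theorem restrStalkMap_bijective (h : v ≫ j = ξ) (G : EtCoh.Ab X) :
    Function.Bijective (restrStalkMap j h G) := by
  constructor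
  · refine (injective_iff_map_eq_zero (restrStalkMap j h G).hom).2 fun a ha => ?_
    obtain ⟨V, s, σ, rfl⟩ := exists_germ_eq v ((EtShriek.restrAlong j).obj G) a
    obtain ⟨W, g, t, h1, h2⟩ := (germ_eq_zero_iff ξ G (ptComp j h s) σ).1
      ((restrStalkMap_germ j h G s σ).symm.trans ha)
    let O : V.left.Opens := ⟨(vanishing G σ).1, (vanishing G σ).2⟩
    have hs : hom v s default ∈ O :=
      range_le_vanishing G σ g h2 ⟨hom ξ t default, congrArg (fun q => hom ξ q default) h1⟩
    refine (germ_eq_zero_iff v ((EtShriek.restrAlong j).obj G) s σ).2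
      ⟨_, openSubι V O, ptOpen O s hs, map_ptOpen O s hs, ?_⟩
    exact (map_eq_zero_iff_range_le G σ ((EtShriek.compEtale j).map (openSubι V O))).2 (range_openSubι V O).le
  · intro a
    obtain ⟨W, w, τ, rfl⟩ := exists_germ_eq ξ G a
    have hW : Etale W.hom := W.prop
    let V : U.Etale := Scheme.Etale.mk (pullback.snd W.hom j)
    let s : Pt v V := mkPt _ (pullback.lift (hom ξ w) v ((Over.w w).trans h.symm)) (pullback.lift_snd _ _ _)
    let g : (EtShriek.compEtale j).obj V ⟶ W :=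
      MorphismProperty.Over.homMk (pullback.fst W.hom j) pullback.condition trivial
    refine ⟨germ v ((EtShriek.restrAlong j).obj G) s (G.obj.map g.op τ), ?_⟩
    rw [restrStalkMap_germ, germ_map]
    exact congrArg (fun p => germ ξ G p τ) (Over.OverMorphism.ext (pullback.lift_fst _ _ _))

/-- The canonical map from the stalk upstairs to the stalk of the extension by zero. -/
noncomputable def extZeroStalkMap (h : v ≫ j = ξ) (F : EtCoh.Ab U) :
    (EtCoh.stalk v).obj F ⟶ (EtCoh.stalk ξ).obj ((EtShriek.extZero j).obj F) :=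
  (EtCoh.stalk v).map ((EtShriek.extZeroAdj j).unit.app F) ≫ restrStalkMap j h ((EtShriek.extZero j).obj F)

theorem extZeroStalkMap_germ (h : v ≫ j = ξ) (F : EtCoh.Ab U) {V : U.Etale} (s : Pt v V)
    (σ : EtCoh.sect F V) :
    extZeroStalkMap j h F (germ v F s σ) = germ ξ ((EtShriek.extZero j).obj F) (ptComp j h s)
      (((EtShriek.extZeroAdj j).unit.app F).hom.app (op V) σ) :=
  (congrArg (restrStalkMap j h ((EtShriek.extZero j).obj F))
    (stalk_map_germ v ((EtShriek.extZeroAdj j).unit.app F) s σ)).trans (restrStalkMap_germ j h _ s _)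

variable (ξ)

/-- The points above a geometric point. -/
abbrev Above : Type u := {v : Spec (CommRingCat.of Ω) ⟶ U // v ≫ j = ξ}

variable {j ξ}

omit [EtShriek.JCont j] in
theorem comp_above {V : U.Etale} (t : Pt ξ ((EtShriek.compEtale j).obj V)) :
    (hom ξ t ≫ V.hom) ≫ j = ξ :=
  (Category.assoc _ _ _).trans (Over.w t)

omit [EtShriek.JCont j] in
omit [Etale j] in
theorem component_congr (F : EtCoh.Ab U) {M : AddCommGrpCat.{u + 1}}
    (c : ∀ v : Above j ξ, (EtCoh.stalk v.1).obj F ⟶ M) {V : U.Etale} (v w : Above j ξ) (e : v = w)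
    (s : Pt v.1 V) (t : Pt w.1 V) (hst : hom v.1 s = hom w.1 t) (σ : EtCoh.sect F V) :
    c v (germ v.1 F s σ) = c w (germ w.1 F t σ) := by
  subst e
  rw [Over.OverMorphism.ext hst]

omit [EtShriek.JCont j] in
theorem sky_map_π (M : AddCommGrpCat.{u + 1}) {A B : X.Etale} (k : B ⟶ A) (t : Pt ξ B) :
    ((Scheme.pointSmallEtale ξ).skyscraperPresheaf M).map k.op ≫ Pi.π (fun _ : Pt ξ B => M) t =
      Pi.π (fun _ : Pt ξ A => M) ((Scheme.pointSmallEtale ξ).fiber.map k t) :=
  Pi.lift_π _ _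

/-- The component at a neighbourhood. -/
noncomputable def skyComp (F : EtCoh.Ab U) {M : AddCommGrpCat.{u + 1}}
    (c : ∀ v : Above j ξ, (EtCoh.stalk v.1).obj F ⟶ M) (V : U.Etale)
    (t : Pt ξ ((EtShriek.compEtale j).obj V)) : F.obj.obj (op V) ⟶ M :=
  (Scheme.pointSmallEtale (hom ξ t ≫ V.hom)).toPresheafFiber V (mkPt _ (hom ξ t) rfl) F.obj ≫
    c ⟨_, comp_above t⟩

omit [Etale j] [EtShriek.JCont j] in
theorem component_nat (F : EtCoh.Ab U) {M : AddCommGrpCat.{u + 1}}
    (c : ∀ v : Above j ξ, (EtCoh.stalk v.1).obj F ⟶ M) {V W : U.Etale} (g : W ⟶ V) (v w : Above j ξ)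
    (e : v = w) (s : Pt v.1 W) (s' : Pt w.1 V) (hs : hom v.1 s ≫ g.left = hom w.1 s')
    (σ : EtCoh.sect F V) :
    c v (germ v.1 F s (F.obj.map g.op σ)) = c w (germ w.1 F s' σ) := by
  rw [germ_map]
  exact component_congr F c v w e _ s' hs σ

omit [EtShriek.JCont j] in
theorem skyComp_nat (F : EtCoh.Ab U) {M : AddCommGrpCat.{u + 1}}
    (c : ∀ v : Above j ξ, (EtCoh.stalk v.1).obj F ⟶ M) {V W : U.Etale} (g : W ⟶ V)
    (t : Pt ξ ((EtShriek.compEtale j).obj W)) (t' : Pt ξ ((EtShriek.compEtale j).obj V))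
    (ht : (hom ξ t : Spec (CommRingCat.of Ω) ⟶ W.left) ≫ g.left = hom ξ t') :
    F.obj.map g.op ≫ skyComp F c W t = skyComp F c V t' := by
  let l : Spec (CommRingCat.of Ω) ⟶ W.left := hom ξ t
  let l' : Spec (CommRingCat.of Ω) ⟶ V.left := hom ξ t'
  let v : Above j ξ := ⟨l ≫ W.hom, comp_above t⟩
  let w : Above j ξ := ⟨l' ≫ V.hom, comp_above t'⟩
  have e : v = w := Subtype.ext (by
    change l ≫ W.hom = l' ≫ V.hom
    rw [show l' = l ≫ g.left from ht.symm, Category.assoc]
    exact congrArg (l ≫ ·) (Over.w g.hom).symm)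
  refine ConcreteCategory.hom_ext _ _ fun σ => ?_
  exact component_nat F c g v w e (mkPt _ l rfl) (mkPt _ l' rfl) ht σ

omit [EtShriek.JCont j] in
theorem skyLift_naturality (F : EtCoh.Ab U) {M : AddCommGrpCat.{u + 1}}
    (c : ∀ v : Above j ξ, (EtCoh.stalk v.1).obj F ⟶ M) {V W : U.Etale} (g : W ⟶ V) :
    F.obj.map g.op ≫ (Pi.lift fun t : Pt ξ ((EtShriek.compEtale j).obj W) => skyComp F c W t) =
      (Pi.lift fun t : Pt ξ ((EtShriek.compEtale j).obj V) => skyComp F c V t) ≫
        ((Scheme.pointSmallEtale ξ).skyscraperPresheaf M).map ((EtShriek.compEtale j).map g).op := by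
  refine Pi.hom_ext _ _ fun t => ?_
  refine (Category.assoc _ _ _).trans ((congrArg (F.obj.map g.op ≫ ·) (Pi.lift_π _ t)).trans ?_)
  refine Eq.trans ?_ (Category.assoc _ _ _).symm
  refine Eq.trans ?_ (congrArg (_ ≫ ·) (sky_map_π M ((EtShriek.compEtale j).map g) t)).symm
  refine Eq.trans ?_ (Pi.lift_π (fun t => skyComp F c V t) _).symm
  exact skyComp_nat F c g t _ rfl

/-- The map to the restricted skyscraper given by components. -/
noncomputable def skyHom (F : EtCoh.Ab U) {M : AddCommGrpCat.{u + 1}}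
    (c : ∀ v : Above j ξ, (EtCoh.stalk v.1).obj F ⟶ M) :
    F ⟶ (EtShriek.restrAlong j).obj ((Scheme.pointSmallEtale ξ).skyscraperSheaf M) :=
  ⟨{ app := fun V => Pi.lift fun t : Pt ξ ((EtShriek.compEtale j).obj V.unop) => skyComp F c V.unop t
     naturality := fun _ _ g => skyLift_naturality F c g.unop }⟩

theorem skyHom_π (F : EtCoh.Ab U) {M : AddCommGrpCat.{u + 1}}
    (c : ∀ v : Above j ξ, (EtCoh.stalk v.1).obj F ⟶ M) (V : U.Etale)
    (t : Pt ξ ((EtShriek.compEtale j).obj V)) :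
    (skyHom F c).hom.app (op V) ≫ Pi.π (fun _ : Pt ξ ((EtShriek.compEtale j).obj V) => M) t =
      skyComp F c V t :=
  Pi.lift_π _ _

omit [EtShriek.JCont j] in
theorem skyComp_ptComp (F : EtCoh.Ab U) {M : AddCommGrpCat.{u + 1}}
    (c : ∀ v : Above j ξ, (EtCoh.stalk v.1).obj F ⟶ M) (w : Above j ξ) {V : U.Etale} (s : Pt w.1 V)
    (σ : EtCoh.sect F V) : skyComp F c V (ptComp j w.2 s) σ = c w (germ w.1 F s σ) :=
  component_congr F c ⟨hom w.1 s ≫ V.hom, comp_above (ptComp j w.2 s)⟩ w (Subtype.ext (Over.w s))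
    (mkPt _ (hom w.1 s) rfl) s rfl σ

/-- The family of components assembled into a map of sheaves. -/
theorem exists_desc (F : EtCoh.Ab U) {M : AddCommGrpCat.{u + 1}}
    (c : ∀ v : Above j ξ, (EtCoh.stalk v.1).obj F ⟶ M) :
    ∃ r : (EtCoh.stalk ξ).obj ((EtShriek.extZero j).obj F) ⟶ M,
      ∀ v : Above j ξ, extZeroStalkMap j v.2 F ≫ r = c v := by
  let Φ := Scheme.pointSmallEtale ξ
  let φ := skyHom F c
  let ψ := ((EtShriek.extZeroAdj j).homEquiv F (Φ.skyscraperSheaf M)).symm φ
  let r := (Φ.skyscraperSheafAdjunction.homEquiv ((EtShriek.extZero j).obj F) M).symm ψ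
  refine ⟨r, fun ⟨v, hv⟩ => ConcreteCategory.hom_ext _ _ fun a => ?_⟩
  obtain ⟨V, s, σ, rfl⟩ := exists_germ_eq v F a
  rw [ConcreteCategory.comp_apply, extZeroStalkMap_germ]
  have h : (EtShriek.extZeroAdj j).unit.app F ≫ (EtShriek.restrAlong j).map ψ = φ :=
    ((EtShriek.extZeroAdj j).homEquiv_unit _ _ ψ).symm.trans (Equiv.apply_symm_apply _ _)
  have hr : Φ.toPresheafFiber ((EtShriek.compEtale j).obj V) (ptComp j hv s) ((EtShriek.extZero j).obj F).obj ≫ r =
      ψ.hom.app (op ((EtShriek.compEtale j).obj V)) ≫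
        Pi.π (fun _ : Pt ξ ((EtShriek.compEtale j).obj V) => M) (ptComp j hv s) :=
    (congrArg (Φ.toPresheafFiber ((EtShriek.compEtale j).obj V) (ptComp j hv s) ((EtShriek.extZero j).obj F).obj ≫ ·)
      (Φ.skyscraperSheafAdjunction_homEquiv_symm_apply ψ)).trans
      (Φ.toPresheafFiber_skyscraperPresheafHomEquiv_symm ψ.hom _ _)
  refine (ConcreteCategory.congr_hom hr (((EtShriek.extZeroAdj j).unit.app F).hom.app (op V) σ)).trans ?_
  have h' : φ.hom.app (op V) ≫ Pi.π (fun _ : Pt ξ ((EtShriek.compEtale j).obj V) => M) (ptComp j hv s) =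
      skyComp F c V (ptComp j hv s) := skyHom_π F c V _
  rw [← h] at h'
  exact (ConcreteCategory.congr_hom h' σ).trans (skyComp_ptComp F c ⟨v, hv⟩ s σ)

/-- Maps out of the stalk of an extension by zero are determined by their components. -/
theorem extZeroStalk_cancel (F : EtCoh.Ab U) {M : AddCommGrpCat.{u + 1}}
    {h₁ h₂ : (EtCoh.stalk ξ).obj ((EtShriek.extZero j).obj F) ⟶ M}
    (h : ∀ v : Above j ξ, extZeroStalkMap j v.2 F ≫ h₁ = extZeroStalkMap j v.2 F ≫ h₂) : h₁ = h₂ := by
  let Φ := Scheme.pointSmallEtale ξ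
  apply (Φ.skyscraperSheafAdjunction.homEquiv ((EtShriek.extZero j).obj F) M).injective
  apply ((EtShriek.extZeroAdj j).homEquiv F (Φ.skyscraperSheaf M)).injective
  have key : ∀ (k : (EtCoh.stalk ξ).obj ((EtShriek.extZero j).obj F) ⟶ M) (V : U.Etale)
      (t : Pt ξ ((EtShriek.compEtale j).obj V)) (σ : EtCoh.sect F V),
      Pi.π (fun _ : Pt ξ ((EtShriek.compEtale j).obj V) => M) t
        ((((EtShriek.extZeroAdj j).homEquiv F (Φ.skyscraperSheaf M))
          ((Φ.skyscraperSheafAdjunction.homEquiv ((EtShriek.extZero j).obj F) M) k)).hom.app (op V) σ) =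
      k (extZeroStalkMap j (comp_above t) F (germ (hom ξ t ≫ V.hom) F (mkPt _ (hom ξ t) rfl) σ)) := by
    intro k V t σ
    rw [extZeroStalkMap_germ, Adjunction.homEquiv_unit]
    have h1 := Φ.skyscraperSheafAdjunction_homEquiv_apply_hom (F := (EtShriek.extZero j).obj F) (M := M) k
    have h2 : ((Φ.skyscraperSheafAdjunction.homEquiv ((EtShriek.extZero j).obj F) M) k).hom.app
        (op ((EtShriek.compEtale j).obj V)) ≫ Pi.π (fun _ : Pt ξ ((EtShriek.compEtale j).obj V) => M) t =
        Φ.toPresheafFiber ((EtShriek.compEtale j).obj V) t ((EtShriek.extZero j).obj F).obj ≫ k := by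
      exact (congrArg (fun (N : _ ⟶ Φ.skyscraperPresheaf M) =>
        N.app (op ((EtShriek.compEtale j).obj V)) ≫ Pi.π (fun _ : Pt ξ ((EtShriek.compEtale j).obj V) => M) t) h1).trans
        (Φ.skyscraperPresheafHomEquiv_app_π k _ t)
    exact ConcreteCategory.congr_hom h2 (((EtShriek.extZeroAdj j).unit.app F).hom.app (op V) σ)
  refine ObjectProperty.hom_ext _ (NatTrans.ext (funext fun V => ?_))
  refine Pi.hom_ext _ _ fun t => ConcreteCategory.hom_ext _ _ fun σ => ?_
  rw [ConcreteCategory.comp_apply, ConcreteCategory.comp_apply]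
  exact (key h₁ V.unop t σ).trans
    ((ConcreteCategory.congr_hom (h ⟨_, comp_above t⟩) _).trans (key h₂ V.unop t σ).symm)

/-- The stalk of an extension by zero is the coproduct of the stalks above. -/
noncomputable def extZeroStalkIsColimit (F : EtCoh.Ab U) :
    IsColimit (Cofan.mk ((EtCoh.stalk ξ).obj ((EtShriek.extZero j).obj F))
      fun v : Above j ξ => extZeroStalkMap j v.2 F) :=
  Cofan.IsColimit.mk _ (fun s => (exists_desc F fun v => s.inj v).choose)
    (fun s v => (exists_desc F fun v => s.inj v).choose_spec v)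
    (fun s m hm => extZeroStalk_cancel F fun v =>
      (hm v).trans ((exists_desc F fun v => s.inj v).choose_spec v).symm)

theorem isZero_extZero_stalk (F : EtCoh.Ab U) (h : IsEmpty (Above j ξ)) :
    IsZero ((EtCoh.stalk ξ).obj ((EtShriek.extZero j).obj F)) := by
  rw [IsZero.iff_id_eq_zero]
  exact extZeroStalk_cancel F fun v => h.elim v

theorem extZeroStalkMap_bijective_of_mono [Mono j] (h : v ≫ j = ξ) (F : EtCoh.Ab U) :
    Function.Bijective (extZeroStalkMap j h F) := by
  have e : ∀ w : Above j ξ, w = ⟨v, h⟩ := fun w => Subtype.ext ((cancel_mono j).1 (w.2.trans h.symm))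
  obtain ⟨r, hr⟩ := exists_desc (j := j) (ξ := ξ) F fun w =>
    eqToHom (congrArg (fun z : Above j ξ => (EtCoh.stalk z.1).obj F) (e w))
  have hr1 : extZeroStalkMap j h F ≫ r = 𝟙 _ := (hr ⟨v, h⟩).trans (eqToHom_refl _ rfl)
  have hr2 : r ≫ extZeroStalkMap j h F = 𝟙 _ := extZeroStalk_cancel F fun w => by
    obtain rfl := e w
    rw [← Category.assoc, hr1, Category.id_comp, Category.comp_id]
  exact Function.bijective_iff_has_inverse.2
    ⟨r, fun a => ConcreteCategory.congr_hom hr1 a, fun a => ConcreteCategory.congr_hom hr2 a⟩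

end Groth.Agent.EtCore45
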