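import Groth.Agent.EtCore45.StalkTriv
import Groth.Agent.EtCore45.MVSect
import Groth.Agent.Unr55.Et.RepDescend
import Groth.Agent.Unr55.Et.Pull
import Groth.Agent.S0107
import Mathlib.Algebra.Field.ZMod

/-!
The finite etale scheme of nonzero points of a finite locally constant sheaf, and its tautological section.
-/

set_option autoImplicit false
set_option backward.isDefEq.respectTransparency.types false
universe u

open CategoryTheory CategoryTheory.Limits AlgebraicGeometry Opposite
open Groth.Agent.Unr55.EtSh Groth.Agent.LocConst45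

namespace Groth.Agent.EtCore45

variable {X : Scheme.{u}}

/-- `τ` makes `G` represent `F`. -/
def IsRep (F : EtCoh.Ab X) (G : X.Etale) (τ : EtCoh.sect F G) : Prop :=
  ∀ W : X.Etale, Function.Bijective fun b : W ⟶ G => F.obj.map b.op τ

theorem exists_rep {F : EtCoh.Ab X} (h : EtCoh.IsFiniteLocallyConstant F) :
    ∃ (G : X.Etale) (_ : IsFinite G.hom) (τ : EtCoh.sect F G), IsRep F G τ := by
  obtain ⟨G, hG, ⟨e⟩⟩ := Groth.Agent.S0107.result F h
  refine ⟨G, hG, e.inv.app (op G) ⟨𝟙 G⟩, fun W => ?_⟩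
  have h1 : (fun b : W ⟶ G => F.obj.map b.op (e.inv.app (op G) ⟨𝟙 G⟩)) =
      fun b : W ⟶ G => e.inv.app (op W) ⟨b⟩ := funext fun b => by
    refine (NatTrans.naturality_apply e.inv b.op ⟨𝟙 G⟩).symm.trans ?_
    exact congrArg (fun z => e.inv.app (op W) (ULift.up z)) (Category.comp_id b)
  rw [h1]
  exact (ConcreteCategory.bijective_of_isIso (e.inv.app (op W))).comp
    (Equiv.ulift.symm : (W ⟶ G) ≃ ULift.{u + 1} (W ⟶ G)).bijective

variable {F : EtCoh.Ab X} {G : X.Etale} {τ : EtCoh.sect F G} (hG : IsRep F G τ)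

include hG in
theorem rep_points_bijective {Ω : Type u} [Field Ω] [IsSepClosed Ω] (η : Spec (CommRingCat.of Ω) ⟶ X) :
    Function.Bijective fun p : Pt η G => germ η F p τ := by
  refine ⟨fun p p' e => ?_, fun s => ?_⟩
  · have : Etale G.hom := G.prop
    let P : X.Etale := Scheme.Etale.mk (pullback.fst G.hom G.hom ≫ G.hom)
    let a : P ⟶ G := MorphismProperty.Over.homMk (pullback.fst G.hom G.hom) rfl trivial
    let b : P ⟶ G := MorphismProperty.Over.homMk (pullback.snd G.hom G.hom) pullback.condition.symm trivial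
    have hp : hom η p ≫ G.hom = η := Over.w p
    have hp' : hom η p' ≫ G.hom = η := Over.w p'
    let t : Pt η P := mkPt η (pullback.lift (hom η p) (hom η p') (hp.trans hp'.symm))
      ((pullback.lift_fst_assoc _ _ _ _).trans hp)
    have ha : (Scheme.pointSmallEtale η).fiber.map a t = p := Over.OverMorphism.ext (pullback.lift_fst _ _ _)
    have hb : (Scheme.pointSmallEtale η).fiber.map b t = p' := Over.OverMorphism.ext (pullback.lift_snd _ _ _)
    have h0 : germ η F t (F.obj.map a.op τ - F.obj.map b.op τ) = 0 := by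
      rw [map_sub, germ_map, germ_map, ha, hb, sub_eq_zero]
      exact e
    obtain ⟨V, g, t', ht', hg⟩ := (germ_eq_zero_iff η F t _).1 h0
    rw [map_sub, sub_eq_zero, ← map_comp', ← map_comp'] at hg
    rw [← ha, ← hb, ← ht', ← ConcreteCategory.comp_apply, ← ConcreteCategory.comp_apply, ← Functor.map_comp,
      ← Functor.map_comp, (hG V).1 hg]
  · obtain ⟨W, t, s, rfl⟩ := exists_germ_eq η F s
    obtain ⟨b, rfl⟩ := (hG W).2 s
    exact ⟨(Scheme.pointSmallEtale η).fiber.map b t, (germ_map η F b t τ).symm⟩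

include hG in
/-- The step: a finite etale scheme with prime to `ℓ` degree over which `F` acquires a constant subsheaf. -/
theorem exists_step [IsFinite G.hom] {ℓ : ℕ} [hp : Fact ℓ.Prime] {n : ℕ} (hn : RankN ℓ F (n + 1))
    (hℓ : EtCoh.KilledBy ℓ F) :
    ∃ (T : Scheme.{u}) (f : T ⟶ X) (_ : IsFinite f) (_ : AlgebraicGeometry.Etale f),
      (∀ (Ω : Type u) [Field Ω] [IsAlgClosed Ω] (η : Spec (CommRingCat.of Ω) ⟶ X),
        Nat.card {t : Spec (CommRingCat.of Ω) ⟶ T // t ≫ f = η} = ℓ ^ (n + 1) - 1) ∧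
      ∃ φ : EtCoh.const T (ZMod ℓ) ⟶ (EtCoh.pull f).obj F, Mono φ := by
  have : Etale G.hom := G.prop
  obtain ⟨z, hz : F.obj.map z.op τ = 0⟩ := (hG (EtCoh.top X)).2 0
  let zl : X ⟶ G.left := z.left
  have hzs : zl ≫ G.hom = 𝟙 X := MorphismProperty.Over.w z
  have : Etale zl := EtCore45.etale_left z
  have : Mono zl := by
    have : Mono (zl ≫ G.hom) := by rw [hzs]; infer_instance
    exact mono_of_mono zl G.hom
  have : IsOpenImmersion zl := IsOpenImmersion.of_flat_of_mono zl
  have : IsClosedImmersion zl := by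
    have : IsClosedImmersion (zl ≫ G.hom) := by rw [hzs]; infer_instance
    exact IsClosedImmersion.of_comp zl G.hom
  let O : G.left.Opens := ⟨(Set.range zl)ᶜ, zl.isClosedEmbedding.isClosed_range.isOpen_compl⟩
  have : IsClosedImmersion O.ι := by
    refine IsClosedImmersion.of_isPreimmersion _ ?_
    rw [Scheme.Opens.range_ι]
    exact zl.isOpenEmbedding.isOpen_range.isClosed_compl
  let f : (O : Scheme.{u}) ⟶ X := O.ι ≫ G.hom
  have hf : IsFinite f := inferInstance
  refine ⟨O, f, hf, inferInstance, fun Ω _ _ η => ?_, ?_⟩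
  · let z₀ : Pt η G := mkPt η (η ≫ zl) (by rw [Category.assoc, hzs, Category.comp_id])
    have hz₀ : germ η F z₀ τ = 0 := by
      let t₀ : Pt η (EtCoh.top X) := mkPt η η (Category.comp_id _)
      have e : (Scheme.pointSmallEtale η).fiber.map z t₀ = z₀ := Over.OverMorphism.ext rfl
      rw [← e, ← germ_map, hz, map_zero]
    have hne : ∀ p : Pt η G, p ≠ z₀ → hom η p default ∈ O := by
      intro p hp hmem
      refine hp (Over.OverMorphism.ext ?_)
      let l := IsOpenImmersion.lift zl (hom η p) (by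
        rintro _ ⟨a, rfl⟩
        rwa [default_eq a])
      have hl : l ≫ zl = hom η p := IsOpenImmersion.lift_fac _ _ _
      have e : l = η := by
        calc l = l ≫ zl ≫ G.hom := by rw [hzs, Category.comp_id]
          _ = hom η p ≫ G.hom := by rw [← Category.assoc, hl]
          _ = η := Over.w p
      exact hl.symm.trans (congrArg (· ≫ zl) e)
    let E : {t : Spec (CommRingCat.of Ω) ⟶ (O : Scheme.{u}) // t ≫ f = η} → {p : Pt η G // p ≠ z₀} := fun t =>
      ⟨mkPt η (t.1 ≫ O.ι) ((Category.assoc _ _ _).trans t.2), fun e => by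
        have h1 : (t.1 ≫ O.ι) default = (η ≫ zl) default :=
          congrArg (fun p : Pt η G => hom η p default) e
        exact (t.1 default).2 ⟨η default, h1.symm⟩⟩
    have hE : Function.Bijective E := by
      refine ⟨fun a b e => Subtype.ext ?_, fun p => ?_⟩
      · exact (cancel_mono O.ι).1 (congrArg (fun p : {p : Pt η G // p ≠ z₀} => hom η p.1) e)
      · have hr : Set.range (hom η p.1) ⊆ Set.range O.ι := by
          rintro _ ⟨a, rfl⟩
          rw [Scheme.Opens.range_ι, default_eq a]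
          exact hne p.1 p.2
        refine ⟨⟨IsOpenImmersion.lift O.ι (hom η p.1) hr, ?_⟩, Subtype.ext (Over.OverMorphism.ext ?_)⟩
        · rw [← Category.assoc, IsOpenImmersion.lift_fac]
          exact Over.w p.1
        · exact IsOpenImmersion.lift_fac _ _ _
    classical
    rw [Nat.card_eq_of_bijective E hE]
    let Ψ := Equiv.ofBijective _ (rep_points_bijective hG η)
    have : Finite ((EtCoh.stalk η).obj F : AddCommGrpCat.{u + 1}) :=
      Nat.finite_of_card_ne_zero (by rw [hn Ω η]; exact pow_ne_zero _ hp.out.ne_zero)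
    rw [Nat.card_congr (Ψ.subtypeEquiv (p := fun p => p ≠ z₀)
      (q := fun s => s ≠ 0) (fun p => ⟨fun h e => h (Ψ.injective (e.trans hz₀.symm)), fun h e => h (e ▸ hz₀)⟩))]
    have h1 := Nat.card_congr (Equiv.sumCompl (fun s : ((EtCoh.stalk η).obj F : AddCommGrpCat.{u + 1}) => s = 0)).symm
    rw [Nat.card_sum, hn Ω η, Nat.card_unique] at h1
    change Nat.card {s : ((EtCoh.stalk η).obj F : AddCommGrpCat.{u + 1}) // ¬s = 0} = _
    omega
  · let i : (EtShriek.compEtale f).obj (EtCoh.top (O : Scheme.{u})) ⟶ G :=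
      MorphismProperty.Over.homMk O.ι (Category.id_comp _).symm trivial
    obtain ⟨s, hs⟩ := (MV.pullSect_bijective f F (EtCoh.top (O : Scheme.{u}))).2 (F.obj.map i.op τ)
    have hinj : ∀ (V : (O : Scheme.{u}).Etale) (g : V ⟶ EtCoh.top (O : Scheme.{u})), Nonempty V.left →
        ((EtCoh.pull f).obj F).obj.map g.op s ≠ 0 := by
      rintro V g ⟨v⟩ h0
      have h1 := congrArg (MV.pullSect f F V) h0
      rw [MV.pullSect_map, hs, map_zero, ← map_comp'] at h1
      let d := (EtCore.topIsTerminal X).from ((EtShriek.compEtale f).obj V)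
      have h2 : F.obj.map (d ≫ z).op τ = 0 := by rw [map_comp', hz, map_zero]
      have e := congrArg (fun k : (EtShriek.compEtale f).obj V ⟶ G => k.left v) ((hG _).1 (h1.trans h2.symm))
      exact (g.left v).2 ⟨d.left v, e.symm⟩
    have hℓs : ℓ • s = 0 := (MV.pullSect_bijective f F _).1 (by
      rw [map_nsmul, map_zero]
      exact hℓ _ _)
    let h₀ : ZMod ℓ →+ EtCoh.sect ((EtCoh.pull f).obj F) (EtCoh.top (O : Scheme.{u})) :=
      ZMod.lift ℓ ⟨zmultiplesHom _ s, by simp [hℓs]⟩
    let h : ULift.{u + 1} (ZMod ℓ) →+ EtCoh.sect ((EtCoh.pull f).obj F) (EtCoh.top (O : Scheme.{u})) :=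
      AddMonoidHom.mk' (fun m => h₀ m.down) (fun a b => map_add h₀ a.down b.down)
    have hval : ∀ m : ℤ, h ⟨(m : ZMod ℓ)⟩ = m • s := fun m => by
      change h₀ (m : ZMod ℓ) = m • s
      simp only [h₀, ZMod.lift_coe, zmultiplesHom_apply]
    let M := AddCommGrpCat.of (ULift.{u + 1} (ZMod ℓ))
    let φ : EtCoh.const (O : Scheme.{u}) (ZMod ℓ) ⟶ (EtCoh.pull f).obj F :=
      ((EtCore.constAdj (O : Scheme.{u})).homEquiv M _).symm (AddCommGrpCat.ofHom h)
    have hφ : ∀ m, φ.hom.app (op (EtCoh.top _)) (constσ M _ m) = h m := fun m =>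
      ConcreteCategory.congr_hom ((((EtCore.constAdj (O : Scheme.{u})).homEquiv_unit M _ φ).symm.trans
        (((EtCore.constAdj (O : Scheme.{u})).homEquiv M _).apply_symm_apply (AddCommGrpCat.ofHom h)))) m
    refine ⟨φ, mono_of_stalks φ fun K _ _ ξ => ?_⟩
    let t : Pt ξ (EtCoh.top (O : Scheme.{u})) := mkPt ξ ξ (Category.comp_id _)
    refine (injective_iff_map_eq_zero _).2 fun a ha => ?_
    obtain ⟨m, rfl⟩ := (triv_germ_bijective (isTriv_const M (EtCoh.top (O : Scheme.{u}))) t).2 a
    rw [stalk_map_germ] at ha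
    erw [hφ] at ha
    obtain ⟨V, g, t', -, hg⟩ := (germ_eq_zero_iff ξ _ t (h m)).1 ha
    obtain ⟨m⟩ := m
    obtain ⟨k, rfl⟩ := ZMod.intCast_surjective m
    suffices (k : ZMod ℓ) = 0 by
      rw [this]
      exact (congrArg (germ ξ _ t) (map_zero (constσ M _))).trans (map_zero _)
    by_contra hk
    obtain ⟨k', hk'⟩ := ZMod.intCast_surjective ((k : ZMod ℓ)⁻¹)
    have e : s = k' • h ⟨(k : ZMod ℓ)⟩ := by
      have h1 : ((k' * k : ℤ) : ZMod ℓ) = ((1 : ℤ) : ZMod ℓ) := by
        push_cast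
        rw [hk']
        exact ZMod.inv_mul_of_unit (k : ZMod ℓ) (isUnit_iff_ne_zero.2 hk)
      rw [hval, smul_smul, ← hval, h1, hval, one_zsmul]
    refine hinj V g ⟨hom ξ t' default⟩ ?_
    rw [e, map_zsmul, hg, smul_zero]

end Groth.Agent.EtCore45
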