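import Groth.Agent.Unr55.Et.Open
import Groth.Prelude.Def_EtCore

/-!
The sheaf condition for Galois covers, subsheaves of the final sheaf.
-/

set_option autoImplicit false
set_option backward.isDefEq.respectTransparency.types false
universe u v w

open CategoryTheory CategoryTheory.Limits AlgebraicGeometry Opposite
open Groth.Agent.Unr55.EtSh

namespace Groth.Agent.EtCore45

variable {X : Scheme.{u}}

theorem pmap_map {C : Type*} [Category C] (P : Cᵒᵖ ⥤ Type w) {a b c : C} (α : a ⟶ b) (β : b ⟶ c)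
    (x : P.obj (op c)) : P.map α.op (P.map β.op x) = P.map (α ≫ β).op x :=
  (ConcreteCategory.congr_hom (P.map_comp β.op α.op) x).symm

section

variable {Y : X.Etale} {G : Type v} (σ : G → (Y ⟶ Y))

/-- Compatibility along `Y → X` read on the components of `Y ⨯ Y`. -/
theorem isSheafFor_galois (P : X.Etaleᵒᵖ ⥤ Type w)
    (hP : Function.Injective (fun s : P.obj (op (Y ⨯ Y)) => fun g : G => P.map (prod.lift (𝟙 Y) (σ g)).op s)) :
    Presieve.IsSheafFor P (Presieve.singleton ((EtCore.topIsTerminal X).from Y)) ↔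
      (Function.Injective (P.map ((EtCore.topIsTerminal X).from Y).op) ∧
        Set.range (P.map ((EtCore.topIsTerminal X).from Y).op) = {s | ∀ g : G, P.map (σ g).op s = s}) := by
  have hinv : ∀ s : P.obj (op Y), (∀ g, P.map (σ g).op s = s) →
      ∀ {Z : X.Etale} (p₁ p₂ : Z ⟶ Y), P.map p₁.op s = P.map p₂.op s := by
    intro s hs Z p₁ p₂
    have e : P.map (prod.fst (X := Y) (Y := Y)).op s = P.map (prod.snd (X := Y) (Y := Y)).op s := hP (funext fun g => by
      change P.map (prod.lift (𝟙 Y) (σ g)).op (P.map _ s) = P.map (prod.lift (𝟙 Y) (σ g)).op (P.map _ s)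
      rw [pmap_map, pmap_map, prod.lift_fst, prod.lift_snd, hs g]
      simp)
    have e' := congrArg (fun r => P.map (prod.lift p₁ p₂).op r) e
    simpa only [pmap_map, prod.lift_fst, prod.lift_snd] using e'
  have hrange : ∀ y (g : G), P.map (σ g).op (P.map ((EtCore.topIsTerminal X).from Y).op y) =
      P.map ((EtCore.topIsTerminal X).from Y).op y := fun y g => by
    rw [pmap_map, (EtCore.topIsTerminal X).hom_ext (σ g ≫ _) ((EtCore.topIsTerminal X).from Y)]
  rw [Presieve.isSheafFor_singleton]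
  constructor
  · intro h
    refine ⟨fun a b hab => ?_, Set.Subset.antisymm ?_ ?_⟩
    · exact (h (P.map _ b) fun p₁ p₂ w => by rw [pmap_map, pmap_map, w]).unique hab rfl
    · rintro _ ⟨y, rfl⟩
      exact hrange y
    · intro s hs
      exact (h s fun p₁ p₂ _ => hinv s hs p₁ p₂).exists
  · rintro ⟨hi, hr⟩ s hs
    obtain ⟨y, rfl⟩ : s ∈ Set.range (P.map ((EtCore.topIsTerminal X).from Y).op) := by
      rw [hr]
      intro g
      exact (hs (σ g) (𝟙 Y) ((EtCore.topIsTerminal X).hom_ext _ _)).trans (by simp)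
    exact ⟨y, rfl, fun z hz => hi hz⟩

variable (hgal : IsColimit (Cofan.mk (Y ⨯ Y) (fun g : G => prod.lift (𝟙 Y) (σ g))))

include hgal in
theorem cofan_jointly_surjective (z : (Y ⨯ Y).left) :
    ∃ (g : G) (y : Y.left), (prod.lift (𝟙 Y) (σ g)).left y = z := by
  let W : (Y ⨯ Y).left.Opens := ⟨⋃ g : G, Set.range (prod.lift (𝟙 Y) (σ g)).left,
    isOpen_iUnion fun g => isOpen_range_left _⟩
  have hW : ∀ g, Set.range (prod.lift (𝟙 Y) (σ g)).left ⊆ Set.range W.ι := fun g => by
    rw [W.range_ι]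
    exact Set.subset_iUnion (fun g : G => Set.range (prod.lift (𝟙 Y) (σ g)).left) g
  let l : ∀ g : G, Y ⟶ openSub (Y ⨯ Y) W := fun g => MorphismProperty.Over.homMk
    (IsOpenImmersion.lift W.ι (prod.lift (𝟙 Y) (σ g)).left (hW g) : Y.left ⟶ W.toScheme) (by
      change IsOpenImmersion.lift W.ι (prod.lift (𝟙 Y) (σ g)).left (hW g) ≫ W.ι ≫ (Y ⨯ Y).hom = Y.hom
      rw [IsOpenImmersion.lift_fac_assoc]
      exact Over.w (prod.lift (𝟙 Y) (σ g)).hom) trivial
  let r : Y ⨯ Y ⟶ openSub (Y ⨯ Y) W := hgal.desc (Cofan.mk _ l)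
  have hr : r ≫ openSubι (Y ⨯ Y) W = 𝟙 _ := hgal.hom_ext fun ⟨g⟩ => by
    rw [← Category.assoc, hgal.fac]
    refine Eq.trans ?_ (Category.comp_id _).symm
    exact MorphismProperty.Over.Hom.ext (IsOpenImmersion.lift_fac W.ι (prod.lift (𝟙 Y) (σ g)).left (hW g))
  have hz : z ∈ (W : Set (Y ⨯ Y).left) := by
    rw [← range_openSubι (Y ⨯ Y) W]
    exact ⟨r.left z, congrArg (fun q : (Y ⨯ Y) ⟶ (Y ⨯ Y) => q.left z) hr⟩
  obtain ⟨g, y, hy⟩ := Set.mem_iUnion.1 hz
  exact ⟨g, y, hy⟩

include hgal in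
theorem sect_inj_components (F : EtCoh.Ab X) :
    Function.Injective (fun s : EtCoh.sect F (Y ⨯ Y) => fun g : G => F.obj.map (prod.lift (𝟙 Y) (σ g)).op s) := by
  intro a b hab
  refine sub_eq_zero.1 (sect_eq_zero_of_local F _ fun z => ?_)
  obtain ⟨g, y, hy⟩ := cofan_jointly_surjective σ hgal z
  refine ⟨Y, _, y, hy, ?_⟩
  rw [map_sub, sub_eq_zero]
  exact congrFun hab g

end

theorem isSheafFor_singleton_top (F : EtCoh.Ab X) (Y : X.Etale) (hY : Function.Surjective Y.hom.base) :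
    Presieve.IsSheafFor (F.obj ⋙ forget AddCommGrpCat.{u + 1})
      (Presieve.singleton ((EtCore.topIsTerminal X).from Y)) := by
  rw [Presieve.isSheafFor_iff_generate]
  refine isSheafFor_forget F (mem_topology fun x => ?_)
  obtain ⟨y, rfl⟩ := hY x
  refine ⟨Y, (EtCore.topIsTerminal X).from Y, y, Sieve.le_generate _ _ _ (Presieve.singleton_self _), ?_⟩
  exact congrArg (fun q : Y.left ⟶ X => q y)
    ((Category.comp_id _).symm.trans (Over.w ((EtCore.topIsTerminal X).from Y).hom))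

/-- A subsheaf of the final sheaf is represented by a unique open. -/
theorem existsUnique_open (F : Sheaf X.smallEtaleTopology (Type u))
    (hF : ∀ U : X.Etale, Subsingleton (F.obj.obj (op U))) :
    ∃! W : X.Opens, Nonempty (F.obj ≅ yoneda.obj (Scheme.Etale.mk W.ι)) := by
  let W : X.Opens := ⟨⋃ (U : X.Etale) (_ : Nonempty (F.obj.obj (op U))), Set.range U.hom,
    isOpen_iUnion fun U => isOpen_iUnion fun _ => by
      have : Etale U.hom := U.prop
      exact U.hom.isOpenMap.isOpen_range⟩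
  have key : ∀ U : X.Etale, Nonempty (F.obj.obj (op U)) ↔ Set.range U.hom ⊆ (W : Set X) := by
    intro U
    refine ⟨fun h x hx => Set.mem_iUnion₂.2 ⟨U, h, hx⟩, fun h => ?_⟩
    let S : Sieve U :=
      { arrows := fun V g => Nonempty (F.obj.obj (op V))
        downward_closed := fun {V V' g} hg k => ⟨F.obj.map k.op hg.some⟩ }
    have hS : S ∈ X.smallEtaleTopology U := mem_topology fun x => by
      obtain ⟨V, hV, v, hv⟩ := Set.mem_iUnion₂.1 (h ⟨x, rfl⟩)
      obtain ⟨z, hz1, hz2⟩ := Scheme.Pullback.exists_preimage_pullback (f := U.hom) (g := V.hom) x v hv.symm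
      have hUe : Etale U.hom := U.prop
      have hVe : Etale V.hom := V.prop
      let P : X.Etale := Scheme.Etale.mk (pullback.fst U.hom V.hom ≫ U.hom)
      let p : P ⟶ U := MorphismProperty.Over.homMk (pullback.fst U.hom V.hom) rfl trivial
      let q : P ⟶ V := MorphismProperty.Over.homMk (pullback.snd U.hom V.hom) pullback.condition.symm trivial
      exact ⟨P, p, z, ⟨F.obj.map q.op hV.some⟩, hz1⟩
    have hsh := (isSheaf_iff_isSheaf_of_type _ _).1 F.property S hS
    exact ⟨(hsh (fun V g hg => hg.some) fun V₁ V₂ Z g₁ g₂ f₁ f₂ h₁ h₂ _ => (hF Z).elim _ _).choose⟩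
  have hW : ∀ (W' : X.Opens) (U : X.Etale),
      Nonempty (U ⟶ Scheme.Etale.mk W'.ι) ↔ Set.range U.hom ⊆ (W' : Set X) := by
    intro W' U
    constructor
    · rintro ⟨a⟩ _ ⟨x, rfl⟩
      rw [← (show a.left ≫ W'.ι = U.hom from Over.w a.hom)]
      exact W'.range_ι.le ⟨_, rfl⟩
    · intro h
      exact ⟨MorphismProperty.Over.homMk (IsOpenImmersion.lift W'.ι (U.hom : U.left ⟶ X) (h.trans W'.range_ι.ge) : U.left ⟶ W'.toScheme)
        (IsOpenImmersion.lift_fac W'.ι (U.hom : U.left ⟶ X) (h.trans W'.range_ι.ge)) trivial⟩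
  have hsub : ∀ (W' : X.Opens) (U : X.Etale), Subsingleton (U ⟶ Scheme.Etale.mk W'.ι) := fun W' U =>
    ⟨fun a b => MorphismProperty.Over.Hom.ext ((cancel_mono W'.ι).1 ((Over.w a.hom).trans (Over.w b.hom).symm))⟩
  refine ⟨W, ⟨NatIso.ofComponents (fun U => Equiv.toIso ?_) fun g => ?_⟩, fun W' ⟨e⟩ => ?_⟩
  · exact
      { toFun := fun a => ((hW W U.unop).2 ((key U.unop).1 ⟨a⟩)).some
        invFun := fun a => ((key U.unop).2 ((hW W U.unop).1 ⟨a⟩)).some
        left_inv := fun a => (hF U.unop).elim _ _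
        right_inv := fun a => (hsub W U.unop).elim _ _ }
  · exact ConcreteCategory.hom_ext _ _ fun a => (hsub W _).elim _ _
  · have hiff : ∀ U : X.Etale, Set.range U.hom ⊆ (W' : Set X) ↔ Set.range U.hom ⊆ (W : Set X) := fun U => by
      rw [← hW W', ← key]
      exact ⟨fun ⟨a⟩ => ⟨(e.app (op U)).inv a⟩, fun ⟨a⟩ => ⟨(e.app (op U)).hom a⟩⟩
    apply TopologicalSpace.Opens.ext
    apply Set.Subset.antisymm
    · have h := (hiff (Scheme.Etale.mk W'.ι)).1 W'.range_ι.le
      exact W'.range_ι.ge.trans h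
    · have h := (hiff (Scheme.Etale.mk W.ι)).2 W.range_ι.le
      exact W.range_ι.ge.trans h

end Groth.Agent.EtCore45
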