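import Groth.Agent.PBC51.Henselian
import Groth.Agent.EtTor93.Hpull
import Groth.Agent.Cons51.StalkExt
import Groth.Agent.S0073

/-!
Bijectivity of inverse image on cohomology by dimension shifting, and the invariance of the
cohomology of proper schemes under extensions of separably closed fields.
-/

set_option autoImplicit false
set_option backward.isDefEq.respectTransparency.types false
universe u

open CategoryTheory CategoryTheory.Limits CategoryTheory.Abelian AlgebraicGeometry Opposite
open Groth.Agent.Unr55.EtSh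

namespace Groth.Agent.EtCore45

/-- Dimension shifting: inverse image is bijective on torsion sheaves if it is so in degree zero and
torsion sheaves embed into torsion sheaves that are acyclic on both sides. -/
theorem bijective_Hpull_of_acyclic {X Y : Scheme.{u}} (h : Y ⟶ X) [PreservesFiniteLimits (EtCoh.pull h)]
    (h0 : ∀ F : EtCoh.Ab X, EtCoh.IsTorsion F → Function.Bijective (EtCore.Hpull h F 0))
    (hvan : ∀ T : EtCoh.Ab X, EtCoh.IsTorsion T → PBC51.QAcyclic T → ∀ n : ℕ,
      Subsingleton (EtCoh.H X T (n + 1)) ∧ Subsingleton (EtCoh.H Y ((EtCoh.pull h).obj T) (n + 1))) :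
    ∀ (q : ℕ) (F : EtCoh.Ab X), EtCoh.IsTorsion F → Function.Bijective (EtCore.Hpull h F q) := by
  intro q
  induction q with
  | zero => exact h0
  | succ q ih =>
    intro F hF
    obtain ⟨T, v, hv, hT, hacy⟩ := PBC51.exists_torsion_qAcyclic hF
    let S := ShortComplex.mk v (cokernel.π v) (cokernel.condition v)
    have hS : S.ShortExact := ShortComplex.ShortExact.mk' (ShortComplex.exact_cokernel _) hv inferInstance
    have hQ : EtCoh.IsTorsion S.X₃ := Cons51.isTorsion_of_epi (cokernel.π v) hT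
    obtain ⟨h1T, h2T⟩ := hvan T hT hacy q
    refine ⟨(injective_iff_map_eq_zero _).2 fun x hx => ?_, fun ξ => ?_⟩
    · obtain ⟨a, rfl⟩ := Ext.covariant_sequence_exact₁ _ hS x (h1T.elim _ _) rfl
      have h1 : (EtCore.Hpull h S.X₃ q a).comp (hS.map_of_exact (EtCoh.pull h)).extClass rfl = 0 :=
        (EtTor93.Hpull_comp_extClass h hS q a).symm.trans hx
      obtain ⟨b, hb⟩ := Ext.covariant_sequence_exact₃ _ (hS.map_of_exact (EtCoh.pull h)) _ rfl h1
      obtain ⟨b', rfl⟩ := (ih T hT).2 b
      have ha : b'.comp (Ext.mk₀ S.g) (add_zero q) = a :=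
        (ih S.X₃ hQ).1 ((EtTor93.Hpull_comp_mk₀ h S.g q b').trans hb)
      rw [← ha, Ext.comp_assoc_of_second_deg_zero, hS.comp_extClass, Ext.comp_zero]
    · obtain ⟨a, ha⟩ := Ext.covariant_sequence_exact₁ _ (hS.map_of_exact (EtCoh.pull h)) ξ (h2T.elim _ _)
        (n₀ := q) rfl
      obtain ⟨a', rfl⟩ := (ih S.X₃ hQ).2 a
      exact ⟨a'.comp hS.extClass rfl, (EtTor93.Hpull_comp_extClass h hS q a').trans ha⟩

/-- In degree zero inverse image is bijective as soon as the unit is so on global sections. -/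
theorem bijective_Hpull_zero {X Y : Scheme.{u}} (h : Y ⟶ X) [PreservesFiniteLimits (EtCoh.pull h)]
    (h0 : ∀ F : EtCoh.Ab X, Function.Bijective (((EtCoh.pullPushAdj h).unit.app F).hom.app (op (EtCoh.top X))))
    (F : EtCoh.Ab X) : Function.Bijective (EtCore.Hpull h F 0) := by
  have e : ⇑(EtCore.Hpull h F 0) = ⇑(adjTransfer (EtCoh.pullPushAdj h) (EtCore.pullConst h ℤ).inv
      ((EtCoh.pull h).obj F) 0) ∘ ⇑(Sheaf.H.map ((EtCoh.pullPushAdj h).unit.app F) 0) :=
    funext (PBC51.Hpull_eq_adjTransfer h F 0)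
  exact (congrArg Function.Bijective e).mpr
    ((adjTransfer_bijective_zero _ _ _).comp (Cons51.bijective_H_zero h h0 F))

section Field

variable {Ω Ω' : Type u} [Field Ω] [IsSepClosed Ω] [Field Ω'] [IsSepClosed Ω']

/-- Global sections do not change between separably closed fields. -/
theorem bijective_unit_top_field (c : Spec (CommRingCat.of Ω') ⟶ Spec (CommRingCat.of Ω))
    (A : EtCoh.Ab (Spec (CommRingCat.of Ω))) :
    Function.Bijective (((EtCoh.pullPushAdj c).unit.app A).hom.app (op (EtCoh.top _))) := by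
  let t₀ : Pt (𝟙 (Spec (CommRingCat.of Ω))) (EtCoh.top _) := mkPt _ (𝟙 _) (Category.comp_id _)
  let t₁ : Pt (𝟙 (Spec (CommRingCat.of Ω'))) (EtCoh.top _) := mkPt _ (𝟙 _) (Category.comp_id _)
  let t : Pt (𝟙 _ ≫ c) (EtCoh.top (Spec (CommRingCat.of Ω))) := mkPt _ c ((Category.comp_id _).trans (Category.id_comp _).symm)
  let G := (EtCoh.pull c).obj A
  have hL : Function.Bijective fun σ => germ (𝟙 _ ≫ c) A t σ := by
    have key : ∀ (ξ : Spec (CommRingCat.of Ω') ⟶ Spec (CommRingCat.of Ω)) (hξ : ξ = c ≫ 𝟙 _)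
        (s : Pt ξ (EtCoh.top (Spec (CommRingCat.of Ω)))),
        Function.Bijective fun σ => germ ξ A s σ := by
      intro ξ hξ s
      subst hξ
      have hs : s = Cons51.ptExt c (𝟙 _) t₀ := Over.OverMorphism.ext (by
        show hom _ s = c ≫ 𝟙 _
        exact (Category.comp_id _).symm.trans (Over.w s))
      rw [hs]
      have e := funext fun σ => Cons51.stalkExt_germ c (𝟙 _) A t₀ σ
      exact e ▸ (Cons51.stalkExt_bijective c (𝟙 _) A).comp (Cons51.germ_top_bijective_id A)
    exact key _ (by simp) t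
  have hR : Function.Bijective fun τ => germ (𝟙 _) G (ptUp c (𝟙 _) t) τ := by
    let e := Cons51.bcTopIso c
    have he : (Scheme.pointSmallEtale (𝟙 (Spec (CommRingCat.of Ω')))).fiber.map e.hom (ptUp c (𝟙 _) t) = t₁ :=
      hom_ext _ (pullback.lift_snd _ _ _)
    have e1 : (fun τ => germ (𝟙 _) G t₁ τ) =
        (fun τ => germ (𝟙 _) G (ptUp c (𝟙 _) t) τ) ∘ ⇑(G.obj.map e.hom.op) :=
      funext fun τ => ((germ_map _ G e.hom (ptUp c (𝟙 _) t) τ).trans (by rw [he])).symm
    have h1 : Function.Bijective fun τ => germ (𝟙 _) G t₁ τ := Cons51.germ_top_bijective_id G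
    rw [e1] at h1
    have hi : Function.Bijective ⇑(G.obj.map e.hom.op) :=
      (ConcreteCategory.isIso_iff_bijective (G.obj.map e.hom.op)).1 inferInstance
    exact (Function.Bijective.of_comp_iff _ hi).1 h1
  have hc : (fun τ => germ (𝟙 _) G (ptUp c (𝟙 _) t) τ) ∘ ⇑(((EtCoh.pullPushAdj c).unit.app A).hom.app (op (EtCoh.top _))) =
      ⇑(theta c (𝟙 _) A) ∘ (fun σ => germ (𝟙 _ ≫ c) A t σ) :=
    funext fun σ => (theta_germ c (𝟙 _) A t σ).symm
  have h2 := (theta_bijective c (𝟙 _) A).comp hL
  rw [← hc] at h2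
  exact (Function.Bijective.of_comp_iff' hR _).1 h2

/-- Global sections of a proper scheme do not change between separably closed fields. -/
theorem bijective_unit_top_proper {X X' : Scheme.{u}} (f : X ⟶ Spec (CommRingCat.of Ω)) [IsProper f]
    (f' : X' ⟶ Spec (CommRingCat.of Ω')) (g' : X' ⟶ X) (c : Spec (CommRingCat.of Ω') ⟶ Spec (CommRingCat.of Ω))
    (h : IsPullback g' f' f c) (F : EtCoh.Ab X) :
    Function.Bijective (((EtCoh.pullPushAdj g').unit.app F).hom.app (op (EtCoh.top X))) := by
  have := Cons51.isIso_baseChange0_proper f c f' g' h F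
  let u' := ((EtCoh.pullPushAdj g').unit.app F)
  let b := (EtCoh.baseChange0 f c f' g' h.w F).hom.app (op ((EtCoh.bc c).obj (EtCoh.top _)))
  have : IsIso (EtCoh.baseChange0 f c f' g' h.w F).hom :=
    inferInstanceAs (IsIso ((sheafToPresheaf _ _).map (EtCoh.baseChange0 f c f' g' h.w F)))
  have hb : Function.Bijective b := (ConcreteCategory.isIso_iff_bijective _).1 inferInstance
  have : IsIso (bcCmp f c f' g' h.w (EtCoh.top _)) :=
    ((MorphismProperty.Over.pullbackComp (P := EtCoh.etaleMP) (Q := ⊤) f' c).symm.app _ ≪≫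
      (MorphismProperty.Over.pullbackCongr (P := EtCoh.etaleMP) (Q := ⊤) h.w).symm.app _ ≪≫
      (MorphismProperty.Over.pullbackComp (P := EtCoh.etaleMP) (Q := ⊤) g' f).app _).isIso_hom
  have hm : Function.Bijective (((EtCoh.pull g').obj F).obj.map (bcCmp f c f' g' h.w (EtCoh.top _)).op) :=
    (ConcreteCategory.isIso_iff_bijective _).1 inferInstance
  have h1 := hb.comp (bijective_unit_top_field c ((EtCoh.push f).obj F))
  have e : ⇑b ∘ ⇑(((EtCoh.pullPushAdj c).unit.app ((EtCoh.push f).obj F)).hom.app (op (EtCoh.top _))) =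
      ⇑(((EtCoh.pull g').obj F).obj.map (bcCmp f c f' g' h.w (EtCoh.top _)).op) ∘
        ⇑(u'.hom.app (op ((EtCoh.bc f).obj (EtCoh.top _)))) :=
    funext (unit_bc0_app f c f' g' h.w F (EtCoh.top _))
  rw [e] at h1
  have h2 : IsIso (u'.hom.app (op ((EtCoh.bc f).obj (EtCoh.top _)))) :=
    (ConcreteCategory.isIso_iff_bijective _).2 ((Function.Bijective.of_comp_iff' hm _).1 h1)
  let i := Cons51.bcTopIso f
  have h3 : F.obj.map i.hom.op ≫ u'.hom.app (op ((EtCoh.bc f).obj (EtCoh.top _))) =
      u'.hom.app (op (EtCoh.top X)) ≫ ((EtCoh.push g').obj ((EtCoh.pull g').obj F)).obj.map i.hom.op :=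
    u'.hom.naturality _
  exact (ConcreteCategory.isIso_iff_bijective _).1 (IsIso.of_isIso_fac_right h3.symm)

/-- Cohomology of proper schemes does not change between separably closed fields. -/
theorem bijective_Hpull_fieldExt {X : Scheme.{u}} (f : X ⟶ Spec (CommRingCat.of Ω)) [IsProper f]
    (c : Spec (CommRingCat.of Ω') ⟶ Spec (CommRingCat.of Ω)) [PreservesFiniteLimits (EtCoh.pull (pullback.fst f c))]
    (F : EtCoh.Ab X) (hF : EtCoh.IsTorsion F) (q : ℕ) :
    Function.Bijective (EtCore.Hpull (pullback.fst f c) F q) := by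
  refine bijective_Hpull_of_acyclic (pullback.fst f c) (fun G _ => bijective_Hpull_zero _
    (bijective_unit_top_proper f (pullback.snd f c) _ c (IsPullback.of_hasPullback f c)) G) ?_ q F hF
  intro T hT hq n
  have : CompactSpace X := QuasiCompact.compactSpace_of_compactSpace f
  have : QuasiSeparatedSpace X := quasiSeparatedSpace_of_quasiSeparated f
  refine ⟨?_, ?_⟩
  · have : IsIso (EtCoh.top X).hom := (inferInstance : IsIso (𝟙 X))
    exact (PBC51.Van.vanish_ofIso (EtCoh.top X).hom T (n + 1)).1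
      (hq (EtCoh.top X) (inferInstanceAs (CompactSpace X)) (inferInstanceAs (QuasiSeparatedSpace X)) (n + 1) n.succ_pos)
  · refine (PBC51.Van.vanish_leray (pullback.snd f c) _ (fun k =>
      (PBC51.Van.good_of_isProper f).isZero_Rpush hT hq (IsPullback.of_hasPullback f c) k) (n + 1)).2 ?_
    have : IsSepClosed (IsLocalRing.ResidueField Ω') := IsSepClosed.of_exists_root _ fun p _ hirr hsep => by
      let e := RingEquiv.ofBijective _ ⟨(IsLocalRing.residue Ω').injective, IsLocalRing.residue_surjective⟩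
      obtain ⟨r, hr⟩ := IsSepClosed.exists_eval₂_eq_zero (e.symm : IsLocalRing.ResidueField Ω' →+* Ω') p
        hirr.degree_pos.ne' hsep
      refine ⟨e r, ?_⟩
      have h := congrArg e hr
      rw [map_zero] at h
      rw [← h, ← RingEquiv.coe_toRingHom e, Polynomial.hom_eval₂,
        show (e : Ω' →+* IsLocalRing.ResidueField Ω').comp (e.symm : IsLocalRing.ResidueField Ω' →+* Ω') = RingHom.id _ from
          RingHom.ext e.apply_symm_apply]
      exact (Polynomial.eval₂_id).symm
    exact S0073.result Ω' _ (n + 1) n.succ_pos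

end Field

end Groth.Agent.EtCore45
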