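import Groth.Agent.Unr55.Et.Lift
import Mathlib.AlgebraicGeometry.Morphisms.FlatMono

/-!
Etale schemes and their morphisms lift along closed immersions, locally.
-/

set_option autoImplicit false
set_option backward.isDefEq.respectTransparency.types false
universe u

open CategoryTheory CategoryTheory.Limits AlgebraicGeometry Opposite
open Groth.Agent.Unr55.EtSh

namespace Groth.Agent.EtCore45

variable {X Y : Scheme.{u}} (f : X ⟶ Y) [IsClosedImmersion f]

theorem exists_lift_at (U : X.Etale) (x : U.left) :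
    ∃ (V : Y.Etale) (h : pullback V.hom f ⟶ U.left),
      h ≫ U.hom = pullback.snd V.hom f ∧ IsOpenImmersion h ∧ ∃ y, h y = x := by
  have : Etale U.hom := U.prop
  obtain ⟨V, q, P, k, a, hq, hk, ⟨p, hp⟩, hP⟩ := exists_etale_lift_closed f U.hom x
  refine ⟨Scheme.Etale.mk q, hP.isoPullback.inv ≫ k, ?_, inferInstance, hP.isoPullback.hom p, ?_⟩
  · rw [Category.assoc]
    exact hP.isoPullback_inv_snd
  · exact (congr($(hP.isoPullback.hom_inv_id_assoc k) p)).trans hp

theorem exists_cover_lift {ι : Type u} (U : ι → X.Etale) (hU : EtCoh.Covers U) :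
    ∃ (κ : Type u) (V : κ → Y.Etale), EtCoh.Covers V ∧
      ∀ j, IsEmpty ↥(pullback (V j).hom f) ∨
        ∃ (i : ι) (h : pullback (V j).hom f ⟶ (U i).left), h ≫ (U i).hom = pullback.snd (V j).hom f := by
  choose V h hh ho y hy using fun z : Σ i, (U i).left => exists_lift_at f (U z.1) z.2
  let O : Y.Opens := ⟨(Set.range f)ᶜ, f.isClosedEmbedding.isClosed_range.isOpen_compl⟩
  refine ⟨(Σ i, (U i).left) ⊕ PUnit.{u + 1}, Sum.elim V fun _ => Scheme.Etale.mk O.ι, fun x => ?_, ?_⟩
  · by_cases hx : x ∈ Set.range f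
    · obtain ⟨x', rfl⟩ := hx
      obtain ⟨i, z, hz⟩ := hU x'
      refine ⟨.inl ⟨i, z⟩, pullback.fst (V ⟨i, z⟩).hom f (y ⟨i, z⟩), ?_⟩
      have e1 := congr($(pullback.condition (f := (V ⟨i, z⟩).hom) (g := f)) (y ⟨i, z⟩))
      have e2 := congr($(hh ⟨i, z⟩) (y ⟨i, z⟩))
      rw [Scheme.Hom.comp_apply, hy] at e2
      exact e1.trans (congrArg f (e2.symm.trans hz))
    · exact ⟨.inr ⟨⟩, ⟨x, hx⟩, rfl⟩
  · rintro (z | _)
    · exact .inr ⟨z.1, h z, hh z⟩
    · refine .inl ⟨fun p => ?_⟩
      have e : O.ι (pullback.fst O.ι f p) = f (pullback.snd O.ι f p) := congr($(pullback.condition (f := O.ι) (g := f)) p)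
      exact (O.range_ι.le ⟨_, rfl⟩ : O.ι (pullback.fst O.ι f p) ∈ O) ⟨_, e.symm⟩

theorem exists_open_lifts (U : X.Etale) :
    ∃ (κ : Type u) (V : κ → Y.Etale) (h : ∀ j, pullback (V j).hom f ⟶ U.left),
      (∀ j, h j ≫ U.hom = pullback.snd (V j).hom f) ∧ (∀ j, IsOpenImmersion (h j)) ∧
      ∀ x : U.left, ∃ (j : κ) (y : ↥(pullback (V j).hom f)), (h j).base y = x := by
  choose V h hh ho y hy using exists_lift_at f U
  exact ⟨U.left, V, h, hh, ho, fun x => ⟨x, y x, hy x⟩⟩

/-- Morphisms over the closed subscheme lift to an etale scheme with the same trace. -/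
theorem exists_hom_lift (U U' : Y.Etale) (h : (EtCoh.bc f).obj U ⟶ (EtCoh.bc f).obj U') :
    ∃ (W : Y.Etale) (a : W ⟶ U) (b : W ⟶ U'),
      IsIso ((EtCoh.bc f).map a) ∧ (EtCoh.bc f).map a ≫ h = (EtCoh.bc f).map b := by
  have : Etale U.hom := U.prop
  have : Etale U'.hom := U'.prop
  let Po : Y.Etale := Scheme.Etale.mk (pullback.fst U.hom U'.hom ≫ U.hom)
  let a₁ : Po ⟶ U := MorphismProperty.Over.homMk (pullback.fst U.hom U'.hom) rfl trivial
  let b₁ : Po ⟶ U' := MorphismProperty.Over.homMk (pullback.snd U.hom U'.hom) pullback.condition.symm trivial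
  let hl : pullback U.hom f ⟶ pullback U'.hom f := h.left
  have hl2 : hl ≫ pullback.snd U'.hom f = pullback.snd U.hom f := MorphismProperty.Over.w h
  let s₀ : pullback U.hom f ⟶ Po.left := pullback.lift (pullback.fst U.hom f) (hl ≫ pullback.fst U'.hom f)
    (by rw [Category.assoc, pullback.condition, pullback.condition, ← Category.assoc hl, hl2])
  have hs₀ : s₀ ≫ Po.hom = pullback.snd U.hom f ≫ f := by
    change s₀ ≫ pullback.fst U.hom U'.hom ≫ U.hom = _
    refine (Category.assoc _ _ _).symm.trans ((congrArg (· ≫ U.hom) (pullback.lift_fst _ _ _)).trans ?_)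
    exact pullback.condition
  let s : (EtCoh.bc f).obj U ⟶ (EtCoh.bc f).obj Po :=
    MorphismProperty.Over.homMk (pullback.lift s₀ (pullback.snd U.hom f) hs₀) (pullback.lift_snd _ _ _) trivial
  have hsa : s ≫ (EtCoh.bc f).map a₁ = 𝟙 _ := by
    refine MorphismProperty.Over.Hom.ext (pullback.hom_ext ?_ ?_)
    · change (s.left ≫ ((EtCoh.bc f).map a₁).left) ≫ pullback.fst U.hom f = 𝟙 (pullback U.hom f) ≫ pullback.fst U.hom f
      rw [Category.assoc]
      refine (congrArg (s.left ≫ ·) (EtCoh.isPullback_bc_map f a₁).w).trans ?_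
      rw [← Category.assoc, Category.id_comp]
      refine (congrArg (· ≫ a₁.left) (pullback.lift_fst _ _ _)).trans ?_
      exact pullback.lift_fst _ _ _
    · change (s.left ≫ ((EtCoh.bc f).map a₁).left) ≫ pullback.snd U.hom f = 𝟙 (pullback U.hom f) ≫ pullback.snd U.hom f
      rw [Category.assoc, Category.id_comp]
      refine (congrArg (s.left ≫ ·) (MorphismProperty.Over.w ((EtCoh.bc f).map a₁))).trans ?_
      exact pullback.lift_snd _ _ _
  have hsb : s ≫ (EtCoh.bc f).map b₁ = h := by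
    refine MorphismProperty.Over.Hom.ext (pullback.hom_ext ?_ ?_)
    · change (s.left ≫ ((EtCoh.bc f).map b₁).left) ≫ pullback.fst U'.hom f = hl ≫ pullback.fst U'.hom f
      rw [Category.assoc]
      refine (congrArg (s.left ≫ ·) (EtCoh.isPullback_bc_map f b₁).w).trans ?_
      rw [← Category.assoc]
      refine (congrArg (· ≫ b₁.left) (pullback.lift_fst _ _ _)).trans ?_
      exact pullback.lift_snd _ _ _
    · change (s.left ≫ ((EtCoh.bc f).map b₁).left) ≫ pullback.snd U'.hom f = hl ≫ pullback.snd U'.hom f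
      rw [Category.assoc, hl2]
      refine (congrArg (s.left ≫ ·) (MorphismProperty.Over.w ((EtCoh.bc f).map b₁))).trans ?_
      exact pullback.lift_snd _ _ _
  have hid : s.left ≫ ((EtCoh.bc f).map a₁).left = 𝟙 _ := congrArg (fun k => k.left) hsa
  have : Etale s.left := etale_left s
  have : Mono s.left := mono_of_mono_fac hid
  have : IsOpenImmersion s.left := IsOpenImmersion.of_flat_of_mono s.left
  let q : pullback Po.hom f ⟶ Po.left := pullback.fst Po.hom f
  let C : Set Po.left := q '' (Set.range s.left)ᶜ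
  have hC : IsClosed C := q.isClosedEmbedding.isClosedMap _ s.left.isOpenEmbedding.isOpen_range.isClosed_compl
  let O : Po.left.Opens := ⟨Cᶜ, hC.isOpen_compl⟩
  let W := openSub Po O
  let m := (EtCoh.bc f).map (openSubι Po O)
  have hbm := EtCoh.isPullback_bc_map f (openSubι Po O)
  have hmo : IsOpenImmersion m.left :=
    MorphismProperty.of_isPullback hbm.flip (inferInstanceAs (IsOpenImmersion O.ι))
  have hrange : Set.range s.left = Set.range m.left := by
    refine subset_antisymm ?_ ?_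
    · rintro _ ⟨z, rfl⟩
      have hz : q (s.left z) ∈ O := by
        rintro ⟨w, hw, hwz⟩
        exact hw ⟨z, (q.isClosedEmbedding.injective hwz).symm⟩
      obtain ⟨t, ht, -⟩ := Scheme.Pullback.exists_preimage_pullback (f := q) (g := O.ι) (s.left z) ⟨_, hz⟩ rfl
      exact ⟨hbm.isoPullback.inv t, (congr($(hbm.isoPullback_inv_fst) t)).trans ht⟩
    · rintro _ ⟨t, rfl⟩
      by_contra hns
      exact (O.range_ι.le ⟨_, rfl⟩ : O.ι (pullback.fst W.hom f t) ∈ O) ⟨m.left t, hns, congr($(hbm.w) t)⟩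
  let e := IsOpenImmersion.isoOfRangeEq s.left m.left hrange
  have he : e.hom ≫ m.left = s.left := IsOpenImmersion.isoOfRangeEq_hom_fac _ _ _
  have hinv : e.inv ≫ s.left = m.left := IsOpenImmersion.isoOfRangeEq_inv_fac _ _ _
  have ha : ((EtCoh.bc f).map (openSubι Po O ≫ a₁)).left = e.inv := by
    rw [Functor.map_comp]
    change m.left ≫ ((EtCoh.bc f).map a₁).left = _
    rw [← hinv, Category.assoc, hid]
    exact Category.comp_id _
  refine ⟨W, openSubι Po O ≫ a₁, openSubι Po O ≫ b₁, ?_, ?_⟩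
  · have hi : IsIso ((Scheme.Etale.forget X ⋙ Over.forget X).map ((EtCoh.bc f).map (openSubι Po O ≫ a₁))) := by
      change IsIso ((EtCoh.bc f).map (openSubι Po O ≫ a₁)).left
      rw [ha]; infer_instance
    exact isIso_of_reflects_iso _ (Scheme.Etale.forget X ⋙ Over.forget X)
  · rw [Functor.map_comp (EtCoh.bc f) (openSubι Po O) b₁]
    refine Eq.trans ?_ (Eq.trans ?_ rfl : m ≫ (EtCoh.bc f).map b₁ = _)
    · refine MorphismProperty.Over.Hom.ext ?_
      change ((EtCoh.bc f).map (openSubι Po O ≫ a₁)).left ≫ h.left = m.left ≫ ((EtCoh.bc f).map b₁).left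
      rw [ha, ← hinv, Category.assoc]
      exact congrArg (fun k : (EtCoh.bc f).obj U ⟶ (EtCoh.bc f).obj U' => e.inv ≫ k.left) hsb.symm
    · rfl

end Groth.Agent.EtCore45
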