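import Groth.Agent.EtCore45.Acyclic
import Groth.Agent.Approx60.PushoutOpen
import Groth.Agent.Unr55.Et.CechFlasque

/-!
Restriction along an open immersion of sheaves acyclic on every object is surjective.
-/

set_option autoImplicit false
set_option backward.isDefEq.respectTransparency.types false
universe u

open CategoryTheory CategoryTheory.Limits AlgebraicGeometry Opposite

namespace Groth.Agent.EtCore45

variable {X : Scheme.{u}}

/-- The free abelian presheaf on an object of the etale site. -/
noncomputable def freePsh (U : X.Etale) : X.Etaleᵒᵖ ⥤ AddCommGrpCat.{u + 1} :=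
  uliftYoneda.{u + 1}.obj U ⋙ AddCommGrpCat.free.{u + 1}

/-- The tautological section. -/
noncomputable def freePshEquiv (U : X.Etale) (P : X.Etaleᵒᵖ ⥤ AddCommGrpCat.{u + 1}) :
    (freePsh U ⟶ P) ≃ P.obj (op U) :=
  ((AddCommGrpCat.adj.whiskerRight X.Etaleᵒᵖ).homEquiv (uliftYoneda.{u + 1}.obj U) P).trans uliftYonedaEquiv

theorem freePshEquiv_apply (U : X.Etale) (P : X.Etaleᵒᵖ ⥤ AddCommGrpCat.{u + 1}) (α : freePsh U ⟶ P) :
    freePshEquiv U P α = α.app (op U) (FreeAbelianGroup.of (ULift.up (𝟙 U))) := rfl

theorem freeAb_map_injective {α β : Type*} {f : α → β} (hf : Function.Injective f) :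
    Function.Injective (FreeAbelianGroup.map f) := by
  classical
  let r : FreeAbelianGroup β →+ FreeAbelianGroup α :=
    FreeAbelianGroup.lift fun b => if h : ∃ a, f a = b then FreeAbelianGroup.of h.choose else 0
  have h : r.comp (FreeAbelianGroup.map f) = AddMonoidHom.id _ := by
    ext a
    have e : ∃ a', f a' = f a := ⟨a, rfl⟩
    change r (FreeAbelianGroup.map f (FreeAbelianGroup.of a)) = FreeAbelianGroup.of a
    rw [FreeAbelianGroup.map_of_apply, FreeAbelianGroup.lift_apply_of, dif_pos e, hf e.choose_spec]
  exact Function.LeftInverse.injective fun x => DFunLike.congr_fun h x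

/-- Sections of an injective sheaf extend along monomorphisms. -/
theorem surjective_restrict_injective (I : EtCoh.Ab X) [Injective I] {U V : X.Etale} (g : V ⟶ U) [Mono g] :
    Function.Surjective (I.obj.map g.op) := by
  intro s
  have := injective_obj I
  let m : freePsh V ⟶ freePsh U := Functor.whiskerRight (uliftYoneda.{u + 1}.map g) AddCommGrpCat.free
  have : Mono m := by
    have : ∀ W, Mono (m.app W) := fun W => by
      rw [AddCommGrpCat.mono_iff_injective]
      refine freeAb_map_injective fun a b hab => ?_
      obtain ⟨a⟩ := a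
      obtain ⟨b⟩ := b
      exact congrArg ULift.up ((cancel_mono g).1 (congrArg ULift.down hab))
    exact NatTrans.mono_of_mono_app _
  let α := (freePshEquiv V I.obj).symm s
  refine ⟨freePshEquiv U I.obj (Injective.factorThru α m), ?_⟩
  have e : freePshEquiv V I.obj (m ≫ Injective.factorThru α m) = s := by
    rw [Injective.comp_factorThru]
    exact Equiv.apply_symm_apply _ _
  refine Eq.trans ?_ e
  rw [freePshEquiv_apply, freePshEquiv_apply]
  refine (NatTrans.naturality_apply (Injective.factorThru α m) g.op _).symm.trans ?_
  refine congrArg ((Injective.factorThru α m).app (op V)) ?_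
  change FreeAbelianGroup.map _ (FreeAbelianGroup.of _) = FreeAbelianGroup.map _ (FreeAbelianGroup.of _)
  rw [FreeAbelianGroup.map_of_apply, FreeAbelianGroup.map_of_apply]
  refine congrArg FreeAbelianGroup.of ?_
  exact ULift.ext _ _ ((Category.comp_id g).trans (Category.id_comp g).symm)

instance mono_etale_of_isOpenImmersion {U V : X.Etale} (g : V ⟶ U) [IsOpenImmersion g.left] : Mono g :=
  ⟨fun a b h => by
    apply MorphismProperty.Over.Hom.ext
    exact (cancel_mono g.left).1 (congrArg (fun k => k.left) h)⟩

variable {U V : X.Etale} (g : V ⟶ U) [IsOpenImmersion g.left]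

/-- Two copies of `U` glued along `V`. -/
noncomputable def double : X.Etale :=
  haveI : Etale U.hom := U.prop
  MorphismProperty.Over.mk _ (pushout.desc (f := g.left) (g := g.left) U.hom U.hom rfl)
    (IsZariskiLocalAtSource.of_openCover (P := @Etale)
      ((Scheme.IsLocallyDirected.openCover (span g.left g.left))) fun i => by
      rcases i with _ | _ | _
      · have : Etale V.hom := V.prop
        have e : colimit.ι (span g.left g.left) none ≫ pushout.desc U.hom U.hom rfl = V.hom := by
          rw [← colimit.w (span g.left g.left) WalkingSpan.Hom.fst, Category.assoc]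
          exact (congrArg (g.left ≫ ·) (pushout.inl_desc _ _ _)).trans (MorphismProperty.Over.w g)
        exact (congrArg (fun z => Etale z) e).mpr V.prop
      · exact (congrArg (fun z => Etale z) (pushout.inl_desc U.hom U.hom rfl)).mpr inferInstance
      · exact (congrArg (fun z => Etale z) (pushout.inr_desc U.hom U.hom rfl)).mpr inferInstance)

noncomputable def dl : U ⟶ double g :=
  MorphismProperty.Over.homMk (pushout.inl g.left g.left) (pushout.inl_desc _ _ _)

noncomputable def dr : U ⟶ double g :=
  MorphismProperty.Over.homMk (pushout.inr g.left g.left) (pushout.inr_desc _ _ _)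

noncomputable def dp : double g ⟶ U :=
  MorphismProperty.Over.homMk (pushout.desc (f := g.left) (g := g.left) (𝟙 U.left) (𝟙 U.left) rfl)
    (by
      apply pushout.hom_ext
      · exact (pushout.inl_desc_assoc _ _ _ _).trans ((Category.id_comp _).trans (pushout.inl_desc _ _ _).symm)
      · exact (pushout.inr_desc_assoc _ _ _ _).trans ((Category.id_comp _).trans (pushout.inr_desc _ _ _).symm))

theorem dl_dp : dl g ≫ dp g = 𝟙 U := by apply MorphismProperty.Over.Hom.ext; exact pushout.inl_desc _ _ _
theorem dr_dp : dr g ≫ dp g = 𝟙 U := by apply MorphismProperty.Over.Hom.ext; exact pushout.inr_desc _ _ _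
theorem g_dl : g ≫ dl g = g ≫ dr g := by apply MorphismProperty.Over.Hom.ext; exact pushout.condition

theorem cover_double : Sieve.ofArrows (fun _ : Bool => U) (fun b => cond b (dl g) (dr g)) ∈
    X.smallEtaleTopology (double g) := by
  rw [Scheme.ofArrows_mem_smallEtaleTopology_iff]
  refine Set.eq_univ_of_forall fun p => ?_
  rcases Approx60.pushout_jointly_surjective g.left g.left p with h | h
  · exact Set.mem_iUnion.2 ⟨true, h⟩
  · exact Set.mem_iUnion.2 ⟨false, h⟩

theorem exists_factor_of_dl_eq_dr {Z : X.Etale} {a b : Z ⟶ U} (w : a ≫ dl g = b ≫ dr g) :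
    a = b ∧ ∃ k : Z ⟶ V, k ≫ g = a := by
  have hab : a = b := by
    simpa only [Category.assoc, dl_dp, dr_dp, Category.comp_id] using congrArg (· ≫ dp g) w
  subst hab
  refine ⟨rfl, ?_⟩
  have hr : Set.range a.left ⊆ Set.range g.left := by
    rintro x ⟨z, rfl⟩
    obtain ⟨v, hv, -⟩ := Approx60.exists_of_inl_eq_inr g.left g.left
      (congrArg (fun k => k.left z) w)
    exact ⟨v, hv⟩
  refine ⟨MorphismProperty.Over.homMk (IsOpenImmersion.lift g.left a.left hr) ?_, ?_⟩
  · rw [← MorphismProperty.Over.w g, IsOpenImmersion.lift_fac_assoc]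
    exact MorphismProperty.Over.w a
  · apply MorphismProperty.Over.Hom.ext
    exact IsOpenImmersion.lift_fac _ _ _

/-- Sheaves acyclic on every object have surjective restrictions along open immersions. -/
theorem surjective_restrict (F : EtCoh.Ab X) (hF : IsAcyclicEt F) :
    Function.Surjective (F.obj.map g.op) := by
  intro s
  have hS := injSeq_shortExact F
  obtain ⟨t, ht⟩ := surjective_restrict_injective (Injective.under F) g
    ((Injective.ι F).hom.app (op V) s)
  let q : (cokernel (Injective.ι F)).obj.obj (op U) := (cokernel.π (Injective.ι F)).hom.app (op U) t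
  have z : ∀ (W : X.Etale) (x : F.obj.obj (op W)),
      (cokernel.π (Injective.ι F)).hom.app (op W) ((Injective.ι F).hom.app (op W) x) = 0 := fun W x =>
    ConcreteCategory.congr_hom (congrArg (fun k => k.hom.app (op W)) (cokernel.condition (Injective.ι F))) x
  have hq : (cokernel (Injective.ι F)).obj.map g.op q = 0 := by
    refine (NatTrans.naturality_apply (cokernel.π (Injective.ι F)).hom g.op t).symm.trans ?_
    refine (congrArg ((cokernel.π (Injective.ι F)).hom.app (op V)) ht).trans ?_
    exact z V s
  let fam : ∀ b : Bool, ((cokernel (Injective.ι F)).obj ⋙ forget _).obj (op U) :=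
    fun b => cond b q 0
  have hsh := (isSheaf_iff_isSheaf_of_type _ _).1
    ((sheafCompose X.smallEtaleTopology (forget AddCommGrpCat.{u + 1})).obj (cokernel (Injective.ι F))).property
    _ (cover_double g)
  have hsh' := (Presieve.isSheafFor_iff_generate _).2 hsh
  obtain ⟨w, hw, -⟩ := (Presieve.isSheafFor_arrows_iff _ _).1 hsh' fam (by
    intro i j Z a b e
    rcases i with _ | _ <;> rcases j with _ | _
    · obtain rfl : a = b := by
        have := congrArg (· ≫ dp g) e
        simpa only [cond_false, Category.assoc, dr_dp, Category.comp_id] using this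
      rfl
    · obtain ⟨rfl, k, rfl⟩ := exists_factor_of_dl_eq_dr g e.symm
      change (cokernel (Injective.ι F)).obj.map (k ≫ g).op (0 : _) =
        (cokernel (Injective.ι F)).obj.map (k ≫ g).op q
      rw [op_comp, Functor.map_comp]
      change _ = (cokernel (Injective.ι F)).obj.map k.op ((cokernel (Injective.ι F)).obj.map g.op q)
      rw [hq, map_zero, map_zero]
    · obtain ⟨rfl, k, rfl⟩ := exists_factor_of_dl_eq_dr g e
      change (cokernel (Injective.ι F)).obj.map (k ≫ g).op q =
        (cokernel (Injective.ι F)).obj.map (k ≫ g).op (0 : _)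
      rw [op_comp, Functor.map_comp]
      change (cokernel (Injective.ι F)).obj.map k.op ((cokernel (Injective.ι F)).obj.map g.op q) = _
      rw [hq, map_zero, map_zero]
    · obtain rfl : a = b := by
        have := congrArg (· ≫ dp g) e
        simpa only [cond_true, Category.assoc, dl_dp, Category.comp_id] using this
      rfl)
  obtain ⟨τ, hτ⟩ := sections_surjective hS (double g) (hF _ 1 zero_lt_one) w
  have hl : (cokernel.π (Injective.ι F)).hom.app (op U) ((Injective.under F).obj.map (dl g).op τ - t) = 0 := by
    rw [map_sub, sub_eq_zero]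
    refine (NatTrans.naturality_apply (cokernel.π (Injective.ι F)).hom (dl g).op τ).trans ?_
    exact (congrArg ((cokernel (Injective.ι F)).obj.map (dl g).op) hτ).trans (hw true)
  have hr : (cokernel.π (Injective.ι F)).hom.app (op U) ((Injective.under F).obj.map (dr g).op τ) = 0 := by
    refine (NatTrans.naturality_apply (cokernel.π (Injective.ι F)).hom (dr g).op τ).trans ?_
    exact (congrArg ((cokernel (Injective.ι F)).obj.map (dr g).op) hτ).trans (hw false)
  obtain ⟨u₁, hu₁⟩ := (Unr55.CechFl.exists_sections_preimage _ hS U _ hl).2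
  obtain ⟨u₂, hu₂⟩ := (Unr55.CechFl.exists_sections_preimage _ hS U _ hr).2
  refine ⟨u₂ - u₁, ?_⟩
  apply (Unr55.CechFl.exists_sections_preimage _ hS V 0 (map_zero _)).1
  change (Injective.ι F).hom.app (op V) (F.obj.map g.op (u₂ - u₁)) = (Injective.ι F).hom.app (op V) s
  rw [NatTrans.naturality_apply (Injective.ι F).hom g.op (u₂ - u₁), map_sub, map_sub]
  change (Injective.under F).obj.map g.op ((injSeq F).f.hom.app (op U) u₂) -
    (Injective.under F).obj.map g.op ((injSeq F).f.hom.app (op U) u₁) = _
  rw [hu₁, hu₂, map_sub, ht]
  have e : (Injective.under F).obj.map g.op ((Injective.under F).obj.map (dl g).op τ) =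
      (Injective.under F).obj.map g.op ((Injective.under F).obj.map (dr g).op τ) := by
    rw [← ConcreteCategory.comp_apply, ← Functor.map_comp, ← op_comp, g_dl g, op_comp, Functor.map_comp,
      ConcreteCategory.comp_apply]
  change (Injective.under F).obj.map g.op ((Injective.under F).obj.map (dr g).op τ) -
    ((Injective.under F).obj.map g.op ((Injective.under F).obj.map (dl g).op τ) -
      (Injective.ι F).hom.app (op V) s) = _
  rw [e, sub_sub_cancel]

end Groth.Agent.EtCore45
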