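import Groth.Agent.WE91.Local
import Groth.Agent.Henz21.Quotient
import Groth.Agent.Unr55.GeomCount
import Groth.Agent.Unr55.UnrQF
import Groth.Agent.LimTop61.HasRoots
import Mathlib.AlgebraicGeometry.Morphisms.Etale
import Mathlib.AlgebraicGeometry.Morphisms.FlatMono
import Mathlib.AlgebraicGeometry.Morphisms.QuasiFinite

/-!
Etale morphisms are local isomorphisms over points with strictly henselian local ring.
-/

set_option autoImplicit false
set_option backward.isDefEq.respectTransparency false
universe u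

open CategoryTheory CategoryTheory.Limits AlgebraicGeometry IsLocalRing

namespace Groth.Agent.EtCore45

theorem strictHens_of_surjective {R R' : Type u} [CommRing R] [CommRing R'] [Nontrivial R'] (e : R →+* R')
    (he : Function.Surjective e) (h : EtCoh.IsStrictlyHenselianLocalRing R) :
    EtCoh.IsStrictlyHenselianLocalRing R' := by
  obtain ⟨hH, hs⟩ := h
  have hH' := Henz21.henselianLocalRing_of_surjective e he
  have : IsLocalHom e := IsLocalHom.of_surjective e he
  refine ⟨hH', ?_⟩
  refine Unr55.isSepClosed_of_surjective (ResidueField.map e) fun x => ?_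
  obtain ⟨x, rfl⟩ := residue_surjective x
  obtain ⟨r, rfl⟩ := he x
  exact ⟨residue R r, ResidueField.map_residue e r⟩

theorem strictHens_stalk {C : Type u} [CommRing C] (q : PrimeSpectrum C)
    (h : EtCoh.IsStrictlyHenselianLocalRing (Localization.AtPrime q.asIdeal)) :
    EtCoh.IsStrictlyHenselianLocalRing ((Spec (CommRingCat.of C)).presheaf.stalk q) :=
  strictHens_of_surjective (StructureSheaf.stalkIso C q).toRingEquiv.toRingHom (RingEquiv.surjective _) h

theorem exists_open_immersion_spec_sh {C : Type u} [CommRing C]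
    {V : Scheme.{u}} (f : V ⟶ Spec (CommRingCat.of C)) [Etale f] (y : V)
    (hC : EtCoh.IsStrictlyHenselianLocalRing ((Spec (CommRingCat.of C)).presheaf.stalk (f y))) :
    ∃ O : V.Opens, y ∈ O ∧ IsOpenImmersion (O.ι ≫ f) := by
  have := Unr55.locallyQuasiFinite_of_formallyUnramified f
  obtain ⟨V₀, hV₀, hV₀y⟩ := isDiscrete_iff_forall_mem_exists_isOpen.1
    (f.isDiscrete_preimage_singleton (f y)) y rfl
  obtain ⟨_, ⟨W, hW, rfl⟩, hyW, hWV⟩ :=
    V.isBasis_affineOpens.exists_subset_of_mem_open (hV₀y.ge rfl).1 hV₀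
  let g : Spec Γ(V, W) ⟶ Spec (CommRingCat.of C) := hW.fromSpec ≫ f
  obtain ⟨φ, hφ⟩ := Spec.map_surjective g
  let B : Type u := Γ(V, W)
  let φ' : C →+* B := φ.hom
  algebraize [φ']
  have : Etale (Spec.map φ) := hφ ▸ inferInstance
  have het : φ'.Etale := HasRingHomProperty.Spec_iff.1 this
  have : Algebra.Etale C B := het
  obtain ⟨x', hx'⟩ : y ∈ Set.range hW.fromSpec := by rw [hW.range_fromSpec]; exact hyW
  have hgx : Spec.map φ x' = f y := by rw [hφ, Scheme.Hom.comp_apply, hx']
  let z : PrimeSpectrum C := f y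
  let q : PrimeSpectrum B := x'
  have hpq : z.asIdeal = q.asIdeal.comap (algebraMap C B) := (congrArg PrimeSpectrum.asIdeal hgx).symm
  have hsh : EtCoh.IsStrictlyHenselianLocalRing (Localization.AtPrime z.asIdeal) :=
    strictHens_of_surjective (StructureSheaf.stalkIso C z).toRingEquiv.symm.toRingHom
      (RingEquiv.surjective _) hC
  let L₀ := Localization.localRingHom z.asIdeal q.asIdeal (algebraMap C B) hpq
  let e := RingEquiv.ofBijective L₀
    (WE91.bijective_localRingHom_of_strictlyHenselian z.asIdeal q.asIdeal hpq hsh)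
  let σ₀ : B →ₐ[C] Localization.AtPrime z.asIdeal :=
    { e.symm.toRingHom.comp (algebraMap B (Localization.AtPrime q.asIdeal)) with
      commutes' := fun a => e.injective (by
        show e (e.symm _) = _
        rw [e.apply_symm_apply]
        exact (Localization.localRingHom_to_map z.asIdeal q.asIdeal (algebraMap C B) hpq a).symm) }
  obtain ⟨c, hc, ⟨σ⟩⟩ := LimTop61.exists_algHom_away (A := C) (C := C) (B := B) z.asIdeal σ₀
  let L := Localization.Away c
  let j : Spec (CommRingCat.of L) ⟶ Spec (CommRingCat.of C) :=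
    Spec.map (CommRingCat.ofHom (algebraMap C L))
  have hj : IsOpenImmersion j := IsOpenImmersion.of_isLocalization c
  let r : Spec (CommRingCat.of L) ⟶ V := Spec.map (CommRingCat.ofHom σ.toRingHom) ≫ hW.fromSpec
  have hr : r ≫ f = j := by
    simp only [r, Category.assoc]
    rw [← show Spec.map φ = hW.fromSpec ≫ f from hφ, ← Spec.map_comp]
    exact congrArg Spec.map (CommRingCat.hom_ext (RingHom.ext fun a => σ.commutes a))
  have : Etale (r ≫ f) := by rw [hr]; infer_instance
  have : Etale r := MorphismProperty.of_postcomp @Etale (W' := @Etale) r f inferInstance this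
  have : Mono (r ≫ f) := by rw [hr]; infer_instance
  have : Mono r := mono_of_mono r f
  have : IsOpenImmersion r := IsOpenImmersion.of_flat_of_mono r
  refine ⟨r.opensRange, ?_, ?_⟩
  · obtain ⟨w, hw⟩ : z ∈ Set.range (PrimeSpectrum.comap (algebraMap C L)) := by
      rw [PrimeSpectrum.localization_away_comap_range L c]
      exact hc
    refine ⟨w, hV₀y.le ⟨hWV ?_, ?_⟩⟩
    · rw [← hW.range_fromSpec]
      exact ⟨_, rfl⟩
    · show (r ≫ f) w = f y
      rw [hr]; exact hw
  · rw [show r.opensRange.ι ≫ f = r.isoOpensRange.inv ≫ j by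
      rw [← hr, ← Category.assoc, Scheme.Hom.isoOpensRange_inv_comp]]
    infer_instance

/-- An etale morphism is a local isomorphism at a point over a strictly henselian local ring. -/
theorem exists_open_immersion_sh {V S : Scheme.{u}} (g : V ⟶ S) [Etale g] (y : V)
    (h : EtCoh.IsStrictlyHenselianLocalRing (S.presheaf.stalk (g y))) :
    ∃ O : V.Opens, y ∈ O ∧ IsOpenImmersion (O.ι ≫ g) := by
  obtain ⟨A, j, hj, ⟨z, hz⟩, -⟩ := Scheme.exists_affine_mem_range_and_range_subset
    (x := g y) (U := (⊤ : S.Opens)) trivial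
  let p := pullback.fst g j
  let q := pullback.snd g j
  obtain ⟨w, hw₁, hw₂⟩ := Scheme.Pullback.exists_preimage_pullback (f := g) (g := j) y z hz.symm
  have hA : EtCoh.IsStrictlyHenselianLocalRing ((Spec A).presheaf.stalk (q w)) := by
    change EtCoh.IsStrictlyHenselianLocalRing ((Spec A).presheaf.stalk ((pullback.snd g j) w))
    rw [hw₂]
    rw [← hz] at h
    exact strictHens_of_surjective (asIso (j.stalkMap z)).commRingCatIsoToRingEquiv.toRingHom
      (RingEquiv.surjective _) h
  obtain ⟨O, hwO, hO⟩ := exists_open_immersion_spec_sh (C := A) q w hA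
  refine ⟨p ''ᵁ O, ⟨w, hwO, hw₁⟩, ?_⟩
  have e : O.ι ≫ q ≫ j = (Scheme.Hom.isoImage p O).hom ≫ (p ''ᵁ O).ι ≫ g := by
    rw [← Category.assoc (Scheme.Hom.isoImage p O).hom, Scheme.Hom.isoImage_hom_ι, Category.assoc,
      pullback.condition]
  have : IsOpenImmersion (O.ι ≫ q ≫ j) := by rw [← Category.assoc]; infer_instance
  rw [show (p ''ᵁ O).ι ≫ g = (Scheme.Hom.isoImage p O).inv ≫ O.ι ≫ q ≫ j by rw [e, Iso.inv_hom_id_assoc]]
  infer_instance

end Groth.Agent.EtCore45
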