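import Groth.Agent.EtCore45.MVMain
import Groth.Agent.EtCore45.StrictLocalIso
import Groth.Agent.EtCore45.SheafCrit
import Groth.Agent.EtCore45.Acyclic

/-!
Ext groups out of extensions by zero as cohomology of opens: restriction, Mayer-Vietoris, local vanishing.
-/

set_option autoImplicit false
set_option backward.isDefEq.respectTransparency.types false
universe u

open CategoryTheory CategoryTheory.Limits CategoryTheory.Abelian AlgebraicGeometry Opposite
open Groth.Agent.Unr55.EtSh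

namespace Groth.Agent.EtCore45.MV

variable {X : Scheme.{u}}

/-- Restriction map of representing objects. -/
noncomputable abbrev ρ {U V : X.Opens} (h : U ≤ V) : P U.ι ⟶ P V.ι :=
  aMap V.ι (X.homOfLE h) U.ι (X.homOfLE_ι h)

theorem S_ρ {U V : X.Opens} (h : U ≤ V) {A : EtCoh.Ab X} (φ : P V.ι ⟶ A) :
    S U.ι (ρ h ≫ φ) = A.obj.map (objHom h).op (S V.ι φ) :=
  S_aMap V.ι (X.homOfLE h) U.ι (X.homOfLE_ι h) φ (objHom h)

theorem subsingleton_hom_obj (U : X.Opens) (Z : X.Etale) : Subsingleton (Z ⟶ obj U) :=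
  subsingleton_hom_compTop U.ι Z

theorem ρ_comp {U V W : X.Opens} (h : U ≤ V) (h' : V ≤ W) : ρ h ≫ ρ h' = ρ (h.trans h') := by
  apply (S_bijective U.ι _).1
  have e : ρ h ≫ ρ h' = ρ h ≫ ρ h' ≫ 𝟙 _ := by simp
  change S U.ι (ρ h ≫ ρ h') = S U.ι (ρ (h.trans h'))
  rw [e, S_ρ, S_ρ, ← Category.comp_id (ρ (h.trans h')), S_ρ, map_map]
  have := subsingleton_hom_obj W (obj U)
  exact congrArg (fun k => (P W.ι).obj.map (Quiver.Hom.op k) (S W.ι (𝟙 (P W.ι)))) (Subsingleton.elim _ _)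

theorem ρ_refl (U : X.Opens) : ρ (le_refl U) = 𝟙 (P U.ι) := by
  apply (S_bijective U.ι _).1
  change S U.ι (ρ (le_refl U)) = S U.ι (𝟙 (P U.ι))
  rw [← Category.comp_id (ρ (le_refl U)), S_ρ]
  have := subsingleton_hom_obj U (obj U)
  exact map_endo _ _ (Subsingleton.elim _ _) _

/-- The isomorphism for the whole scheme. -/
theorem isIso_cMap_top : IsIso (cMap (⊤ : X.Opens).ι) := by
  have hiso : IsIso (objTop (⊤ : X.Opens)) := by
    refine ⟨MorphismProperty.Over.homMk X.topIso.inv ?_ trivial, ?_, (EtCore.topIsTerminal X).hom_ext _ _⟩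
    · change X.topIso.inv ≫ (𝟙 _ ≫ (⊤ : X.Opens).ι) = 𝟙 X
      rw [Category.id_comp]
      exact X.topIso.inv_hom_id
    · exact (subsingleton_hom_obj ⊤ _).elim _ _
  have key : ∀ A : EtCoh.Ab X, Function.Bijective fun φ : EtCoh.const X ℤ ⟶ A => cMap (⊤ : X.Opens).ι ≫ φ := by
    intro A
    refine (Function.Bijective.of_comp_iff' (S_bijective (⊤ : X.Opens).ι A) _).1 ?_
    have e : (fun φ : P (⊤ : X.Opens).ι ⟶ A => S (⊤ : X.Opens).ι φ) ∘ (fun φ => cMap (⊤ : X.Opens).ι ≫ φ) =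
        (fun s => A.obj.map (objTop (⊤ : X.Opens)).op s) ∘ (fun φ : EtCoh.const X ℤ ⟶ A => oneSect φ) :=
      funext fun φ => S_cMap _ φ (objTop ⊤)
    rw [e]
    exact (ConcreteCategory.bijective_of_isIso (A.obj.map (objTop (⊤ : X.Opens)).op)).comp (oneSect_bijective A)
  obtain ⟨g, hg : cMap _ ≫ g = 𝟙 _⟩ := (key _).2 (𝟙 _)
  refine ⟨g, hg, (key _).1 ?_⟩
  change cMap _ ≫ g ≫ cMap _ = cMap _ ≫ 𝟙 _
  rw [reassoc_of% hg, Category.comp_id]

/-- Restriction of classes. -/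
noncomputable abbrev rs {U V : X.Opens} (h : U ≤ V) {F : EtCoh.Ab X} {n : ℕ} (ξ : Ext (P V.ι) F n) :
    Ext (P U.ι) F n :=
  (Ext.mk₀ (ρ h)).comp ξ (zero_add n)

theorem rs_rs {U V W : X.Opens} (h : U ≤ V) (h' : V ≤ W) {F : EtCoh.Ab X} {n : ℕ} (ξ : Ext (P W.ι) F n) :
    rs h (rs h' ξ) = rs (h.trans h') ξ := by
  rw [rs, rs, Ext.mk₀_comp_mk₀_assoc, ρ_comp]

theorem rs_zero {U V : X.Opens} (h : U ≤ V) (F : EtCoh.Ab X) (n : ℕ) : rs h (0 : Ext (P V.ι) F n) = 0 :=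
  Ext.comp_zero _ _ _ _ _

theorem rs_eq_zero_of_le {U V W : X.Opens} (h : U ≤ V) (h' : V ≤ W) {F : EtCoh.Ab X} {n : ℕ}
    {ξ : Ext (P W.ι) F n} (hξ : rs h' ξ = 0) : rs (h.trans h') ξ = 0 := by
  rw [← rs_rs h h' ξ, hξ, rs_zero]

theorem exists_glue_sup (U V : X.Opens) (A : EtCoh.Ab X) (α : EtCoh.sect A (obj U)) (β : EtCoh.sect A (obj V))
    (h : A.obj.map (objHom (inf_le_left : U ⊓ V ≤ U)).op α = A.obj.map (objHom (inf_le_right : U ⊓ V ≤ V)).op β) :
    ∃! s : EtCoh.sect A (obj (U ⊔ V)), A.obj.map (objHom (le_sup_left : U ≤ U ⊔ V)).op s = α ∧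
      A.obj.map (objHom (le_sup_right : V ≤ U ⊔ V)).op s = β := by
  have hle : ∀ b : Bool, (if b then U else V) ≤ U ⊔ V := fun b => by cases b <;> simp
  let g : ∀ b : Bool, obj (if b then U else V) ⟶ obj (U ⊔ V) := fun b => objHom (hle b)
  have hS : Sieve.ofArrows _ g ∈ X.smallEtaleTopology (obj (U ⊔ V)) := mem_topology fun x => by
    let x' : (↑(U ⊔ V) : Scheme.{u}) := x
    have key : ∀ (b : Bool) (hb : x'.1 ∈ (if b then U else V)),
        ∃ (Z : X.Etale) (k : Z ⟶ obj (U ⊔ V)) (v : Z.left), Sieve.ofArrows _ g k ∧ k.left v = x := by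
      intro b hb
      let v : ((if b then U else V : X.Opens) : Scheme.{u}) := ⟨x'.1, hb⟩
      exact ⟨_, g b, v, Sieve.ofArrows_mk _ _ b, (U ⊔ V).ι.isOpenEmbedding.injective
        (congrArg (fun k : _ ⟶ X => k.base v) (X.homOfLE_ι (hle b)))⟩
    rcases (show x'.1 ∈ ((U ⊔ V : X.Opens) : Set X) from x'.2) with hx | hx
    · exact key true hx
    · exact key false hx
  have hF := isSheafFor_forget A hS
  rw [Sieve.ofArrows, ← Presieve.isSheafFor_iff_generate, Presieve.isSheafFor_arrows_iff] at hF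
  let σ : ∀ b : Bool, EtCoh.sect A (obj (if b then U else V)) := fun b => match b with
    | true => α
    | false => β
  have cross : ∀ (Z : X.Etale) (ga : Z ⟶ obj U) (gb : Z ⟶ obj V),
      A.obj.map ga.op α = A.obj.map gb.op β := by
    intro Z ga gb
    have ha := MorphismProperty.Over.w ga
    have hb := MorphismProperty.Over.w gb
    have e : ∀ U' : X.Opens, (obj U').hom = U'.ι := fun U' => Category.id_comp _
    rw [e] at ha hb
    have hr : Set.range Z.hom ⊆ Set.range (U ⊓ V).ι := by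
      rintro _ ⟨z, rfl⟩
      rw [Scheme.Opens.range_ι]
      exact ⟨(congrArg (fun k : Z.left ⟶ X => k z) ha) ▸ (U.range_ι.le ⟨_, rfl⟩),
        (congrArg (fun k : Z.left ⟶ X => k z) hb) ▸ (V.range_ι.le ⟨_, rfl⟩)⟩
    let l : Z ⟶ obj (U ⊓ V) := MorphismProperty.Over.homMk (@IsOpenImmersion.lift _ _ _ (U ⊓ V).ι Z.hom (instOI _) hr)
      (by rw [e]; exact @IsOpenImmersion.lift_fac _ _ _ _ _ (instOI _) hr) trivial
    rw [(subsingleton_hom_obj U Z).elim ga (l ≫ objHom inf_le_left),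
      (subsingleton_hom_obj V Z).elim gb (l ≫ objHom inf_le_right), ← map_map, ← map_map, h]
  obtain ⟨s, hs, hu⟩ := hF σ fun a b Z ga gb _ => by
    match a, b, ga, gb with
    | true, true, ga, gb => rw [(subsingleton_hom_obj U Z).elim ga gb]
    | false, false, ga, gb => rw [(subsingleton_hom_obj V Z).elim ga gb]
    | true, false, ga, gb => exact cross Z ga gb
    | false, true, ga, gb => exact (cross Z gb ga).symm
  exact ⟨s, ⟨hs true, hs false⟩, fun t ht => hu t fun b => by cases b <;> [exact ht.2; exact ht.1]⟩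

/-- The short complex of a union of two opens. -/
noncomputable def seqSup (U V : X.Opens) : ShortComplex (EtCoh.Ab X) :=
  ShortComplex.mk (biprod.lift (ρ (inf_le_left : U ⊓ V ≤ U)) (-ρ (inf_le_right : U ⊓ V ≤ V)))
    (biprod.desc (ρ (le_sup_left : U ≤ U ⊔ V)) (ρ (le_sup_right : V ≤ U ⊔ V)))
    (by rw [biprod.lift_desc, Preadditive.neg_comp, ρ_comp, ρ_comp, add_neg_cancel])

theorem existsUnique_desc_sup (U V : X.Opens) {A : EtCoh.Ab X} (α : P U.ι ⟶ A) (β : P V.ι ⟶ A)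
    (h : ρ (inf_le_left : U ⊓ V ≤ U) ≫ α = ρ (inf_le_right : U ⊓ V ≤ V) ≫ β) :
    ∃! φ : P (U ⊔ V).ι ⟶ A, ρ le_sup_left ≫ φ = α ∧ ρ le_sup_right ≫ φ = β := by
  have h' := congrArg (S (U ⊓ V).ι) h
  rw [S_ρ, S_ρ] at h'
  obtain ⟨s, ⟨hs₁, hs₂⟩, hu⟩ := exists_glue_sup U V A _ _ h'
  obtain ⟨φ, rfl⟩ := (S_bijective (U ⊔ V).ι A).2 s
  refine ⟨φ, ⟨(S_bijective U.ι A).1 ((S_ρ _ φ).trans hs₁),
    (S_bijective V.ι A).1 ((S_ρ _ φ).trans hs₂)⟩, fun ψ hψ => (S_bijective (U ⊔ V).ι A).1 ?_⟩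
  exact hu _ ⟨(S_ρ _ ψ).symm.trans (congrArg (S U.ι) hψ.1), (S_ρ _ ψ).symm.trans (congrArg (S V.ι) hψ.2)⟩

theorem mono_ρ {U V : X.Opens} (h : U ≤ V) : Mono (ρ h) := by
  have h1 : ρ h ≫ cMap V.ι = cMap U.ι := by
    apply (S_bijective U.ι _).1
    change S U.ι (ρ h ≫ cMap V.ι) = S U.ι (cMap U.ι)
    rw [S_ρ, ← Category.comp_id (cMap V.ι), ← Category.comp_id (cMap U.ι), S_cMap _ _ (objTop V),
      S_cMap _ _ (objTop U), map_map]
    exact congrArg (fun k => (EtCoh.const X ℤ).obj.map (Quiver.Hom.op k) _) ((EtCore.topIsTerminal X).hom_ext _ _)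
  have := mono_cMap U.ι
  exact @mono_of_mono_fac _ _ _ _ _ _ _ _ (mono_cMap U.ι) h1

theorem seqSup_shortExact (U V : X.Opens) : (seqSup U V).ShortExact := by
  have hm : Mono (seqSup U V).f :=
    @mono_of_mono_fac _ _ _ _ _ _ _ _ (mono_ρ (inf_le_left : U ⊓ V ≤ U)) (biprod.lift_fst _ _)
  have he : Epi (seqSup U V).g := by
    refine Preadditive.epi_of_cancel_zero _ fun {A} φ hφ => ?_
    have h1 : ρ (le_sup_left : U ≤ U ⊔ V) ≫ φ = 0 := by
      have := congrArg (fun k => biprod.inl ≫ k) hφ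
      simpa [seqSup] using this.trans comp_zero
    have h2 : ρ (le_sup_right : V ≤ U ⊔ V) ≫ φ = 0 := by
      have := congrArg (fun k => biprod.inr ≫ k) hφ
      simpa [seqSup] using this.trans comp_zero
    exact (existsUnique_desc_sup U V 0 0 (by simp)).unique ⟨h1, h2⟩ ⟨comp_zero, comp_zero⟩
  refine ShortComplex.ShortExact.mk' ?_ hm he
  refine ShortComplex.exact_of_g_is_cokernel _ (CokernelCofork.IsColimit.ofπ' _ _ fun {A} k hk => ?_)
  have hk' : ρ (inf_le_left : U ⊓ V ≤ U) ≫ (biprod.inl ≫ k) = ρ (inf_le_right : U ⊓ V ≤ V) ≫ (biprod.inr ≫ k) := by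
    change biprod.lift (ρ inf_le_left) (-ρ inf_le_right) ≫ k = 0 at hk
    rw [biprod.lift_eq, Preadditive.add_comp] at hk
    simp only [Category.assoc, Preadditive.neg_comp, ← sub_eq_add_neg, sub_eq_zero] at hk
    exact hk
  refine ⟨(existsUnique_desc_sup U V _ _ hk').choose, ?_⟩
  obtain ⟨h1, h2⟩ := (existsUnique_desc_sup U V _ _ hk').choose_spec.1
  exact biprod.hom_ext' _ _ (by simpa [seqSup] using h1) (by simpa [seqSup] using h2)

theorem eq_zero_of_rs_sup {U V : X.Opens} {F : EtCoh.Ab X} {q : ℕ} (hq : Subsingleton (Ext (P (U ⊓ V).ι) F q))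
    (ξ : Ext (P (U ⊔ V).ι) F (q + 1)) (hU : rs le_sup_left ξ = 0) (hV : rs le_sup_right ξ = 0) : ξ = 0 := by
  have hS := seqSup_shortExact U V
  have h0 : (Ext.mk₀ (seqSup U V).g).comp ξ (zero_add (q + 1)) = 0 := by
    refine Ext.biprod_ext ?_ ?_
    · refine (Ext.mk₀_comp_mk₀_assoc _ _ _).trans ((Eq.trans ?_ hU).trans (Ext.comp_zero _ _ _ _ _).symm)
      simp [seqSup, rs]
    · refine (Ext.mk₀_comp_mk₀_assoc _ _ _).trans ((Eq.trans ?_ hV).trans (Ext.comp_zero _ _ _ _ _).symm)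
      simp [seqSup, rs]
  obtain ⟨x, hx⟩ := Ext.contravariant_sequence_exact₃ hS F ξ h0 (Nat.add_comm 1 q)
  rw [← hx, show x = 0 from hq.elim _ _]
  exact Ext.comp_zero _ _ _ _ _

/-- With strictly henselian local rings classes of positive degree vanish Zariski locally. -/
theorem exists_nbhd_rs_eq_zero (hX : ∀ x : X, EtCoh.IsStrictlyHenselianLocalRing (X.presheaf.stalk x)) :
    ∀ (q : ℕ) (F : EtCoh.Ab X) (W : X.Opens) (ξ : Ext (P W.ι) F (q + 1)) (x : X), x ∈ W →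
      ∃ (O : X.Opens) (h : O ≤ W), x ∈ O ∧ rs h ξ = 0 := by
  intro q
  induction q with
  | zero =>
    intro F W ξ x hx
    have hS := injSeq_shortExact F
    obtain ⟨s, rfl⟩ := Ext.covariant_sequence_exact₁ (P W.ι) hS ξ
      (Subsingleton.elim (h := Ext.subsingleton_of_injective _ (Injective.under F) 0) _ _) (zero_add 1)
    obtain ⟨φ, rfl⟩ := (Ext.mk₀_bijective _ _).2 s
    have : Epi (injSeq F).g := hS.epi_g
    have hls : Sheaf.IsLocallySurjective (injSeq F).g :=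
      (Sheaf.isLocallySurjective_iff_epi' AddCommGrpCat.{u + 1} (injSeq F).g).2 inferInstance
    obtain ⟨Z, g, z, ⟨t, ht⟩, -, hz⟩ := (mem_et _).1
      (Presheaf.imageSieve_mem X.smallEtaleTopology (injSeq F).g.hom (U := op (obj W)) (S W.ι φ)) (⟨x, hx⟩ : (W : Scheme.{u}))
    have : Etale Z.hom := Z.prop
    obtain ⟨O, hzO, hO⟩ := exists_open_immersion_sh (S := X) Z.hom z (hX _)
    let V : X.Opens := (O.ι ≫ Z.hom).opensRange
    have hw : g.left ≫ W.ι = Z.hom := by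
      have := MorphismProperty.Over.w g
      rwa [show (obj W).hom = W.ι from Category.id_comp _] at this
    have hVW : V ≤ W := by
      rintro _ ⟨o, rfl⟩
      change Z.hom (O.ι o) ∈ W
      rw [← hw]
      exact (g.left (O.ι o)).2
    let k : obj V ⟶ Z := MorphismProperty.Over.homMk ((O.ι ≫ Z.hom).isoOpensRange.inv ≫ O.ι)
      ((Category.assoc _ _ _).trans ((Scheme.Hom.isoOpensRange_inv_comp _).trans (Category.id_comp _).symm)) trivial
    refine ⟨V, hVW, ⟨⟨z, hzO⟩, ?_⟩, ?_⟩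
    · change Z.hom z = x
      rw [← hw]
      exact congrArg Subtype.val hz
    obtain ⟨ψ, hψ⟩ := (S_bijective V.ι (injSeq F).X₂).2 ((injSeq F).X₂.obj.map k.op t)
    have e : ρ hVW ≫ φ = ψ ≫ (injSeq F).g := by
      apply (S_bijective V.ι _).1
      change S V.ι (ρ hVW ≫ φ) = S V.ι (ψ ≫ (injSeq F).g)
      have e1 : S V.ι (ψ ≫ (injSeq F).g) = (injSeq F).g.hom.app (op (obj V)) (S V.ι ψ) := by
        rw [S, Functor.map_comp, ← Category.assoc, sectOf_comp]
        rfl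
      rw [e1, S_ρ, show S V.ι ψ = _ from hψ, NatTrans.naturality_apply, ht, map_map]
      exact congrArg (fun r => (injSeq F).X₃.obj.map (Quiver.Hom.op r) _) ((subsingleton_hom_obj W _).elim _ _)
    rw [rs, ← Ext.comp_assoc _ _ _ (zero_add 0) (zero_add 1) (by omega), Ext.mk₀_comp_mk₀, e, ← Ext.mk₀_comp_mk₀,
      Ext.comp_assoc _ _ _ (zero_add 0) (zero_add 1) (by omega), hS.comp_extClass, Ext.comp_zero]
  | succ q ih =>
    intro F W ξ x hx
    have hS := injSeq_shortExact F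
    obtain ⟨s, rfl⟩ := Ext.covariant_sequence_exact₁ (P W.ι) hS ξ
      (Subsingleton.elim (h := Ext.subsingleton_of_injective _ (Injective.under F) (q + 1)) _ _) rfl
    obtain ⟨O, h, hxO, hO⟩ := ih _ W s x hx
    refine ⟨O, h, hxO, ?_⟩
    rw [rs] at hO ⊢
    rw [← Ext.comp_assoc _ _ _ (zero_add (q + 1)) rfl (by omega), hO, Ext.zero_comp]

end Groth.Agent.EtCore45.MV
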