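import Groth.Agent.EtCore45.Split
import Groth.Agent.EtCore45.RingSupp
import Groth.Agent.EtCore45.AlgClosedPts
import Groth.Agent.Unr55.Et.Unit
import Groth.Prelude.Def_BigSite

/-!
Conditions (A), (B), (C) for integral and quasi-finite morphisms, and consequences for direct images.
-/

set_option autoImplicit false
set_option backward.isDefEq.respectTransparency.types false
universe u

open CategoryTheory CategoryTheory.Limits AlgebraicGeometry Opposite
open Groth.Agent.FlatMor66 Groth.Agent.Unr55.EtSh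

namespace Groth.Agent.EtCore45

variable {X Y : Scheme.{u}} (f : X ⟶ Y)

/-- Morphisms on disjoint opens glue. -/
theorem exists_glue_disjoint {P U : Scheme.{u}} {μ : Type u} (W : μ → P.Opens)
    (hd : ∀ a b, a ≠ b → Disjoint (W a) (W b)) (ht : ⨆ a, W a = ⊤) (h : ∀ a, (W a : Scheme.{u}) ⟶ U) :
    ∃ k : P ⟶ U, ∀ a, (W a).ι ≫ k = h a := by
  let 𝒰 : P.OpenCover := Scheme.Cover.mkOfCovers μ (fun a => (W a : Scheme.{u})) (fun a => (W a).ι)
    (fun p => by
      obtain ⟨a, ha⟩ := TopologicalSpace.Opens.mem_iSup.1 (ht.ge (TopologicalSpace.Opens.mem_top p))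
      exact ⟨a, ⟨p, ha⟩, rfl⟩) (fun a => inferInstanceAs (IsOpenImmersion (W a).ι))
  refine ⟨𝒰.glueMorphisms h fun a b => ?_, fun a => 𝒰.ι_glueMorphisms h _ a⟩
  by_cases hab : a = b
  · subst hab
    exact congrArg (· ≫ h a) (show pullback.fst (W a).ι (W a).ι = pullback.snd (W a).ι (W a).ι from
      (cancel_mono (W a).ι).1 pullback.condition)
  · have : IsEmpty (pullback (W a).ι (W b).ι : Scheme.{u}) := ⟨fun z =>
      Set.disjoint_left.1 (TopologicalSpace.Opens.coe_disjoint.2 (hd a b hab))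
        ((W a).range_ι.le ⟨pullback.fst (W a).ι (W b).ι z, rfl⟩)
        ((W b).range_ι.le ⟨pullback.snd (W a).ι (W b).ι z, congr($(pullback.condition (f := (W a).ι) (g := (W b).ι)) z).symm⟩)⟩
    exact (isInitialOfIsEmpty (X := pullback (W a).ι (W b).ι)).hom_ext _ _

/-- A clopen piece of a base change mapping to an etale scheme gives condition (A) there. -/
theorem propA_datum {U : Scheme.{u}} (g : U ⟶ X) (u : U) {V P Q : Scheme.{u}} (v : V ⟶ Y) [Etale v]
    {pr₁ : P ⟶ X} {pr₂ : P ⟶ V} (hP : IsPullback pr₁ pr₂ f v) (j : Q ⟶ P) [IsOpenImmersion j]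
    (hj : IsClosed (Set.range j)) (h : Q ⟶ U) (hh : h ≫ g = j ≫ pr₁) (hu : u ∈ Set.range h) :
    ∃ (V : Scheme.{u}) (v : V ⟶ Y) (_ : Etale v) (W : (pullback f v).Opens)
      (_ : IsClosed (W : Set ↥(pullback f v))) (h : (W : Scheme.{u}) ⟶ U),
      h ≫ g = W.ι ≫ pullback.fst f v ∧ u ∈ Set.range h.base := by
  let j' := j ≫ hP.isoPullback.hom
  refine ⟨V, v, inferInstance, j'.opensRange, ?_, j'.isoOpensRange.inv ≫ h, ?_, ?_⟩
  · change IsClosed (Set.range j')
    rw [show Set.range j' = hP.isoPullback.hom '' Set.range j from by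
      rw [← Set.range_comp]; rfl]
    exact hP.isoPullback.hom.isClosedEmbedding.isClosedMap _ hj
  · rw [Category.assoc, hh, Iso.inv_comp_eq, ← Category.assoc j'.isoOpensRange.hom,
      Scheme.Hom.isoOpensRange_hom_ι, Category.assoc, hP.isoPullback_hom_fst]
  · obtain ⟨q, rfl⟩ := hu
    exact ⟨j'.isoOpensRange.hom q, congr($(Iso.hom_inv_id_assoc j'.isoOpensRange h) q)⟩

theorem Split.isClosed {ι : Type u} {U : ι → Scheme.{u}} {g : ∀ i, U i ⟶ X} {y : Y} {Z : Set (Σ i, U i)}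
    (T : Split f g y Z) (a : T.μ) : IsClosed (T.W a : Set T.P) := by
  have e : (T.W a : Set T.P) = (⋃ (b : T.μ) (_ : b ≠ a), (T.W b : Set T.P))ᶜ := by
    ext p
    constructor
    · intro hp hp'
      simp only [Set.mem_iUnion] at hp'
      obtain ⟨b, hb, hpb⟩ := hp'
      exact Set.disjoint_left.1 (TopologicalSpace.Opens.coe_disjoint.2 (T.disj b a hb)) hpb hp
    · intro hp
      obtain ⟨b, hb⟩ := TopologicalSpace.Opens.mem_iSup.1 (T.top.ge (TopologicalSpace.Opens.mem_top p))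
      by_contra hpa
      exact hp (Set.mem_iUnion₂.2 ⟨b, fun hba => hpa (hba ▸ hb), hb⟩)
  rw [e]
  exact (isOpen_iUnion fun b => isOpen_iUnion fun _ => (T.W b).2).isClosed_compl

theorem propA_integral [IsIntegralHom f] : BigSite.PropA f := by
  intro U g _ u
  let Us : ULift.{u} Bool → Scheme.{u} := fun i => cond i.down U X
  let gs : ∀ i, Us i ⟶ X := fun i => match i with
    | ⟨true⟩ => g
    | ⟨false⟩ => 𝟙 X
  have : ∀ i, Etale (gs i) := fun i => match i with
    | ⟨true⟩ => ‹Etale g›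
    | ⟨false⟩ => (inferInstance : Etale (𝟙 X))
  obtain ⟨T⟩ := exists_split f gs (f (g u)) (fun x _ => ⟨⟨false⟩, x, rfl⟩)
    {(⟨⟨true⟩, u⟩ : Σ i, Us i)} Set.subsingleton_singleton (by rintro _ rfl; rfl)
  have := T.etale
  obtain ⟨a, w, hw⟩ := T.des _ rfl
  obtain ⟨h, hh, hu⟩ : ∃ h : (T.W a : Scheme.{u}) ⟶ U, h ≫ g = (T.W a).ι ≫ T.pr₁ ∧ u ∈ Set.range h := by
    have key : ∀ (i : ULift.{u} Bool) (h : (T.W a : Scheme.{u}) ⟶ Us i), h ≫ gs i = (T.W a).ι ≫ T.pr₁ →
        (⟨i, h w⟩ : Σ i, Us i) = ⟨⟨true⟩, u⟩ →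
        ∃ h : (T.W a : Scheme.{u}) ⟶ U, h ≫ g = (T.W a).ι ≫ T.pr₁ ∧ u ∈ Set.range h := by
      intro i h hh e
      obtain ⟨rfl, e'⟩ := Sigma.mk.inj_iff.1 e
      exact ⟨h, hh, w, eq_of_heq e'⟩
    exact key _ (T.h a) (T.comm a) hw
  exact propA_datum f g u T.v T.isPullback (T.W a).ι (by rw [Scheme.Opens.range_ι]; exact T.isClosed f a) h hh hu

theorem propA_qf [IsSeparated f] [LocallyQuasiFinite f] [LocallyOfFiniteType f] : BigSite.PropA f := by
  intro U g _ u
  obtain ⟨K, _, _, l, hl⟩ := exists_gpt (V := U) u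
  obtain ⟨W, b, r', P, Q, q₁, q₂, j, gQ, m, hb, -, hP, hjo, hjc, hg, hmg, -, -⟩ :=
    exists_clopen_piece_qf f g (l ≫ g ≫ f) l rfl
  exact propA_datum f g u b hP j j.isClosedEmbedding.isClosed_range gQ hg
    ⟨gpt m, by rw [← gpt_comp, hmg, hl]⟩

theorem propB_integral [IsIntegralHom f] : BigSite.PropB f := by
  intro V v _ ι U g hg hcov
  have : IsIntegralHom (pullback.snd f v) := MorphismProperty.pullback_snd _ _ inferInstance
  have := hg
  have key : ∀ y : V, Nonempty (Split (pullback.snd f v) g y ∅) := fun y =>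
    exists_split _ g y (fun x _ => (hcov x).imp fun i hi => hi) ∅ Set.subsingleton_empty fun _ h => h.elim
  let T := fun y : V => (key y).some
  refine ⟨V, fun y => (T y).V, fun y => (T y).v, fun y => (T y).etale, fun y => ⟨y, (T y).mem⟩, fun y => ?_⟩
  have hP : IsPullback ((T y).pr₁ ≫ pullback.fst f v) (T y).pr₂ f ((T y).v ≫ v) :=
    (T y).isPullback.paste_horiz (IsPullback.of_hasPullback f v)
  let e := hP.isoPullback
  refine ⟨(T y).μ, fun a => e.inv ⁻¹ᵁ (T y).W a, fun a b hab => ?_, ?_, fun a =>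
    ⟨(T y).idx a, (e.inv ∣_ (T y).W a) ≫ (T y).h a, ?_⟩⟩
  · refine disjoint_iff.2 ?_
    rw [← Scheme.Hom.preimage_inf, ((T y).disj a b hab).eq_bot, Scheme.Hom.preimage_bot]
  · rw [← Scheme.Hom.preimage_iSup, (T y).top, Scheme.Hom.preimage_top]
  · rw [Category.assoc, (T y).comm, ← Category.assoc, morphismRestrict_ι, Category.assoc]
    congr 1
    rw [Iso.inv_comp_eq]
    apply pullback.hom_ext
    · rw [Category.assoc, pullback.lift_fst, Category.comp_id, hP.isoPullback_hom_fst]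
    · rw [Category.assoc, pullback.lift_snd, ← Category.assoc, hP.isoPullback_hom_snd]
      exact (T y).isPullback.w

theorem propC_integral [IsIntegralHom f] (hf : Topology.IsClosedEmbedding f.base) : BigSite.PropC f := by
  intro U g _
  let Us : PUnit.{u + 1} → Scheme.{u} := fun _ => U
  let gs : ∀ i, Us i ⟶ X := fun _ => g
  have : ∀ i, Etale (gs i) := fun _ => ‹Etale g›
  have key : ∀ u : U, Nonempty (Split f gs (f (g u)) {(⟨⟨⟩, u⟩ : Σ i, Us i)}) := fun u =>
    exists_split f gs _ (fun x hx => ⟨⟨⟩, u, (hf.injective hx).symm⟩) _ Set.subsingleton_singleton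
      (by rintro _ rfl; rfl)
  let T := fun u : U => (key u).some
  let O : Y.Opens := ⟨(Set.range f)ᶜ, hf.isClosed_range.isOpen_compl⟩
  let Vs : Option U → Scheme.{u} := fun o => o.elim (O : Scheme.{u}) (fun u => (T u).V)
  let vs : ∀ o, Vs o ⟶ Y := fun o => match o with
    | none => O.ι
    | some u => (T u).v
  have hvs : ∀ o, Etale (vs o) := fun o => match o with
    | none => (inferInstance : Etale O.ι)
    | some u => (T u).etale
  let v : (∐ Vs : Scheme.{u}) ⟶ Y := Sigma.desc vs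
  have : Etale v := IsZariskiLocalAtSource.sigmaDesc hvs
  let ιs : ∀ u : U, (T u).V ⟶ (∐ Vs : Scheme.{u}) := fun u => Sigma.ι Vs (some u)
  have hιs : ∀ u, ιs u ≫ v = (T u).v := fun u => Sigma.ι_desc vs (some u)
  let W : Option U → (pullback f v).Opens := fun o => pullback.snd f v ⁻¹ᵁ (Sigma.ι Vs o).opensRange
  let cc : ∀ u : U, (T u).P ⟶ pullback f v := fun u => pullback.lift (T u).pr₁ ((T u).pr₂ ≫ ιs u)
    ((T u).isPullback.w.trans ((congrArg ((T u).pr₂ ≫ ·) (hιs u)).symm.trans (Category.assoc _ _ _).symm))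
  have hkk : ∀ u : U, ∃ k : (T u).P ⟶ U, (∀ a, ((T u).W a).ι ≫ k = (T u).h a) ∧ k ≫ g = (T u).pr₁ := fun u => by
    obtain ⟨k, hk⟩ := exists_glue_disjoint (T u).W (T u).disj (T u).top (fun a => (T u).h a)
    refine ⟨k, hk, Scheme.Cover.hom_ext (Scheme.Cover.mkOfCovers (T u).μ (fun a => ((T u).W a : Scheme.{u}))
      (fun a => ((T u).W a).ι) (fun p => ?_) (fun a => inferInstanceAs (IsOpenImmersion ((T u).W a).ι))) _ _
      fun a => (Category.assoc _ _ _).symm.trans ((congrArg (· ≫ g) (hk a)).trans ((T u).comm a))⟩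
    obtain ⟨a, ha⟩ := TopologicalSpace.Opens.mem_iSup.1 ((T u).top.ge (TopologicalSpace.Opens.mem_top p))
    exact ⟨a, ⟨p, ha⟩, rfl⟩
  choose kk hk hkg using hkk
  have hsq : ∀ o, ∃ q : (W o : Scheme.{u}) ⟶ Vs o, q ≫ Sigma.ι Vs o = (W o).ι ≫ pullback.snd f v ∧
      q ≫ vs o = (W o).ι ≫ pullback.fst f v ≫ f := fun o => by
    have hr : Set.range ((W o).ι ≫ pullback.snd f v) ⊆ Set.range (Sigma.ι Vs o) := by
      rintro _ ⟨p, rfl⟩
      exact ((W o).range_ι.le ⟨p, rfl⟩ :)
    refine ⟨IsOpenImmersion.lift (Sigma.ι Vs o) ((W o).ι ≫ pullback.snd f v) hr,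
      IsOpenImmersion.lift_fac _ _ _, ?_⟩
    rw [pullback.condition, ← Category.assoc, ← Sigma.ι_desc vs o, ← Category.assoc, IsOpenImmersion.lift_fac]
  have hpiece : ∀ o, ∃ h : (W o : Scheme.{u}) ⟶ U, h ≫ g = (W o).ι ≫ pullback.fst f v ∧
      ∀ u, o = some u → ∀ (x : (T u).P) (z : (W o : Scheme.{u})), (W o).ι z = cc u x → h z = kk u x := by
    intro o
    obtain ⟨q, hq1, hq⟩ := hsq o
    match o, q, hq1, hq with
    | none, q, hq1, hq =>
      have : IsEmpty (W none : Scheme.{u}) := ⟨fun p => by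
        have h1 := congr($hq p)
        exact (O.range_ι.le ⟨q p, rfl⟩ : O.ι (q p) ∈ O) (h1 ▸ ⟨_, rfl⟩)⟩
      exact ⟨(isInitialOfIsEmpty (X := (W none : Scheme.{u}))).to U,
        (isInitialOfIsEmpty (X := (W none : Scheme.{u}))).hom_ext _ _, fun u h => by cases h⟩
    | some u, q, hq1, hq =>
      let L : (W (some u) : Scheme.{u}) ⟶ (T u).P := (T u).isPullback.lift ((W (some u)).ι ≫ pullback.fst f v) q
        ((Category.assoc _ _ _).trans hq.symm)
      refine ⟨L ≫ kk u, ?_, ?_⟩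
      · rw [Category.assoc, hkg, IsPullback.lift_fst]
      rintro _ ⟨rfl⟩ x z hz
      have hr : Set.range (cc u) ⊆ Set.range (W (some u)).ι := by
        rintro _ ⟨y, rfl⟩
        refine (W (some u)).range_ι.ge ⟨(T u).pr₂ y, ?_⟩
        exact (congr($(pullback.lift_snd (f := f) (g := v) (T u).pr₁ ((T u).pr₂ ≫ ιs u) _) y)).symm
      let c' : (T u).P ⟶ (W (some u) : Scheme.{u}) := IsOpenImmersion.lift (W (some u)).ι (cc u) hr
      have hc' : c' ≫ (W (some u)).ι = cc u := IsOpenImmersion.lift_fac _ _ _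
      have hcL : c' ≫ L = 𝟙 (T u).P := by
        refine (T u).isPullback.hom_ext ?_ ?_
        · rw [Category.assoc, IsPullback.lift_fst, ← Category.assoc, hc', pullback.lift_fst, Category.id_comp]
        · rw [Category.assoc, IsPullback.lift_snd, Category.id_comp]
          have : Mono (ιs u) := inferInstanceAs (Mono (Sigma.ι Vs (some u)))
          refine (cancel_mono (ιs u)).1 ?_
          rw [Category.assoc]
          refine (congrArg (c' ≫ ·) hq1).trans ?_
          rw [← Category.assoc, hc', pullback.lift_snd]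
      have : z = c' x := (W (some u)).ι.injective (hz.trans congr($hc'.symm x))
      rw [this, ← Scheme.Hom.comp_apply, ← Category.assoc, hcL, Category.id_comp]
  choose hw hwg hwu using hpiece
  obtain ⟨h, hh⟩ := exists_glue_disjoint W (fun a b hab => disjoint_iff.2 (le_bot_iff.1 fun p ⟨h1, h2⟩ => by
      obtain ⟨a', ha'⟩ := h1
      obtain ⟨b', hb'⟩ := h2
      exact hab (congrArg Sigma.fst ((sigmaMk Vs).injective (a₁ := ⟨a, a'⟩) (a₂ := ⟨b, b'⟩)
        (by rw [sigmaMk_mk, sigmaMk_mk]; exact ha'.trans hb'.symm))))) (top_le_iff.1 fun p _ => by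
      obtain ⟨⟨o, p'⟩, hp'⟩ := (sigmaMk Vs).surjective (pullback.snd f v p)
      rw [sigmaMk_mk] at hp'
      exact TopologicalSpace.Opens.mem_iSup.2 ⟨o, p', hp'⟩) hw
  refine ⟨_, v, inferInstance, h, ?_, ⟨fun u => ?_⟩⟩
  · refine Scheme.Cover.hom_ext (Scheme.Cover.mkOfCovers (Option U) (fun o => (W o : Scheme.{u}))
      (fun o => (W o).ι) (fun p => ?_) (fun o => inferInstanceAs (IsOpenImmersion (W o).ι))) _ _ fun o => ?_
    · obtain ⟨⟨o, p'⟩, hp'⟩ := (sigmaMk Vs).surjective (pullback.snd f v p)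
      rw [sigmaMk_mk] at hp'
      exact ⟨o, ⟨p, p', hp'⟩, rfl⟩
    · refine (Category.assoc _ _ _).symm.trans ?_
      exact (congrArg (· ≫ g) (hh o)).trans (hwg o)
  · obtain ⟨a, w, hw'⟩ := (T u).des _ rfl
    let p : (T u).P := ((T u).W a).ι w
    have hmem : cc u p ∈ W (some u) := ⟨(T u).pr₂ p,
      (congr($(pullback.lift_snd (f := f) (g := v) (T u).pr₁ ((T u).pr₂ ≫ ιs u) _) p)).symm⟩
    refine ⟨cc u p, ?_⟩
    refine (congr($(hh (some u)) ⟨_, hmem⟩) :).trans ((hwu (some u) u rfl p ⟨_, hmem⟩ rfl).trans ?_)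
    refine (congr($(hk u a) w) :).trans ?_
    exact eq_of_heq (Sigma.mk.inj_iff.1 hw').2

end Groth.Agent.EtCore45
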