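import Groth.Agent.EtCore45.RingSupp
import Groth.Agent.Unr55.Et.FinitePush
import Groth.Agent.Unr55.Et.Unit
import Groth.Prelude.Def_BigSite

/-!
Consequences of condition (A) for direct images of abelian etale sheaves.
-/

set_option autoImplicit false
set_option backward.isDefEq.respectTransparency.types false
universe u

open CategoryTheory CategoryTheory.Limits AlgebraicGeometry Opposite
open Groth.Agent.Unr55.EtSh

namespace Groth.Agent.EtCore45

variable {X Y : Scheme.{u}} (f : X ⟶ Y)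

theorem pushStalkMap_surjective_of_propA (hA : BigSite.PropA f) {Ω : Type u} [Field Ω] [IsSepClosed Ω]
    (ξ : Spec (CommRingCat.of Ω) ⟶ X) (F : EtCoh.Ab X) : Function.Surjective (pushStalkMap f ξ F) := by
  intro b
  obtain ⟨U, t, τ, rfl⟩ := exists_germ_eq ξ F b
  have : Etale U.hom := U.prop
  have ht : hom ξ t ≫ U.hom = ξ := Over.w t
  obtain ⟨V, v, _, W, hW, h, hh, hu⟩ := hA U.left U.hom (hom ξ t default)
  let Vo : Y.Etale := Scheme.Etale.mk v
  let j' : (W : Scheme.{u}) ⟶ pullback v f := W.ι ≫ (pullbackSymmetry f v).hom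
  have : IsClosedImmersion W.ι := IsClosedImmersion.of_isPreimmersion W.ι (by rw [W.range_ι]; exact hW)
  have : IsClosedImmersion j' := inferInstanceAs (IsClosedImmersion (W.ι ≫ (pullbackSymmetry f v).hom))
  have : IsOpenImmersion j' := inferInstanceAs (IsOpenImmersion (W.ι ≫ (pullbackSymmetry f v).hom))
  have : Etale (pullback.snd v f) := MorphismProperty.pullback_snd _ _ ‹Etale v›
  have : Etale (j' ≫ pullback.snd v f) := inferInstance
  have hjs : j' ≫ pullback.snd v f = W.ι ≫ pullback.fst f v := by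
    rw [Category.assoc, pullbackSymmetry_hom_comp_snd]
  have : Etale h := by
    have : Etale (h ≫ U.hom) := by rw [hh, ← hjs]; infer_instance
    exact Etale.of_comp h U.hom
  obtain ⟨l', hl'⟩ : ∃ l : Spec (CommRingCat.of Ω) ⟶ (W : Scheme.{u}), l ≫ h = hom ξ t := by
    obtain ⟨p⟩ := exists_pt (MorphismProperty.Over.mk ⊤ h ‹Etale h› : U.left.Etale) (hom ξ t) hu
    exact ⟨hom _ p, Over.w p⟩
  let Qo : X.Etale := Scheme.Etale.mk (j' ≫ pullback.snd v f)
  let ι : Qo ⟶ (EtCoh.bc f).obj Vo := MorphismProperty.Over.homMk j' rfl trivial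
  let gQ : Qo ⟶ U := MorphismProperty.Over.homMk h (hh.trans hjs.symm) trivial
  have : IsOpenImmersion ι.left := ‹IsOpenImmersion j'›
  have : IsClosedImmersion ι.left := ‹IsClosedImmersion j'›
  obtain ⟨σ, hσ, -⟩ := exists_extend_zero F ι (F.obj.map gQ.op τ)
  have hl : l' ≫ j' ≫ pullback.snd v f = ξ := by
    rw [hjs, ← hh, ← Category.assoc, hl', ht]
  let mQ : Pt ξ Qo := mkPt _ l' hl
  let s : Pt (ξ ≫ f) Vo := mkPt _ (l' ≫ j' ≫ pullback.fst v f) (by
    change (l' ≫ j' ≫ pullback.fst v f) ≫ v = ξ ≫ f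
    conv_rhs => rw [← hl]
    simp only [Category.assoc, pullback.condition])
  refine ⟨germ (ξ ≫ f) ((EtCoh.push f).obj F) s σ, ?_⟩
  have e1 : (Scheme.pointSmallEtale ξ).fiber.map ι mQ = ptUp f ξ s := by
    refine Over.OverMorphism.ext (pullback.hom_ext ?_ ?_)
    · exact (Category.assoc _ _ _).trans (pullback.lift_fst _ _ _).symm
    · exact ((Category.assoc _ _ _).trans hl).trans (pullback.lift_snd _ _ _).symm
  have e2 : (Scheme.pointSmallEtale ξ).fiber.map gQ mQ = t := Over.OverMorphism.ext hl'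
  rw [pushStalkMap_germ, ← e1, ← germ_map, hσ, germ_map, e2]

theorem counit_stalk_surjective {Ω : Type u} [Field Ω] [IsSepClosed Ω]
    (ξ : Spec (CommRingCat.of Ω) ⟶ X) (G : EtCoh.Ab X) (h : Function.Surjective (pushStalkMap f ξ G)) :
    Function.Surjective ((EtCoh.stalk ξ).map ((EtCoh.pullPushAdj f).counit.app G)) := by
  intro b
  obtain ⟨a, rfl⟩ := h b
  obtain ⟨V, s, σ, rfl⟩ := exists_germ_eq (ξ ≫ f) ((EtCoh.push f).obj G) a
  refine ⟨theta f ξ _ (germ (ξ ≫ f) _ s σ), ?_⟩
  refine (congrArg ((EtCoh.stalk ξ).map _) (theta_germ f ξ ((EtCoh.push f).obj G) s σ)).trans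
    ((stalk_map_germ ξ _ (ptUp f ξ s) _).trans (Eq.trans ?_ (pushStalkMap_germ f ξ G s σ).symm))
  exact congrArg (germ ξ G (ptUp f ξ s)) (ConcreteCategory.congr_hom (congrArg (fun k => k.hom.app (op V))
    ((EtCoh.pullPushAdj f).right_triangle_components G)) σ)

theorem epi_counit_of_propA (hA : BigSite.PropA f) (F : EtCoh.Ab X) : Epi ((EtCoh.pullPushAdj f).counit.app F) :=
  epi_of_stalks _ fun _ _ _ ξ => counit_stalk_surjective f ξ F (pushStalkMap_surjective_of_propA f hA ξ F)

theorem push_faithful_of_propA (hA : BigSite.PropA f) : (EtCoh.push f).Faithful := by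
  have := epi_counit_of_propA f hA
  exact (EtCoh.pullPushAdj f).faithful_R_of_epi_counit_app

theorem push_propA_package (hA : BigSite.PropA f) :
    (EtCoh.push f).ReflectsMonomorphisms ∧ (EtCoh.push f).ReflectsEpimorphisms ∧
      (∀ F : EtCoh.Ab X, Epi ((EtCoh.pullPushAdj f).counit.app F)) ∧ (EtCoh.push f).Faithful :=
  have := push_faithful_of_propA f hA
  ⟨inferInstance, inferInstance, epi_counit_of_propA f hA, this⟩

end Groth.Agent.EtCore45
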