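import Groth.Agent.FlatMor66.Split
import Mathlib.AlgebraicGeometry.Morphisms.FlatMono
import Mathlib.AlgebraicGeometry.Morphisms.Etale
import Groth.Agent.Unr55.Et.FiniteSplit

/-!
Clopen pieces over separated quasi-finite morphisms after etale localisation of the base.
-/

set_option autoImplicit false
set_option backward.isDefEq.respectTransparency.types false
universe u

open AlgebraicGeometry CategoryTheory Limits IsLocalRing Groth.Agent.FlatMor66 Groth.Agent.Unr55.EtSh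

namespace Groth.Agent.EtCore45

variable {K : Type u} [Field K] [IsAlgClosed K]

/-- Around a geometric point of an etale scheme over a finite `V`-scheme there is, etale locally on `V`,
a clopen piece through which it maps. -/
theorem exists_clopen_piece_qf {X V U : Scheme.{u}} (f : X ⟶ V) [IsSeparated f] [LocallyQuasiFinite f] [LocallyOfFiniteType f] (e : U ⟶ X) [Etale e]
    (r : Spec (CommRingCat.of K) ⟶ V) (l : Spec (CommRingCat.of K) ⟶ U) (hl : l ≫ e ≫ f = r) :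
    ∃ (W : Scheme.{u}) (b : W ⟶ V) (r' : Spec (CommRingCat.of K) ⟶ W) (P Q : Scheme.{u})
      (pr₁ : P ⟶ X) (pr₂ : P ⟶ W) (j : Q ⟶ P) (g : Q ⟶ U) (m : Spec (CommRingCat.of K) ⟶ Q),
      Etale b ∧ r' ≫ b = r ∧ IsPullback pr₁ pr₂ f b ∧ IsOpenImmersion j ∧ IsClosedImmersion j ∧
      g ≫ e = j ≫ pr₁ ∧ m ≫ g = l ∧ m ≫ j ≫ pr₂ = r' ∧ ∀ m', m' ≫ j ≫ pr₂ = r' → m' = m := by
  obtain ⟨A, i, hi, hA, -⟩ := Scheme.exists_affine_mem_range_and_range_subset
    (x := gpt l) (U := (⊤ : U.Opens)) trivial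
  let l₀ := IsOpenImmersion.lift i l (by
    rintro _ ⟨a, rfl⟩
    rw [Subsingleton.elim a (closedPoint K)]
    exact hA)
  have hl₀ : l₀ ≫ i = l := IsOpenImmersion.lift_fac _ _ _
  let f₀ := i ≫ e ≫ f
  have : LocallyQuasiFinite (i ≫ e) := lqf_of_etale _
  have : LocallyQuasiFinite f₀ := (congrArg _ (Category.assoc i e f)).mp (inferInstance : LocallyQuasiFinite ((i ≫ e) ≫ f))
  have hl₀r : l₀ ≫ f₀ = r := by rw [← Category.assoc, hl₀]; exact hl
  obtain ⟨D⟩ := exists_splitting f₀ r {gpt l₀} (Set.finite_singleton _)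
    (by rintro _ rfl; rw [← gpt_comp, hl₀r])
  have := D.etale
  let q₀ : {q : GPt f₀ r // gpt q.1 ∈ ({gpt l₀} : Set _)} := ⟨⟨l₀, hl₀r⟩, rfl⟩
  have := D.finite q₀
  let α : pullback f₀ D.b ⟶ pullback f D.b :=
    pullback.lift (pullback.fst _ _ ≫ i ≫ e) (pullback.snd _ _)
      (by rw [Category.assoc, Category.assoc, pullback.condition])
  have hα : IsPullback (pullback.fst f₀ D.b) α (i ≫ e) (pullback.fst f D.b) := by
    refine IsPullback.of_bot ?_ (pullback.lift_fst _ _ _).symm (IsPullback.of_hasPullback f D.b)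
    rw [pullback.lift_snd]
    simpa [f₀] using IsPullback.of_hasPullback f₀ D.b
  have : Etale α := MorphismProperty.of_isPullback (P := @Etale) hα inferInstance
  let j₀ := (D.V q₀).ι ≫ α
  have hj₀ : j₀ ≫ pullback.snd f D.b = (D.V q₀).ι ≫ pullback.snd f₀ D.b := by
    rw [Category.assoc, pullback.lift_snd]
  have : IsFinite (j₀ ≫ pullback.snd f D.b) := hj₀ ▸ D.finite q₀
  let m₁ := pullback.lift l₀ D.r (hl₀r.trans D.hr.symm)
  have hm₁ : gpt m₁ ∈ D.V q₀ := D.mem q₀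
  let m₀ := IsOpenImmersion.lift (D.V q₀).ι m₁ (by
    rintro _ ⟨a, rfl⟩
    rw [Subsingleton.elim a (closedPoint K)]
    exact (D.V q₀).range_ι.ge hm₁)
  have hm₀ : m₀ ≫ (D.V q₀).ι = m₁ := IsOpenImmersion.lift_fac _ _ _
  have hu : ∀ m', m' ≫ j₀ ≫ pullback.snd f D.b = D.r → m' = m₀ := by
    intro m' hm'
    rw [hj₀, ← Category.assoc] at hm'
    have hmem : gpt (m' ≫ (D.V q₀).ι) ∈ D.V q₀ := (D.V q₀).range_ι.le ⟨gpt m', rfl⟩
    have hsnd : pullback.snd f₀ D.b (gpt (m' ≫ (D.V q₀).ι)) = gpt D.r := by rw [← gpt_comp, hm']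
    have h1 : gpt (m' ≫ (D.V q₀).ι) = gpt m₁ := D.unique q₀ _ hmem hsnd
    have h2 := D.pi (gpt m₁) (by rw [← gpt_comp, pullback.lift_snd]) (by
        rw [← gpt_comp, pullback.lift_fst]; rfl) K (m' ≫ (D.V q₀).ι) m₁ h1 rfl
      (by rw [hm', pullback.lift_snd])
    exact (cancel_mono (D.V q₀).ι).1 (h2.trans hm₀.symm)
  obtain ⟨O, hrO, hopen, hclosed⟩ := exists_open_isOpenClosed_immersion j₀ (pullback.snd f D.b) D.r m₀ hu
  let P' : (pullback f D.b).Opens := pullback.snd f D.b ⁻¹ᵁ O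
  let r' := IsOpenImmersion.lift O.ι D.r (by
    rintro _ ⟨a, rfl⟩
    rw [Subsingleton.elim a (closedPoint K)]
    exact O.range_ι.ge hrO)
  have hr' : r' ≫ O.ι = D.r := IsOpenImmersion.lift_fac _ _ _
  have hm₀r : m₀ ≫ j₀ ≫ pullback.snd f D.b = D.r := by
    rw [hj₀, ← Category.assoc, hm₀, pullback.lift_snd]
  let m := IsOpenImmersion.lift (j₀ ⁻¹ᵁ P').ι m₀ (by
    rintro _ ⟨a, rfl⟩
    rw [Subsingleton.elim a (closedPoint K)]
    refine (j₀ ⁻¹ᵁ P').range_ι.ge ?_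
    change pullback.snd f D.b (j₀ (gpt m₀)) ∈ O
    rw [← Scheme.Hom.comp_apply, ← gpt_comp, hm₀r]
    exact hrO)
  have hm : m ≫ (j₀ ⁻¹ᵁ P').ι = m₀ := IsOpenImmersion.lift_fac _ _ _
  have hj : (j₀ ∣_ P') ≫ P'.ι = (j₀ ⁻¹ᵁ P').ι ≫ j₀ := morphismRestrict_ι _ _
  have hpr : (pullback.snd f D.b ∣_ O) ≫ O.ι = P'.ι ≫ pullback.snd f D.b := morphismRestrict_ι _ _
  have key : ∀ m' : Spec (CommRingCat.of K) ⟶ (j₀ ⁻¹ᵁ P').toScheme,
      (m' ≫ (j₀ ∣_ P') ≫ (pullback.snd f D.b ∣_ O)) ≫ O.ι =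
        (m' ≫ (j₀ ⁻¹ᵁ P').ι) ≫ j₀ ≫ pullback.snd f D.b := fun m' => by
    simp only [Category.assoc, hpr, reassoc_of% hj]
  refine ⟨O, O.ι ≫ D.b, r', P', j₀ ⁻¹ᵁ P', P'.ι ≫ pullback.fst f D.b, pullback.snd f D.b ∣_ O,
    j₀ ∣_ P', (j₀ ⁻¹ᵁ P').ι ≫ (D.V q₀).ι ≫ pullback.fst f₀ D.b ≫ i, m, inferInstance,
    by rw [← Category.assoc, hr', D.hr],
    (isPullback_morphismRestrict (pullback.snd f D.b) O).flip.paste_horiz (IsPullback.of_hasPullback f D.b),
    hopen, hclosed, ?_, ?_, ?_, ?_⟩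
  · rw [reassoc_of% hj]
    simp only [Category.assoc]
    congr 1
    change _ = ((D.V q₀).ι ≫ α) ≫ _
    rw [Category.assoc, pullback.lift_fst]
  · rw [reassoc_of% hm, reassoc_of% hm₀, ← Category.assoc, pullback.lift_fst, hl₀]
  · refine (cancel_mono O.ι).1 ((key m).trans ?_)
    rw [hm, hm₀r, hr']
  · intro m' h
    refine (cancel_mono (j₀ ⁻¹ᵁ P').ι).1 ((hu _ ?_).trans hm.symm)
    rw [← key, h, hr']

end Groth.Agent.EtCore45
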