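import Groth.Agent.H98EtZar.Acyclic
import Groth.Agent.EtCore45.StrictLocalIso
import Groth.Agent.EtCore45.SheafCrit

/-!
On schemes with strictly henselian local rings etale and Zariski cohomology agree.
-/

set_option autoImplicit false
set_option backward.isDefEq.respectTransparency.types false
universe u

open CategoryTheory CategoryTheory.Limits CategoryTheory.Abelian AlgebraicGeometry Opposite TopologicalSpace

namespace Groth.Agent.EtCore45

open Unr55

variable (X : Scheme.{u}) [EtZar.ZarCont X]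

theorem shortExact_resZar_sh (hX : ∀ x : X, EtCoh.IsStrictlyHenselianLocalRing (X.presheaf.stalk x))
    (S : ShortComplex (EtCoh.Ab X)) (hS : S.ShortExact) : (S.map (EtZar.resZar X)).ShortExact := by
  have : Epi S.g := hS.epi_g
  have hls : Sheaf.IsLocallySurjective S.g :=
    (Sheaf.isLocallySurjective_iff_epi' AddCommGrpCat.{u + 1} S.g).2 inferInstance
  have : Sheaf.IsLocallySurjective (S.map (EtZar.resZar X)).g := by
    constructor
    intro U s x hx
    obtain ⟨Z, g, z, ⟨t, ht⟩, hg, hz⟩ :=
      (mem_et _).1 (Presheaf.imageSieve_mem X.smallEtaleTopology S.g.hom (U := op ((EtZar.zarToEt X).obj U)) s) ⟨x, hx⟩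
    have : Etale Z.hom := Z.prop
    obtain ⟨O, hzO, hO⟩ := exists_open_immersion_sh Z.hom z (hX _)
    let V : X.Opens := (O.ι ≫ Z.hom).opensRange
    have hw : g.left ≫ Scheme.Opens.ι (X := X) U = Z.hom := MorphismProperty.Over.w g
    have hVU : V ≤ U := by
      rintro _ ⟨o, rfl⟩
      change Z.hom (O.ι o) ∈ U
      rw [← hw]
      exact (g.left (O.ι o)).2
    let k : (EtZar.zarToEt X).obj V ⟶ Z := MorphismProperty.Over.homMk
      ((O.ι ≫ Z.hom).isoOpensRange.inv ≫ O.ι)
      ((Category.assoc _ _ _).trans (Scheme.Hom.isoOpensRange_inv_comp _)) trivial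
    refine ⟨V, homOfLE hVU, ⟨S.X₂.obj.map k.op t, ?_⟩, ?_⟩
    · change S.g.hom.app (op ((EtZar.zarToEt X).obj V)) (S.X₂.obj.map k.op t) =
        S.X₃.obj.map ((EtZar.zarToEt X).map (homOfLE hVU)).op s
      rw [NatTrans.naturality_apply, ht, ← ConcreteCategory.comp_apply, ← S.X₃.obj.map_comp, ← op_comp]
      congr 4
      exact MorphismProperty.Over.Hom.ext ((cancel_mono (Scheme.Opens.ι (X := X) U)).1
        ((MorphismProperty.Over.w (k ≫ g)).trans
          (MorphismProperty.Over.w ((EtZar.zarToEt X).map (homOfLE hVU))).symm))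
    · refine ⟨⟨z, hzO⟩, ?_⟩
      change Z.hom z = x
      rw [← hw]
      exact congrArg Subtype.val hz
  exact ZarCmp.shortExact_of_sections _
    (fun V => (CechFl.exists_sections_preimage S hS ((EtZar.zarToEt X).obj V) 0 (map_zero _)).1)
    (fun V y hy => (CechFl.exists_sections_preimage S hS ((EtZar.zarToEt X).obj V) y hy).2)

theorem H_equiv_resZar_sh (hX : ∀ x : X, EtCoh.IsStrictlyHenselianLocalRing (X.presheaf.stalk x))
    (F : EtCoh.Ab X) (p : ℕ) : Nonempty (EtCoh.H X F p ≃+ EtZar.H ((EtZar.resZar X).obj F) p) :=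
  ExtCmp.compare (EtZar.resZar X) _ _ (fun _ => True) (fun S hS _ _ => shortExact_resZar_sh X hX S hS)
    (fun _ _ _ _ => trivial)
    (fun I hI n => ZarCmp.subsingleton_H_of_flasque X _ (@GaZar.isFlasque_resZar X I hI) n)
    (fun G => (ExtCmp.homTop (GaZar.zarTopTerminal X) G).trans
      (ExtCmp.homTop (ZarCmp.topTerminal X) ((EtZar.resZar X).obj G)).symm)
    (fun {G G'} g c => (ExtCmp.homTop (ZarCmp.topTerminal X) ((EtZar.resZar X).obj G')).injective (by
      refine ((ExtCmp.homTop (ZarCmp.topTerminal X) ((EtZar.resZar X).obj G')).apply_symm_apply _).trans ?_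
      refine Eq.trans ?_ (ExtCmp.homTop_comp (ZarCmp.topTerminal X) ((EtZar.resZar X).map g) _).symm
      refine Eq.trans ?_ (congrArg (((EtZar.resZar X).map g).hom.app (op ⊤))
        ((ExtCmp.homTop (ZarCmp.topTerminal X) ((EtZar.resZar X).obj G)).apply_symm_apply _)).symm
      rfl))
    p F trivial

end Groth.Agent.EtCore45
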