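import Groth.Agent.EtCore45.ConstSect
import Groth.Agent.EtCore45.StrictZar
import Groth.Agent.EtCore45.SepClNormal
import Groth.Agent.EtCore45.Acyclic
import Groth.Agent.RD97.LES
import Groth.Prelude.Def_EtCore

/-!
Constant sheaves on normal integral schemes with separably closed function field are acyclic.
-/

set_option autoImplicit false
set_option backward.isDefEq.respectTransparency.types false
universe u

open CategoryTheory CategoryTheory.Limits CategoryTheory.Abelian AlgebraicGeometry Opposite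
open Groth.Agent.Unr55.EtSh Groth.Agent.LocConst45

namespace Groth.Agent.EtCore45

variable {X : Scheme.{u}}

theorem sh_of_openImmersion {W : Scheme.{u}} (f : W ⟶ X) (w : W) (N : W.Opens) (hw : w ∈ N)
    [IsOpenImmersion (N.ι ≫ f)] (h : EtCoh.IsStrictlyHenselianLocalRing (X.presheaf.stalk (f w))) :
    EtCoh.IsStrictlyHenselianLocalRing (W.presheaf.stalk w) := by
  let g := N.ι ≫ f
  let w' : (N : Scheme.{u}) := ⟨w, hw⟩
  have h1 : EtCoh.IsStrictlyHenselianLocalRing ((N : Scheme.{u}).presheaf.stalk w') :=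
    strictHens_of_surjective (asIso (g.stalkMap w')).commRingCatIsoToRingEquiv.toRingHom
      (RingEquiv.surjective _) h
  exact strictHens_of_surjective (asIso (N.ι.stalkMap w')).commRingCatIsoToRingEquiv.symm.toRingHom
    (RingEquiv.surjective _) h1

theorem locIrr_etale [IsIntegral X] (hX : ∀ x : X, EtCoh.IsStrictlyHenselianLocalRing (X.presheaf.stalk x))
    {W : Scheme.{u}} (f : W ⟶ X) [Etale f] : LocIrr W := by
  intro w
  obtain ⟨N, hw, hN⟩ := exists_open_immersion_sh f w (hX _)
  have : Nonempty (N : Scheme.{u}) := ⟨⟨w, hw⟩⟩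
  have : IsIntegral (N : Scheme.{u}) := isIntegral_of_isOpenImmersion (N.ι ≫ f)
  exact ⟨N, hw, (inferInstance : IrreducibleSpace (N : Scheme.{u}))⟩

theorem flasque_resZar_cst (W : Scheme.{u}) [EtZar.ZarCont W]
    (hW : ∀ U : W.Opens, LocIrr (U : Scheme.{u})) (M : AddCommGrpCat.{u + 1}) :
    TopCat.Sheaf.IsFlasque (X := W.toTopCat) ((EtZar.resZar W).obj (cst M)) where
  epi {U V} i := by
    rw [AddCommGrpCat.epi_iff_surjective]
    intro s
    let U' : W.Opens := U.unop
    let V' : W.Opens := V.unop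
    let A := (EtZar.zarToEt W).obj U'
    let B := (EtZar.zarToEt W).obj V'
    let m : B ⟶ A := (EtZar.zarToEt W).map i.unop
    let m' : (V' : Scheme.{u}) ⟶ (U' : Scheme.{u}) := W.homOfLE i.unop.le
    let O : (U' : Scheme.{u}).Opens := m'.opensRange
    have hw : m' ≫ U'.ι = V'.ι := W.homOfLE_ι _
    let fwd : openSub A O ⟶ B := MorphismProperty.Over.homMk m'.isoOpensRange.inv (by
      change m'.isoOpensRange.inv ≫ V'.ι = O.ι ≫ U'.ι
      rw [← hw, ← Category.assoc, Scheme.Hom.isoOpensRange_inv_comp]) trivial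
    let bwd : B ⟶ openSub A O := MorphismProperty.Over.homMk m'.isoOpensRange.hom (by
      change m'.isoOpensRange.hom ≫ O.ι ≫ U'.ι = V'.ι
      rw [← Category.assoc, Scheme.Hom.isoOpensRange_hom_ι, hw]) trivial
    obtain ⟨t, ht⟩ := exists_extension M A (hW U') O ((cst M).obj.map fwd.op s)
    refine ⟨t, ?_⟩
    change (cst M).obj.map m.op t = s
    have he : bwd ≫ openSubι A O = m := MorphismProperty.Over.Hom.ext (Scheme.Hom.isoOpensRange_hom_ι m')
    have he' : bwd ≫ fwd = 𝟙 B := MorphismProperty.Over.Hom.ext m'.isoOpensRange.hom_inv_id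
    rw [← he, map_comp', ht, ← map_comp', he']
    simp

theorem isAcyclicEt_cst [IsIntegral X] (hX : ∀ x : X, EtCoh.IsStrictlyHenselianLocalRing (X.presheaf.stalk x))
    (M : AddCommGrpCat.{u + 1}) : IsAcyclicEt (cst (X := X) M) := by
  intro W q hq
  obtain ⟨q, rfl⟩ := Nat.exists_eq_add_one.2 hq
  have : Etale W.hom := W.prop
  have hWsh : ∀ w : W.left, EtCoh.IsStrictlyHenselianLocalRing (W.left.presheaf.stalk w) := fun w => by
    obtain ⟨N, hw, hN⟩ := exists_open_immersion_sh W.hom w (hX _)
    exact sh_of_openImmersion W.hom w N hw (hX _)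
  have : EtZar.ZarCont W.left := Unr55.ZarCmp.zarCont W.left
  obtain ⟨e⟩ := H_equiv_resZar_sh W.left hWsh (cst M) (q + 1)
  have := Unr55.ZarCmp.subsingleton_H_of_flasque W.left _
    (flasque_resZar_cst W.left (fun U => locIrr_etale hX (U.ι ≫ W.hom)) M) q
  have h1 : Subsingleton (EtCoh.H W.left (cst M) (q + 1)) := e.toEquiv.subsingleton
  let i : (EtCoh.pull W.hom).obj (cst M) ≅ cst M := (EtCore.pullConstIso W.hom).app M
  refine ⟨fun a b => ?_⟩
  have h2 : ∀ z : EtCoh.H W.left ((EtCoh.pull W.hom).obj (cst M)) (q + 1),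
      (z.comp (Ext.mk₀ i.hom) (add_zero _)).comp (Ext.mk₀ i.inv) (add_zero _) = z := fun z => by
    rw [Ext.comp_assoc_of_second_deg_zero, Ext.mk₀_comp_mk₀, i.hom_inv_id, Ext.comp_mk₀_id]
  rw [← h2 a, ← h2 b]
  exact congrArg (fun z => Ext.comp z (Ext.mk₀ i.inv) (add_zero _)) (Subsingleton.elim (α := EtCoh.H W.left (cst M) (q + 1)) _ _)

/-- Higher direct images of sheaves acyclic on every object vanish. -/
theorem isZero_Rpush_of_isAcyclicEt {Y : Scheme.{u}} (f : X ⟶ Y) :
    ∀ (q : ℕ) (F : EtCoh.Ab X), IsAcyclicEt F → IsZero ((EtCoh.Rpush f (q + 1)).obj F) := by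
  have : PreservesLimitsOfSize.{0, 0} (EtCoh.push f) := (EtCoh.pullPushAdj f).rightAdjoint_preservesLimits
  have : PreservesFiniteLimits (EtCoh.push f) := PreservesLimitsOfSize.preservesFiniteLimits _
  obtain ⟨Δ⟩ := RD97.nonempty_derivedLES (EtCoh.push f)
  intro q
  induction q with
  | zero =>
    intro F hF
    have hS := injSeq_shortExact F
    have hS' := shortExact_push f hS hF
    have hI : Injective (injSeq F).X₂ := inferInstanceAs (Injective (Injective.under F))
    have hz := (EtCoh.push f).isZero_rightDerived_obj_injective_succ 0 (injSeq F).X₂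
    have he : Epi (((EtCoh.push f).rightDerived 0).map (injSeq F).g) := by
      have hn := (EtCoh.push f).rightDerivedZeroIsoSelf.hom.naturality (injSeq F).g
      have : Epi ((EtCoh.push f).map (injSeq F).g) := hS'.epi_g
      rw [← cancel_mono ((EtCoh.push f).rightDerivedZeroIsoSelf.inv.app (injSeq F).X₃), Category.assoc,
        Iso.hom_inv_id_app, Category.comp_id] at hn
      rw [hn]
      infer_instance
    refine (Δ.exact₁ (injSeq F) hS 0 1 rfl).isZero_X₂ ?_ (hz.eq_of_tgt _ _)
    rw [← cancel_epi (((EtCoh.push f).rightDerived 0).map (injSeq F).g), comp_zero]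
    exact Δ.comp_δ (injSeq F) hS 0 1 rfl
  | succ q ih =>
    intro F hF
    have hS := injSeq_shortExact F
    have hI : Injective (injSeq F).X₂ := inferInstanceAs (Injective (Injective.under F))
    refine (Δ.exact₁ (injSeq F) hS (q + 1) (q + 2) rfl).isZero_X₂
      ((ih _ (isAcyclicEt_quot hS hF (isAcyclicEt_injective _))).eq_of_src _ _)
      (((EtCoh.push f).isZero_rightDerived_obj_injective_succ (q + 1) (injSeq F).X₂).eq_of_tgt _ _)

end Groth.Agent.EtCore45
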