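import Groth.Agent.Unr55.Et.Stalk
import Groth.Agent.EtCore45.QFPiece
import Mathlib.RingTheory.Smooth.NoetherianDescent
import Mathlib.AlgebraicGeometry.Morphisms.Integral
import Mathlib.AlgebraicGeometry.Fiber

/-!
Over integral morphisms, finite families of etale schemes split, etale locally on the base, into clopen pieces.
-/

set_option autoImplicit false
set_option backward.isDefEq.respectTransparency.types false
universe u

open AlgebraicGeometry CategoryTheory Limits IsLocalRing TensorProduct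
open Groth.Agent.FlatMor66 Groth.Agent.Unr55.EtSh

namespace Groth.Agent.EtCore45

variable {X Y : Scheme.{u}}

/-- An etale neighbourhood of `y` over which `X` splits into open pieces mapping to the given family. -/
structure Split (f : X ⟶ Y) {ι : Type u} {U : ι → Scheme.{u}} (g : ∀ i, U i ⟶ X) (y : Y)
    (Z : Set (Σ i, U i)) : Type (u + 1) where
  V : Scheme.{u}
  v : V ⟶ Y
  etale : Etale v
  mem : y ∈ Set.range v
  P : Scheme.{u}
  pr₁ : P ⟶ X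
  pr₂ : P ⟶ V
  isPullback : IsPullback pr₁ pr₂ f v
  μ : Type u
  W : μ → P.Opens
  disj : ∀ a b, a ≠ b → Disjoint (W a) (W b)
  top : ⨆ a, W a = ⊤
  idx : μ → ι
  h : ∀ a, (W a : Scheme.{u}) ⟶ U (idx a)
  comm : ∀ a, h a ≫ g (idx a) = (W a).ι ≫ pr₁
  des : ∀ z ∈ Z, ∃ (a : μ) (w : (W a : Scheme.{u})), (⟨idx a, h a w⟩ : Σ i, U i) = z

/-- A splitting over an open of the base gives one over the base. -/
def Split.ofOpen {f : X ⟶ Y} {ι : Type u} {U : ι → Scheme.{u}} {g : ∀ i, U i ⟶ X} {y : Y}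
    {Z : Set (Σ i, U i)} {X₀ Y₀ : Scheme.{u}} {iX : X₀ ⟶ X} {iY : Y₀ ⟶ Y} [IsOpenImmersion iY]
    {f₀ : X₀ ⟶ Y₀} (hX : IsPullback iX f₀ f iY) {ι₀ : Type u} {U₀ : ι₀ → Scheme.{u}}
    {g₀ : ∀ i, U₀ i ⟶ X₀} {y₀ : Y₀} (hy : iY y₀ = y) {Z₀ : Set (Σ i, U₀ i)}
    (σ : ι₀ → ι) (k : ∀ i, U₀ i ⟶ U (σ i)) (hk : ∀ i, k i ≫ g (σ i) = g₀ i ≫ iX)
    (hZ : Z ⊆ (fun z : Σ i, U₀ i => (⟨σ z.1, k z.1 z.2⟩ : Σ i, U i)) '' Z₀)
    (S : Split f₀ g₀ y₀ Z₀) : Split f g y Z where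
  V := S.V
  v := S.v ≫ iY
  etale := haveI := S.etale; inferInstance
  mem := by
    obtain ⟨w, hw⟩ := S.mem
    exact ⟨w, by rw [Scheme.Hom.comp_apply, hw, hy]⟩
  P := S.P
  pr₁ := S.pr₁ ≫ iX
  pr₂ := S.pr₂
  isPullback := S.isPullback.paste_horiz hX
  μ := S.μ
  W := S.W
  disj := S.disj
  top := S.top
  idx a := σ (S.idx a)
  h a := S.h a ≫ k (S.idx a)
  comm a := by rw [Category.assoc, hk, ← Category.assoc, S.comm, Category.assoc]
  des z hz := by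
    obtain ⟨z₀, hz₀, rfl⟩ := hZ hz
    obtain ⟨a, w, rfl⟩ := S.des z₀ hz₀
    exact ⟨a, w, rfl⟩

/-- A splitting descends along factorisations. -/
theorem Split.nonempty_ofFactor {ι : Type u} {U U₁ : ι → Scheme.{u}} {X₁ : Scheme.{u}}
    (a : X ⟶ X₁) {f₁ : X₁ ⟶ Y} {f : X ⟶ Y} (hf : a ≫ f₁ = f) {g : ∀ i, U i ⟶ X} {g₁ : ∀ i, U₁ i ⟶ X₁}
    {k : ∀ i, U i ⟶ U₁ i} (hk : ∀ i, IsPullback (k i) (g i) (g₁ i) a) {y : Y} {Z : Set (Σ i, U i)}
    (S : Split f₁ g₁ y ((fun z : Σ i, U i => (⟨z.1, k z.1 z.2⟩ : Σ i, U₁ i)) '' Z)) :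
    Nonempty (Split f g y Z) := by
  subst hf
  let p₁ := pullback.fst a S.pr₁
  let p₂ := pullback.snd a S.pr₁
  let W : S.μ → (pullback a S.pr₁).Opens := fun b => p₂ ⁻¹ᵁ S.W b
  have hw : ∀ b, ((p₂ ∣_ S.W b) ≫ S.h b) ≫ g₁ (S.idx b) = ((W b).ι ≫ p₁) ≫ a := fun b => by
    rw [Category.assoc, S.comm, Category.assoc, pullback.condition, ← Category.assoc, morphismRestrict_ι,
      Category.assoc]
  let h : ∀ b, (W b : Scheme.{u}) ⟶ U (S.idx b) := fun b => (hk (S.idx b)).lift _ _ (hw b)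
  refine ⟨{ V := S.V, v := S.v, etale := S.etale, mem := S.mem, P := pullback a S.pr₁, pr₁ := p₁,
            pr₂ := p₂ ≫ S.pr₂,
            isPullback := (IsPullback.of_hasPullback a S.pr₁).paste_vert S.isPullback,
            μ := S.μ, W := W,
            disj := fun b c hbc => by
              refine disjoint_iff.2 ?_
              rw [← Scheme.Hom.preimage_inf, (S.disj b c hbc).eq_bot, Scheme.Hom.preimage_bot]
            top := by rw [← Scheme.Hom.preimage_iSup, S.top, Scheme.Hom.preimage_top],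
            idx := S.idx, h := h,
            comm := fun b => (hk (S.idx b)).lift_snd _ _ _,
            des := ?_ }⟩
  rintro ⟨i, u⟩ hz
  obtain ⟨b, w₁, hb⟩ := S.des _ ⟨⟨i, u⟩, hz, rfl⟩
  obtain ⟨rfl, hbu⟩ := Sigma.mk.inj_iff.1 hb
  have hbig : IsPullback (p₂ ∣_ S.W b) (h b ≫ g (S.idx b)) (S.h b ≫ g₁ (S.idx b)) a := by
    rw [(hk (S.idx b)).lift_snd, S.comm]
    exact ((isPullback_morphismRestrict p₂ (S.W b)).paste_vert (IsPullback.of_hasPullback a S.pr₁).flip)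
  have hsq : IsPullback (p₂ ∣_ S.W b) (h b) (S.h b) (k (S.idx b)) :=
    IsPullback.of_bot hbig ((hk (S.idx b)).lift_fst _ _ _).symm (hk (S.idx b))
  obtain ⟨z, -, hz2⟩ := Scheme.Pullback.exists_preimage_pullback (f := S.h b) (g := k (S.idx b)) w₁ u
    (eq_of_heq hbu)
  refine ⟨b, hsq.isoPullback.inv z, ?_⟩
  congr 1
  rw [← Scheme.Hom.comp_apply, hsq.isoPullback_inv_snd]
  exact hz2

/-- A geometric point over `y` together with lifts of all the points above it. -/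
theorem exists_geom_choice {f : X ⟶ Y} [IsFinite f] {ι : Type u} {U : ι → Scheme.{u}} (g : ∀ i, U i ⟶ X)
    [∀ i, Etale (g i)] (y : Y) (hy : ∀ x, f x = y → ∃ i u, g i u = x) (Z : Set (Σ i, U i)) (hZ : Z.Subsingleton)
    (hZy : ∀ z ∈ Z, f (g z.1 z.2) = y) :
    ∃ (K : Type u) (_ : Field K) (_ : IsAlgClosed K) (r : Spec (CommRingCat.of K) ⟶ Y)
      (i : GPt f r → ι) (l : ∀ ξ, Spec (CommRingCat.of K) ⟶ U (i ξ)),
      gpt r = y ∧ (∀ ξ, l ξ ≫ g (i ξ) = ξ.1) ∧ ∀ z ∈ Z, ∃ ξ, (⟨i ξ, gpt (l ξ)⟩ : Σ i, U i) = z := by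
  classical
  have lift : ∀ (K : Type u) [Field K] [IsAlgClosed K] (r : Spec (CommRingCat.of K) ⟶ Y), gpt r = y →
      ∀ ξ : GPt f r, ∃ z : Σ i, (Spec (CommRingCat.of K) ⟶ U i), z.2 ≫ g z.1 = ξ.1 := by
    intro K _ _ r hr ξ
    obtain ⟨i, u, hu⟩ := hy (gpt ξ.1) (by rw [← gpt_comp, ξ.2, hr])
    have : LocallyQuasiFinite (g i) := lqf_of_etale _
    obtain ⟨q, -⟩ := exists_lift (g i) ξ.1 u hu
    exact ⟨⟨i, q.1⟩, q.2⟩
  rcases Z.eq_empty_or_nonempty with rfl | ⟨⟨i₀, u₀⟩, hz⟩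
  · obtain ⟨K, _, _, r, hr⟩ := exists_gpt (V := Y) y
    choose z hz using lift K r hr
    exact ⟨K, inferInstance, inferInstance, r, fun ξ => (z ξ).1, fun ξ => (z ξ).2, hr, hz, fun _ h => h.elim⟩
  · obtain ⟨K, _, _, l₀, hl₀⟩ := exists_gpt (V := U i₀) u₀
    let r := l₀ ≫ g i₀ ≫ f
    have hr : gpt r = y := by rw [gpt_comp, Scheme.Hom.comp_apply, hl₀]; exact hZy _ hz
    choose z hz' using lift K r hr
    let ξ₀ : GPt f r := ⟨l₀ ≫ g i₀, Category.assoc _ _ _⟩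
    let z' := Function.update z ξ₀ ⟨i₀, l₀⟩
    refine ⟨K, inferInstance, inferInstance, r, fun ξ => (z' ξ).1, fun ξ => (z' ξ).2, hr, fun ξ => ?_, ?_⟩
    · by_cases hξ : ξ = ξ₀
      · subst hξ
        exact (congrArg (fun w : Σ i, (Spec (CommRingCat.of K) ⟶ U i) => w.2 ≫ g w.1 = l₀ ≫ g i₀)
          (Function.update_self ξ₀ _ z)).mpr rfl
      · exact (congrArg (fun w : Σ i, (Spec (CommRingCat.of K) ⟶ U i) => w.2 ≫ g w.1 = ξ.1)
          (Function.update_of_ne hξ _ z)).mpr (hz' ξ)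
    · intro w hw
      obtain rfl := hZ hw hz
      refine ⟨ξ₀, ?_⟩
      exact (congrArg (fun w : Σ i, (Spec (CommRingCat.of K) ⟶ U i) => (⟨w.1, gpt w.2⟩ : Σ i, U i))
        (Function.update_self ξ₀ _ z)).trans (Sigma.ext rfl (heq_of_eq hl₀))

/-- The clopen pieces over a common etale neighbourhood, before shrinking it. -/
theorem exists_split_finite {f : X ⟶ Y} [IsFinite f] {ι : Type u} {U : ι → Scheme.{u}} (g : ∀ i, U i ⟶ X)
    [∀ i, Etale (g i)] (y : Y) (hy : ∀ x, f x = y → ∃ i u, g i u = x) (Z : Set (Σ i, U i)) (hZ : Z.Subsingleton)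
    (hZy : ∀ z ∈ Z, f (g z.1 z.2) = y) : Nonempty (Split f g y Z) := by
  classical
  obtain ⟨K, _, _, r, idx, l, hr, hl, hdes⟩ := exists_geom_choice g y hy Z hZ hZy
  have : Finite (GPt f r) := finite_GPt f r (f.finite_preimage_singleton _)
  choose W b r' P Q q₁ q₂ j gQ m hb hr' hP hjo hjc hg hmg hmr hu using fun ξ : GPt f r =>
    exists_clopen_piece f (g (idx ξ)) r (l ξ) (by rw [← Category.assoc, hl, ξ.2])
  have := Fintype.ofFinite (GPt f r)
  let O' : GPt f r → (Scheme.pointSmallEtale r).fiber.Elements := fun ξ =>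
    (Scheme.pointSmallEtale r).fiber.elementsMk (@Scheme.Etale.mk _ _ (b ξ) (hb ξ)) (mkPt r (r' ξ) (hr' ξ))
  obtain ⟨S, hS⟩ := IsCofiltered.inf_objs_exists (C := (Scheme.pointSmallEtale r).fiber.Elements)
    (Finset.univ.image O')
  have φ := fun ξ : GPt f r => hS (Finset.mem_image_of_mem O' (Finset.mem_univ ξ))
  let V₁ : Scheme.{u} := S.1.left
  let v₁ : V₁ ⟶ Y := S.1.hom
  have : Etale v₁ := S.1.prop
  let r₁ : Spec (CommRingCat.of K) ⟶ V₁ := hom r S.2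
  have hr₁ : r₁ ≫ v₁ = r := Over.w S.2
  let φ' : ∀ ξ, V₁ ⟶ W ξ := fun ξ => (φ ξ).some.val.left
  have hφ : ∀ ξ, φ' ξ ≫ b ξ = v₁ := fun ξ => MorphismProperty.Over.w (φ ξ).some.val
  have hφr : ∀ ξ, r₁ ≫ φ' ξ = r' ξ := fun ξ =>
    congrArg (fun t => hom r t) (φ ξ).some.property
  let P₁ := pullback f v₁
  let pB := pullback.snd f v₁
  have : IsFinite pB := MorphismProperty.pullback_snd _ _ inferInstance
  let ψ : ∀ ξ, P₁ ⟶ P ξ := fun ξ => (hP ξ).lift (pullback.fst f v₁) (pB ≫ φ' ξ)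
    (by rw [Category.assoc, hφ]; exact pullback.condition)
  have := hjo
  have := hjc
  let A : GPt f r → P₁.Opens := fun ξ => ψ ξ ⁻¹ᵁ (j ξ).opensRange
  have hA : ∀ ξ, IsClosed (A ξ : Set P₁) := fun ξ =>
    (j ξ).isClosedEmbedding.isClosed_range.preimage (ψ ξ).continuous
  let c : GPt f r → (Spec (CommRingCat.of K) ⟶ P₁) := fun η => pullback.lift η.1 r₁ (η.2.trans hr₁.symm)
  have hc : ∀ ξ, c ξ ≫ ψ ξ = m ξ ≫ j ξ := fun ξ => by
    refine (hP ξ).hom_ext ?_ ?_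
    · rw [Category.assoc, (hP ξ).lift_fst, pullback.lift_fst, Category.assoc, ← hg ξ, ← Category.assoc,
        hmg ξ, hl]
    · rw [Category.assoc, (hP ξ).lift_snd, pullback.lift_snd_assoc, hφr, Category.assoc, hmr]
  have hcA : ∀ ξ, gpt (c ξ) ∈ A ξ := fun ξ =>
    ⟨gpt (m ξ), by rw [← gpt_comp, ← gpt_comp, hc]⟩
  have huniq : ∀ ξ η, gpt (c η) ∈ A ξ → η = ξ := by
    intro ξ η hη
    let m' := IsOpenImmersion.lift (j ξ) (c η ≫ ψ ξ) (by
      rintro _ ⟨t, rfl⟩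
      rw [Subsingleton.elim t (closedPoint K), Scheme.Hom.comp_apply]
      exact hη)
    have hm' : m' ≫ j ξ = c η ≫ ψ ξ := IsOpenImmersion.lift_fac _ _ _
    have e := hu ξ m' (by
      rw [← Category.assoc, hm', Category.assoc, (hP ξ).lift_snd, pullback.lift_snd_assoc, hφr])
    refine Subtype.ext ?_
    have h1 : (c η ≫ ψ ξ) ≫ q₁ ξ = η.1 := by rw [Category.assoc, (hP ξ).lift_fst, pullback.lift_fst]
    rw [← h1, ← hm', e, Category.assoc, ← hg ξ, ← Category.assoc, hmg, hl]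
  let B : Set P₁ := (⋃ ξ, (A ξ : Set P₁))ᶜ ∪ ⋃ (ξ) (η) (_ : ξ ≠ η), (A ξ : Set P₁) ∩ A η
  have hB : IsClosed B := (isOpen_iUnion fun ξ => (A ξ).2).isClosed_compl.union
    (isClosed_iUnion_of_finite fun ξ => isClosed_iUnion_of_finite fun η =>
      isClosed_iUnion_of_finite fun _ => (hA ξ).inter (hA η))
  let O : V₁.Opens := ⟨(pB '' B)ᶜ, (pB.isClosedMap _ hB).isOpen_compl⟩
  have hrO : gpt r₁ ∈ O := by
    rintro ⟨p, hp, hpr⟩
    obtain ⟨⟨q, hq⟩, hqp⟩ := exists_lift pB r₁ p hpr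
    subst p
    let η : GPt f r := ⟨q ≫ pullback.fst f v₁, by
      rw [Category.assoc, pullback.condition, ← Category.assoc, hq, hr₁]⟩
    have e : q = c η := pullback.hom_ext (pullback.lift_fst _ _ _).symm (hq.trans (pullback.lift_snd _ _ _).symm)
    replace hp : gpt (c η) ∈ B := e ▸ hp
    rcases hp with hp | hp
    · exact hp (Set.mem_iUnion.2 ⟨η, hcA η⟩)
    · simp only [Set.mem_iUnion] at hp
      obtain ⟨ξ, ξ', hne, h1, h2⟩ := hp
      exact hne ((huniq ξ η h1).symm.trans (huniq ξ' η h2))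
  let P₂ : P₁.Opens := pB ⁻¹ᵁ O
  have hP₂ : ∀ p : P₂.toScheme, P₂.ι p ∉ B := fun p hp => (P₂.range_ι.le ⟨p, rfl⟩ : P₂.ι p ∈ P₂) ⟨_, hp, rfl⟩
  let A₂ : GPt f r → P₂.toScheme.Opens := fun ξ => P₂.ι ⁻¹ᵁ A ξ
  let h : ∀ ξ, (A₂ ξ : Scheme.{u}) ⟶ U (idx ξ) := fun ξ => IsOpenImmersion.lift (j ξ) ((A₂ ξ).ι ≫ P₂.ι ≫ ψ ξ)
    (by rintro _ ⟨p, rfl⟩; exact ((A₂ ξ).range_ι.le ⟨p, rfl⟩ :)) ≫ gQ ξ
  refine ⟨{ V := O, v := O.ι ≫ v₁, etale := inferInstance,
            mem := ?_, P := P₂, pr₁ := P₂.ι ≫ pullback.fst f v₁, pr₂ := pB ∣_ O,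
            isPullback := (isPullback_morphismRestrict pB O).flip.paste_horiz (IsPullback.of_hasPullback f v₁),
            μ := GPt f r, W := A₂, disj := ?_, top := ?_, idx := idx, h := h, comm := ?_, des := ?_ }⟩
  · obtain ⟨o, ho⟩ := O.range_ι.ge hrO
    exact ⟨o, by rw [Scheme.Hom.comp_apply, ho, ← gpt_comp, hr₁, hr]⟩
  · intro ξ η hne
    refine disjoint_iff.2 (le_bot_iff.1 fun p hp => hP₂ p (Or.inr ?_))
    exact Set.mem_iUnion.2 ⟨ξ, Set.mem_iUnion.2 ⟨η, Set.mem_iUnion.2 ⟨hne, hp.1, hp.2⟩⟩⟩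
  · refine top_le_iff.1 fun p _ => TopologicalSpace.Opens.mem_iSup.2 ?_
    by_contra hp
    exact hP₂ p (Or.inl fun hp' => hp (by obtain ⟨ξ, hξ⟩ := Set.mem_iUnion.1 hp'; exact ⟨ξ, hξ⟩))
  · intro ξ
    rw [Category.assoc, hg, ← Category.assoc, IsOpenImmersion.lift_fac]
    simp only [Category.assoc, ψ, (hP ξ).lift_fst]
  · intro z hz
    obtain ⟨ξ, rfl⟩ := hdes z hz
    have hcP : gpt (c ξ) ∈ P₂ := by
      change pB (gpt (c ξ)) ∈ O
      rw [← gpt_comp, pullback.lift_snd]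
      exact hrO
    obtain ⟨p, hp⟩ := P₂.range_ι.ge hcP
    obtain ⟨w, hw⟩ := (A₂ ξ).range_ι.ge (show p ∈ A₂ ξ from (hp.symm ▸ hcA ξ :))
    refine ⟨ξ, w, ?_⟩
    congr 1
    rw [Scheme.Hom.comp_apply, ← hmg ξ, gpt_comp]
    refine congrArg (gQ ξ) ((j ξ).isOpenEmbedding.injective ?_)
    rw [← Scheme.Hom.comp_apply, IsOpenImmersion.lift_fac, Scheme.Hom.comp_apply, hw, Scheme.Hom.comp_apply, hp,
      ← gpt_comp, hc, gpt_comp]

/-- The same for integral morphisms between affine schemes and an affine family. -/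
theorem exists_split_spec {A B : Type u} [CommRing A] [CommRing B] [Algebra A B] [Algebra.IsIntegral A B]
    {ι : Type u} [Finite ι] (C : ι → Type u) [∀ i, CommRing (C i)] [∀ i, Algebra B (C i)]
    [∀ i, Algebra.Etale B (C i)] (y : Spec (CommRingCat.of A))
    (hy : ∀ x : Spec (CommRingCat.of B), Spec.map (CommRingCat.ofHom (algebraMap A B)) x = y →
      ∃ i u, Spec.map (CommRingCat.ofHom (algebraMap B (C i))) u = x)
    (Z : Set (Σ i, Spec (CommRingCat.of (C i)))) (hZ : Z.Subsingleton)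
    (hZy : ∀ z ∈ Z, Spec.map (CommRingCat.ofHom (algebraMap A B))
      (Spec.map (CommRingCat.ofHom (algebraMap B (C z.1))) z.2) = y) :
    Nonempty (Split (Spec.map (CommRingCat.ofHom (algebraMap A B)))
      (fun i => Spec.map (CommRingCat.ofHom (algebraMap B (C i)))) y Z) := by
  classical
  choose S C₀ _ _ hS hE e using fun i => Algebra.Etale.exists_subalgebra_fg (R := A) (A := B) (B := C i)
  choose s hs using hS
  have := Fintype.ofFinite ι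
  let B₀ : Subalgebra A B := Algebra.adjoin A ↑(Finset.univ.biUnion s)
  have hle : ∀ i, S i ≤ B₀ := fun i => (hs i).ge.trans
    (Algebra.adjoin_mono (Finset.coe_subset.2 (Finset.subset_biUnion_of_mem s (Finset.mem_univ i))))
  have : Algebra.FiniteType A B₀ := ⟨B₀.fg_top.2 ⟨_, rfl⟩⟩
  have : Algebra.IsIntegral A B₀ := Algebra.IsIntegral.of_injective B₀.val Subtype.val_injective
  have : Module.Finite A B₀ := Algebra.IsIntegral.finite
  let a : Spec (CommRingCat.of B) ⟶ Spec (CommRingCat.of B₀) := Spec.map (CommRingCat.ofHom B₀.val.toRingHom)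
  let f₁ : Spec (CommRingCat.of B₀) ⟶ Spec (CommRingCat.of A) := Spec.map (CommRingCat.ofHom (algebraMap A B₀))
  have : IsFinite f₁ := (IsFinite.SpecMap_iff _).2 (RingHom.finite_algebraMap.2 inferInstance)
  have haf : a ≫ f₁ = Spec.map (CommRingCat.ofHom (algebraMap A B)) := by rw [← Spec.map_comp]; rfl
  have ha : Function.Surjective a := by
    have : (B₀.val.toRingHom).IsIntegral := fun x => by
      have hx := (Algebra.IsIntegral.isIntegral (R := A) x).tower_top (A := B₀)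
      exact hx
    exact this.comap_surjective Subtype.val_injective
  let t : ∀ i, Spec (CommRingCat.of B₀) ⟶ Spec (CommRingCat.of (S i)) := fun i =>
    Spec.map (CommRingCat.ofHom (Subalgebra.inclusion (hle i)).toRingHom)
  let g₀ : ∀ i, Spec (CommRingCat.of (C₀ i)) ⟶ Spec (CommRingCat.of (S i)) := fun i =>
    Spec.map (CommRingCat.ofHom (algebraMap (S i) (C₀ i)))
  have : ∀ i, Etale (g₀ i) := fun i => HasRingHomProperty.Spec_iff.2 (RingHom.etale_algebraMap.2 (hE i))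
  let k₀ : ∀ i, Spec (CommRingCat.of (C i)) ⟶ Spec (CommRingCat.of (C₀ i)) := fun i =>
    Spec.map (CommRingCat.ofHom ((e i).some.symm.toRingHom.comp
      (Algebra.TensorProduct.includeRight (R := S i) (A := B) (B := C₀ i)).toRingHom))
  have hbig : ∀ i, IsPullback (k₀ i) (Spec.map (CommRingCat.ofHom (algebraMap B (C i)))) (g₀ i) (a ≫ t i) := by
    intro i
    have h0 := (isPullback_SpecMap_of_isPushout _ _ _ _ (CommRingCat.isPushout_tensorProduct (S i) B (C₀ i))).flip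
    refine h0.of_iso (Scheme.Spec.mapIso (e i).some.toRingEquiv.toCommRingCatIso.op) (Iso.refl _) (Iso.refl _)
      (Iso.refl _) ?_ ?_ ?_ ?_
    · rw [Iso.refl_hom, Category.comp_id]
      simp only [k₀, Functor.mapIso_hom, Iso.op_hom, Scheme.Spec_map, Quiver.Hom.unop_op, ← Spec.map_comp]
      congr 1
      ext x
      exact ((e i).some.apply_symm_apply _).symm
    · rw [Iso.refl_hom, Category.comp_id]
      simp only [Functor.mapIso_hom, Iso.op_hom, Scheme.Spec_map, Quiver.Hom.unop_op, ← Spec.map_comp]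
      congr 1
      ext x
      exact ((e i).some.commutes x).symm
    · rw [Iso.refl_hom, Iso.refl_hom, Category.comp_id, Category.id_comp]
    · rw [Iso.refl_hom, Iso.refl_hom, Category.comp_id, Category.id_comp, ← Spec.map_comp]
      rfl
  let U₁ : ι → Scheme.{u} := fun i => pullback (g₀ i) (t i)
  let g₁ : ∀ i, U₁ i ⟶ Spec (CommRingCat.of B₀) := fun i => pullback.snd (g₀ i) (t i)
  have : ∀ i, Etale (g₁ i) := fun i => inferInstanceAs (Etale (pullback.snd (g₀ i) (t i)))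
  let k : ∀ i, Spec (CommRingCat.of (C i)) ⟶ U₁ i := fun i => pullback.lift (k₀ i)
    (Spec.map (CommRingCat.ofHom (algebraMap B (C i))) ≫ a) (by rw [Category.assoc]; exact (hbig i).w)
  have hk : ∀ i, IsPullback (k i) (Spec.map (CommRingCat.ofHom (algebraMap B (C i)))) (g₁ i) a := fun i =>
    IsPullback.of_right (by rw [pullback.lift_fst]; exact hbig i) (pullback.lift_snd _ _ _)
      (IsPullback.of_hasPullback (g₀ i) (t i))
  obtain ⟨T⟩ := exists_split_finite (f := f₁) g₁ y (fun x₁ hx₁ => by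
      obtain ⟨x, rfl⟩ := ha x₁
      obtain ⟨i, u, rfl⟩ := hy x (by rw [← haf, Scheme.Hom.comp_apply, hx₁])
      exact ⟨i, k i u, by rw [← Scheme.Hom.comp_apply, (hk i).w, Scheme.Hom.comp_apply]⟩)
    ((fun z : Σ i, Spec (CommRingCat.of (C i)) => (⟨z.1, k z.1 z.2⟩ : Σ i, U₁ i)) '' Z)
    (hZ.image _) (by
      rintro _ ⟨z, hz, rfl⟩
      refine (congrArg f₁ (congr($((hk z.1).w) z.2))).trans ?_
      refine Eq.trans ?_ (hZy z hz)
      exact congr($haf (Spec.map (CommRingCat.ofHom (algebraMap B (C z.1))) z.2)))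
  exact Split.nonempty_ofFactor a haf hk T

theorem exists_split_affine [IsAffine X] [IsAffine Y] (f : X ⟶ Y) [IsIntegralHom f] {ι : Type u} [Finite ι]
    {U : ι → Scheme.{u}} [∀ i, IsAffine (U i)] (g : ∀ i, U i ⟶ X) [∀ i, Etale (g i)] (y : Y)
    (hy : ∀ x, f x = y → ∃ i u, g i u = x) (Z : Set (Σ i, U i)) (hZ : Z.Subsingleton)
    (hZy : ∀ z ∈ Z, f (g z.1 z.2) = y) : Nonempty (Split f g y Z) := by
  algebraize [f.appTop.hom]
  have : Algebra.IsIntegral Γ(Y, ⊤) Γ(X, ⊤) := ⟨((HasAffineProperty.iff_of_isAffine (P := @IsIntegralHom)).1 ‹IsIntegralHom f›).2⟩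
  let : ∀ i, Algebra Γ(X, ⊤) Γ(U i, ⊤) := fun i => (g i).appTop.hom.toAlgebra
  have : ∀ i, Algebra.Etale Γ(X, ⊤) Γ(U i, ⊤) := fun i =>
    RingHom.etale_algebraMap.1 (HasRingHomProperty.appTop (P := @Etale) (g i) inferInstance)
  have nf : ∀ x, Spec.map (CommRingCat.ofHom (algebraMap Γ(Y, ⊤) Γ(X, ⊤))) (X.isoSpec.hom x) = Y.isoSpec.hom (f x) :=
    fun x => by rw [← Scheme.Hom.comp_apply, ← Scheme.Hom.comp_apply]; exact congr($(Scheme.isoSpec_hom_naturality f) x)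
  have ng : ∀ i u, Spec.map (CommRingCat.ofHom (algebraMap Γ(X, ⊤) Γ(U i, ⊤))) ((U i).isoSpec.hom u) =
      X.isoSpec.hom (g i u) :=
    fun i u => by rw [← Scheme.Hom.comp_apply, ← Scheme.Hom.comp_apply]; exact congr($(Scheme.isoSpec_hom_naturality (g i)) u)
  let Z₀ := (fun z : Σ i, U i => (⟨z.1, (U z.1).isoSpec.hom z.2⟩ : Σ i, Spec (CommRingCat.of Γ(U i, ⊤)))) '' Z
  obtain ⟨T⟩ := exists_split_spec (A := Γ(Y, ⊤)) (B := Γ(X, ⊤)) (fun i => Γ(U i, ⊤)) (Y.isoSpec.hom y)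
    (fun x hx => by
      obtain ⟨x, rfl⟩ := (X.isoSpec.hom).surjective x
      obtain ⟨i, u, rfl⟩ := hy x (Y.isoSpec.hom.isOpenEmbedding.injective ((nf x).symm.trans hx))
      exact ⟨i, (U i).isoSpec.hom u, ng i u⟩) Z₀ (hZ.image _) (by
      rintro _ ⟨z, hz, rfl⟩
      rw [ng, nf, hZy z hz])
  refine ⟨T.ofOpen (iX := X.isoSpec.inv) (iY := Y.isoSpec.inv)
    (IsPullback.of_horiz_isIso ⟨Scheme.isoSpec_inv_naturality f |>.symm⟩)
    ((Scheme.Hom.comp_apply _ _ _).symm.trans (congr($(Y.isoSpec.hom_inv_id) y)))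
    id (fun i => (U i).isoSpec.inv) (fun i => (Scheme.isoSpec_inv_naturality (g i)).symm) ?_⟩
  intro z hz
  refine ⟨⟨z.1, (U z.1).isoSpec.hom z.2⟩, ⟨z, hz, rfl⟩, Sigma.ext rfl (heq_of_eq ?_)⟩
  exact (Scheme.Hom.comp_apply _ _ _).symm.trans (congr($((U z.1).isoSpec.hom_inv_id) z.2))

/-- Etale families over an integral scheme split etale locally on the base. -/
theorem exists_split (f : X ⟶ Y) [IsIntegralHom f] {ι : Type u} {U : ι → Scheme.{u}} (g : ∀ i, U i ⟶ X)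
    [∀ i, Etale (g i)] (y : Y) (hy : ∀ x, f x = y → ∃ i u, g i u = x) (Z : Set (Σ i, U i)) (hZ : Z.Subsingleton)
    (hZy : ∀ z ∈ Z, f (g z.1 z.2) = y) : Nonempty (Split f g y Z) := by
  classical
  obtain ⟨Y₀, hY₀, hyY₀, -⟩ := exists_isAffineOpen_mem_and_subset (U := ⊤) (TopologicalSpace.Opens.mem_top y)
  let X₀ := f ⁻¹ᵁ Y₀
  have piece : ∀ z : Σ i, U i, f (g z.1 z.2) = y → ∃ O : (U z.1).Opens, IsAffineOpen O ∧ z.2 ∈ O ∧
      O ≤ g z.1 ⁻¹ᵁ X₀ := fun z hz => by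
    obtain ⟨O, hO, hzO, hle⟩ := exists_isAffineOpen_mem_and_subset (U := g z.1 ⁻¹ᵁ X₀) (x := z.2)
      (show f (g z.1 z.2) ∈ Y₀ by rw [hz]; exact hyY₀)
    exact ⟨O, hO, hzO, hle⟩
  choose O hO hzO hle using piece
  choose zi zu hzu using fun x : {x : X // f x = y} => hy x.1 x.2
  let zx : {x : X // f x = y} → Σ i, U i := fun x => ⟨zi x, zu x⟩
  have hzx : ∀ x, f (g (zx x).1 (zx x).2) = y := fun x => by
    change f (g (zi x) (zu x)) = y
    rw [hzu]; exact x.2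
  obtain ⟨t, ht⟩ := (f.isCompact_preimage_singleton y).elim_finite_subcover
    (fun x : {x : X // f x = y} => g (zx x).1 '' (O _ (hzx x) : Set (U (zx x).1)))
    (fun x => (g (zx x).1).isOpenMap _ (O _ (hzx x)).2)
    (fun x hx => Set.mem_iUnion.2 ⟨⟨x, hx⟩, zu ⟨x, hx⟩, hzO _ (hzx ⟨x, hx⟩), hzu ⟨x, hx⟩⟩)
  let ι₀ := {z : Σ i, U i // f (g z.1 z.2) = y ∧ ((∃ x ∈ t, zx x = z) ∨ z ∈ Z)}
  have hfin : Finite ι₀ :=
    (((t.image zx).finite_toSet.union hZ.finite).subset fun z hz => hz.2.imp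
      (fun ⟨x, hx, e⟩ => Finset.mem_coe.2 (Finset.mem_image.2 ⟨x, hx, e⟩)) id).to_subtype
  let U₀ : ι₀ → Scheme.{u} := fun z => (O z.1 z.2.1 : Scheme.{u})
  have : ∀ z, IsAffine (U₀ z) := fun z => hO z.1 z.2.1
  have : IsAffine Y₀ := hY₀
  have : IsAffine X₀ := hY₀.preimage f
  let g₀ : ∀ z, U₀ z ⟶ X₀ := fun z => IsOpenImmersion.lift X₀.ι ((O z.1 z.2.1).ι ≫ g z.1.1) (by
    rintro _ ⟨w, rfl⟩
    rw [Scheme.Opens.range_ι]
    exact hle z.1 z.2.1 ((O z.1 z.2.1).range_ι.le ⟨w, rfl⟩))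
  have hg₀ : ∀ z, g₀ z ≫ X₀.ι = (O z.1 z.2.1).ι ≫ g z.1.1 := fun z => IsOpenImmersion.lift_fac _ _ _
  have : ∀ z, Etale (g₀ z) := fun z => by
    have : Etale (g₀ z ≫ X₀.ι) := by rw [hg₀]; infer_instance
    exact Etale.of_comp (g₀ z) X₀.ι
  have hsq : IsPullback X₀.ι (f ∣_ Y₀) f Y₀.ι := (isPullback_morphismRestrict f Y₀).flip
  have hres : ∀ p, Y₀.ι ((f ∣_ Y₀) p) = f (X₀.ι p) := fun p => by
    rw [← Scheme.Hom.comp_apply, morphismRestrict_ι, Scheme.Hom.comp_apply]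
  have : IsIntegralHom (f ∣_ Y₀) := MorphismProperty.of_isPullback hsq inferInstance
  obtain ⟨y₀, hy₀⟩ := Y₀.range_ι.ge hyY₀
  obtain ⟨T⟩ := exists_split_affine (f ∣_ Y₀) g₀ y₀ (fun p hp => by
      obtain ⟨x, hx, u, huO, hux⟩ := Set.mem_iUnion₂.1 (ht (show X₀.ι p ∈ f ⁻¹' {y} by
        rw [Set.mem_preimage, Set.mem_singleton_iff, ← hres, hp, hy₀]))
      obtain ⟨w, rfl⟩ := (O _ (hzx x)).range_ι.ge huO
      refine ⟨⟨zx x, hzx x, Or.inl ⟨x, hx, rfl⟩⟩, w, X₀.ι.isOpenEmbedding.injective ?_⟩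
      rw [← Scheme.Hom.comp_apply, hg₀, Scheme.Hom.comp_apply]
      exact hux)
    {w | w.1.1 ∈ Z ∧ (O w.1.1 w.1.2.1).ι w.2 = w.1.1.2} (by
      rintro ⟨z, w⟩ ⟨hz, hw⟩ ⟨z', w'⟩ ⟨hz', hw'⟩
      obtain rfl : z = z' := Subtype.ext (hZ hz hz')
      exact congrArg _ ((O z.1 z.2.1).ι.isOpenEmbedding.injective (hw.trans hw'.symm))) (by
      rintro ⟨z, w⟩ ⟨hz, hw⟩
      refine Y₀.ι.isOpenEmbedding.injective ?_
      rw [hres, hy₀]
      refine (congrArg f ?_).trans z.2.1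
      exact (Scheme.Hom.comp_apply _ _ _).symm.trans ((congr($(hg₀ z) w)).trans
        ((Scheme.Hom.comp_apply _ _ _).trans (congrArg (g z.1.1) hw))))
  refine ⟨T.ofOpen hsq hy₀ (fun z => z.1.1) (fun z => (O z.1 z.2.1).ι) (fun z => (hg₀ z).symm) fun z hz => ?_⟩
  obtain ⟨w, hw⟩ := (O z (hZy z hz)).range_ι.ge (hzO z (hZy z hz))
  exact ⟨⟨⟨z, hZy z hz, Or.inr hz⟩, w⟩, ⟨hz, hw⟩, Sigma.ext rfl (heq_of_eq hw)⟩

end Groth.Agent.EtCore45
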